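import Mathlib

/-!
# The linear algebra over `ℤ/4` behind the frame

Owner: helper60.
-/

set_option autoImplicit false
set_option maxRecDepth 4000
set_option synthInstance.maxSize 512

namespace Cfsg.Agent.Lib.HS60

/-- Coordinates in the homocyclic group of order 64. -/
abbrev V3 : Type := ZMod 4 × ZMod 4 × ZMod 4

/-- The linear map with the given columns. -/
def lin (c0 c1 c2 v : V3) : V3 :=
  (v.1 * c0.1 + v.2.1 * c1.1 + v.2.2 * c2.1,
    v.1 * c0.2.1 + v.2.1 * c1.2.1 + v.2.2 * c2.2.1,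
    v.1 * c0.2.2 + v.2.1 * c1.2.2 + v.2.2 * c2.2.2)

/-- First coordinate vector. -/
abbrev e0 : V3 := (1, 0, 0)
/-- Second coordinate vector. -/
abbrev e1 : V3 := (0, 1, 0)
/-- Third coordinate vector. -/
abbrev e2 : V3 := (0, 0, 1)

/-- The action of `s`. -/
abbrev LS : V3 → V3 := lin e1 e2 (1, 2, 1)
/-- The action of `r`. -/
abbrev LR : V3 → V3 := lin e0 e2 (1, 3, 3)
/-- The action of `w`. -/
abbrev LW : V3 → V3 := lin (3, 0, 0) (3, 1, 1) (0, 0, 3)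

theorem sCol_unique : ∀ c : V3, 2 • c = (2, 0, 2) →
    (lin e1 e2 c)^[7] e0 = e0 → c = (1, 2, 1) := by decide +kernel

theorem rCol_eq : LS^[4] e0 = (1, 3, 3) := by decide +kernel

theorem wCol_unique : ∀ w0 : V3, (w0 = (1, 0, 0) ∨ w0 = (3, 0, 0)) → ∀ w1 : V3, 2 • w1 = (2, 2, 2) →
    ∀ w2 : V3, 2 • w2 = (0, 0, 2) →
    lin w0 w1 w2 (lin w0 w1 w2 e1) = e1 → lin w0 w1 w2 (lin w0 w1 w2 e2) = e2 →
    lin w0 w1 w2 (LR (lin w0 w1 w2 e1)) = LR (LR e1) →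
    lin w0 w1 w2 (LR (lin w0 w1 w2 e2)) = LR (LR e2) →
    (fun v => LS (lin w0 w1 w2 v))^[3] e1 = e1 →
    w0 = (3, 0, 0) ∧ w1 = (3, 1, 1) ∧ w2 = (0, 0, 3) := by decide +kernel

theorem fix_LR : ∀ x : V3, LR x = x → x.2.1 = 0 ∧ x.2.2 = 0 := by decide +kernel

theorem norm_LR : ∀ y : V3, y + LR y + LR (LR y) = 0 → ∃ x : V3, x - LR (LR x) = -y := by
  decide +kernel

theorem no_invol_w : ∀ x : V3, x + LW x + (2, 0, 0) ≠ 0 := by decide +kernel

end Cfsg.Agent.Lib.HS60
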