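import Cfsg.Agent.Lib.HS60.Setup
import Cfsg.Agent.Lib.HS60.Lin

/-!
# Coordinates in the group of order 64 and lifts of linear maps

Owner: helper60.
-/

set_option autoImplicit false
set_option linter.unusedSectionVars false

namespace Cfsg.Agent.Lib.HS60

open Subgroup

variable {G : Type*} [Group G] {t : G} {R Cy V : Subgroup G}

/-- The element with given coordinates. -/
def phi (a a1 a2 : G) (v : V3) : G := a ^ v.1.val * a1 ^ v.2.1.val * a2 ^ v.2.2.val

namespace Setup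

variable (S : Setup t R Cy V)
include S

theorem A_le_H : AA V ≤ centralizer ({t} : Set G) := fun _ hx =>
  mem_centralizer_singleton_iff.2 (mem_centralizer_iff.1 hx t S.tV).symm

theorem A_conj {g : G} (hg : g ∈ normalizer (V : Set G)) {x : G} (hx : x ∈ AA V) :
    g * x * g⁻¹ ∈ AA V := by
  rw [mem_centralizer_iff]
  intro v hv
  have h := mem_centralizer_iff.1 hx _
    ((Subgroup.mem_normalizer_iff.1 (inv_mem hg) v).1 hv)
  calc v * (g * x * g⁻¹) = g * ((g⁻¹ * v * g⁻¹⁻¹) * x) * g⁻¹ := by group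
    _ = g * (x * (g⁻¹ * v * g⁻¹⁻¹)) * g⁻¹ := by rw [h]
    _ = _ := by group

theorem V_conj {g : G} (hg : g ∈ normalizer (V : Set G)) {x : G} (hx : x ∈ V) : g * x * g⁻¹ ∈ V :=
  (Subgroup.mem_normalizer_iff.1 hg x).1 hx

theorem Cy_conj {h : G} (hh : h ∈ centralizer ({t} : Set G)) {c : G} (hc : c ∈ Cy) :
    h * c * h⁻¹ ∈ Cy := by
  refine S.center_le _ (S.R_conj h hh c (S.Cy_le hc)) fun y hy => ?_
  have h1 := S.Cy_central c hc _ (S.R_conj h⁻¹ (inv_mem hh) y hy)
  calc h * c * h⁻¹ * y = h * (c * (h⁻¹ * y * h⁻¹⁻¹)) * h⁻¹ := by group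
    _ = h * ((h⁻¹ * y * h⁻¹⁻¹) * c) * h⁻¹ := by rw [h1]
    _ = _ := by group

theorem Cy_le_A : Cy ≤ AA V := fun c hc =>
  mem_centralizer_iff.2 fun v hv => (S.Cy_central c hc v (S.VR hv)).symm

theorem t_sq : t * t = 1 := by
  have h : t ^ orderOf t = 1 := pow_orderOf_eq_one t
  rwa [S.ht, pow_two] at h

theorem t_ne : t ≠ 1 := fun e => by
  have h := S.ht
  rw [e, orderOf_one] at h
  omega

theorem exists_gen_sq : ∃ a, orderOf a = 4 ∧ a ∈ Cy ∧ a * a = t := by
  obtain ⟨a, ha, hgen⟩ := S.cy_gen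
  refine ⟨a, ha, hgen ▸ mem_zpowers a, ?_⟩
  have ht := S.cy_t
  rw [← hgen] at ht
  obtain ⟨n, hn⟩ := mem_zpowers_iff.1 ht
  have h2 := S.t_sq
  rw [← hn, ← zpow_add] at h2
  have hd := orderOf_dvd_iff_zpow_eq_one.2 h2
  rw [ha] at hd
  rw [← zpow_mod_orderOf, ha] at hn
  have hcases : n % (4 : ℤ) = 0 ∨ n % (4 : ℤ) = 2 := by omega
  rcases hcases with h | h <;> simp only [Nat.cast_ofNat] at hn <;> rw [h] at hn
  · exact absurd (by simpa using hn.symm) S.t_ne
  · rw [← hn, zpow_two]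

/-- A basis of `V` through `t`, and every linear map is a conjugation. -/
theorem exists_basis [Finite G] : ∃ ν : Multiplicative (ZMod 2 × ZMod 2 × ZMod 2) →* G,
    Function.Injective ν ∧ (∀ x, ν x ∈ V) ∧ (∀ x ∈ V, ∃ y, ν y = x) ∧
    ν (Multiplicative.ofAdd (1, 0, 0)) = t ∧
    ∀ σ : (ZMod 2 × ZMod 2 × ZMod 2) ≃+ (ZMod 2 × ZMod 2 × ZMod 2),
      ∃ g ∈ normalizer (V : Set G), ∀ u, g * ν (Multiplicative.ofAdd u) * g⁻¹ =
        ν (Multiplicative.ofAdd (σ u)) := by
  classical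
  have hc : ∀ x ∈ V, ∀ y ∈ V, x * y = y * x := fun x hx y hy =>
    mem_centralizer_iff.1 (S.V_le_A hy) x hx
  have hi : ∀ x ∈ V, x⁻¹ = x := fun x hx => inv_eq_of_mul_eq_one_right (S.Vsq x hx)
  -- subgroups of order two and four
  obtain ⟨v1, hv1, hn1⟩ : ∃ v ∈ V, v ∉ zpowers t := by
    by_contra h
    push_neg at h
    have := card_le_of_le (show V ≤ zpowers t from h)
    rw [S.cardV, Nat.card_zpowers, S.ht] at this
    omega
  let pw : G → ZMod 2 → G := fun x i => x ^ i.val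
  have hadd : ∀ x ∈ V, ∀ i j : ZMod 2, pw x (i + j) = pw x i * pw x j := by
    intro x hx i j
    have h0 : ∀ n, x ^ n = x ^ (n % 2) := fun n => by
      conv_lhs => rw [← Nat.mod_add_div n 2, pow_add, pow_mul, pow_two, S.Vsq x hx, one_pow, mul_one]
    show x ^ (i + j).val = x ^ i.val * x ^ j.val
    rw [← pow_add, ZMod.val_add, ← h0]
  let ν2 : Multiplicative (ZMod 2 × ZMod 2) →* G :=
    MonoidHom.mk' (fun u => pw t u.toAdd.1 * pw v1 u.toAdd.2) fun u w => by
      show pw t (u.toAdd.1 + w.toAdd.1) * pw v1 (u.toAdd.2 + w.toAdd.2) = _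
      rw [hadd t S.tV, hadd v1 hv1, mul_assoc, ← mul_assoc (pw t w.toAdd.1),
        hc (pw t w.toAdd.1) (pow_mem S.tV _) (pw v1 u.toAdd.2) (pow_mem hv1 _)]
      simp only [mul_assoc]
  obtain ⟨v2, hv2, hn2⟩ : ∃ v ∈ V, v ∉ ν2.range := by
    by_contra h
    push_neg at h
    have h1 := card_le_of_le (show V ≤ ν2.range from h)
    have h2 : Nat.card ν2.range ≤ 4 := by
      have := Nat.card_le_card_of_surjective _ ν2.rangeRestrict_surjective
      simpa [Nat.card_prod, Nat.card_congr Multiplicative.toAdd] using this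
    rw [S.cardV] at h1
    omega
  let ν : Multiplicative (ZMod 2 × ZMod 2 × ZMod 2) →* G :=
    MonoidHom.mk' (fun u => ν2 (Multiplicative.ofAdd (u.toAdd.1, u.toAdd.2.1)) * pw v2 u.toAdd.2.2)
      fun u w => by
      have hmem : ∀ x, ν2 x ∈ V := fun x => mul_mem (pow_mem S.tV _) (pow_mem hv1 _)
      show ν2 (Multiplicative.ofAdd ((u.toAdd.1, u.toAdd.2.1) + (w.toAdd.1, w.toAdd.2.1))) *
          pw v2 (u.toAdd.2.2 + w.toAdd.2.2) = _
      rw [ofAdd_add, map_mul, hadd v2 hv2, mul_assoc, ← mul_assoc (ν2 _) (pw v2 _),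
        hc (ν2 _) (hmem (Multiplicative.ofAdd (w.toAdd.1, w.toAdd.2.1))) (pw v2 u.toAdd.2.2)
          (pow_mem hv2 _)]
      simp only [mul_assoc]
  have hmemV : ∀ x, ν x ∈ V := fun x =>
    mul_mem (mul_mem (pow_mem S.tV _) (pow_mem hv1 _)) (pow_mem hv2 _)
  have h01 : ∀ i : ZMod 2, i = 0 ∨ i = 1 := by decide
  have hinj : Function.Injective ν := (injective_iff_map_eq_one ν).2 fun x hx => by
    obtain ⟨i, j, k⟩ := x
    change t ^ i.val * v1 ^ j.val * v2 ^ k.val = 1 at hx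
    rcases h01 k with rfl | rfl
    · rcases h01 j with rfl | rfl
      · rcases h01 i with rfl | rfl
        · rfl
        · simp [ZMod.val_one] at hx; exact absurd hx S.t_ne
      · exfalso
        apply hn1
        simp only [ZMod.val_zero, pow_zero, mul_one, ZMod.val_one, pow_one] at hx
        rw [eq_inv_of_mul_eq_one_right hx]
        exact inv_mem (pow_mem (mem_zpowers t) _)
    · exfalso
      apply hn2
      simp only [ZMod.val_one, pow_one] at hx
      rw [eq_inv_of_mul_eq_one_right hx]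
      exact inv_mem ⟨Multiplicative.ofAdd (i, j), rfl⟩
  have hrange : ν.range = V := by
    refine eq_of_le_of_card_ge (by rintro _ ⟨x, rfl⟩; exact hmemV x) ?_
    rw [← Nat.card_congr (ν.ofInjective hinj).toEquiv, S.cardV,
      Nat.card_congr Multiplicative.toAdd, Nat.card_prod, Nat.card_prod, Nat.card_zmod]
  have hsurj : ∀ x ∈ V, ∃ y, ν y = x := fun x hx => by rwa [← hrange] at hx
  refine ⟨ν, hinj, hmemV, hsurj, ?_, fun σ => ?_⟩
  · show t ^ (1 : ZMod 2).val * v1 ^ (0 : ZMod 2).val * v2 ^ (0 : ZMod 2).val = t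
    simp [ZMod.val_one]
  -- every automorphism is realised
  let ψ := Subgroup.normalizerMonoidHom V
  have hker : ψ.ker = (AA V).subgroupOf (normalizer (V : Set G)) :=
    Subgroup.normalizerMonoidHom_ker V
  have hψ : Function.Surjective ψ := by
    haveI : Finite (MulAut V) := Finite.of_injective (fun e : MulAut V => (e : V → V))
      DFunLike.coe_injective
    rw [← MonoidHom.range_eq_top]
    refine eq_top_of_card_eq _ ?_
    have h := card_mul_index ψ.ker
    rw [index_ker, hker, Nat.card_congr (subgroupOfEquivOfLe S.A_le).toEquiv, S.cardA,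
      S.cardM] at h
    rw [Lib.J4Five.Linear.card_mulAut (fun x => Subtype.ext (S.Vsq x x.2)) S.cardV]
    omega
  let eV : Multiplicative (ZMod 2 × ZMod 2 × ZMod 2) ≃* V :=
    (ν.ofInjective hinj).trans (MulEquiv.subgroupCongr hrange)
  obtain ⟨g, hg⟩ := hψ ((eV.symm.trans (AddEquiv.toMultiplicative σ)).trans eV)
  refine ⟨g, g.2, fun u => ?_⟩
  have h := congrArg (fun e : MulAut V => ((e (eV (Multiplicative.ofAdd u)) : V) : G)) hg
  have h2 : eV.symm (eV (Multiplicative.ofAdd u)) = Multiplicative.ofAdd u :=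
    eV.symm_apply_apply _
  simp only [MulEquiv.trans_apply, h2] at h
  exact h

end Setup

end Cfsg.Agent.Lib.HS60
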