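import Mathlib

/-!
# Word data for the fusion of involutions

Produced by `scripts/hs60/gen_data.py`.  Letters of the words in the common part of the two
subgroups: `0 = r, 2 = w, 4 = a, 6 = a₁, 8 = p`.

Owner: helper60.
-/

set_option autoImplicit false
set_option maxRecDepth 20000

namespace Cfsg.Agent.Lib.HS60.Data

/-- The elements of a Sylow subgroup of the group. -/
def sWords : List (List ℕ) :=
  [[],
    [4],
    [6],
    [0, 6, 1],
    [2],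
    [8],
    [0, 8, 1],
    [4, 4],
    [4, 6],
    [0, 4, 6, 1],
    [2, 5],
    [4, 8],
    [0, 4, 8, 1],
    [6, 6],
    [0, 6, 1, 6],
    [6, 2],
    [6, 8],
    [6, 0, 8, 1],
    [0, 6, 6, 1],
    [0, 6, 1, 2],
    [0, 6, 1, 8],
    [0, 6, 8, 1],
    [2, 4],
    [2, 6],
    [0, 7, 1, 2],
    [2, 8],
    [1, 2, 8, 1],
    [8, 6],
    [0, 7, 1, 8],
    [1, 8, 0],
    [0, 8, 1, 6],
    [0, 8, 6, 1],
    [0, 2, 8, 0],
    [5],
    [4, 4, 6],
    [0, 4, 4, 6, 1],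
    [2, 4, 4],
    [4, 4, 8],
    [0, 4, 4, 8, 1],
    [4, 6, 6],
    [0, 4, 6, 1, 6],
    [4, 6, 2],
    [4, 6, 8],
    [4, 6, 0, 8, 1],
    [7, 8, 7, 8],
    [0, 4, 6, 1, 2],
    [0, 4, 6, 1, 8],
    [0, 4, 6, 8, 1],
    [2, 5, 6],
    [6, 2, 7],
    [2, 5, 8],
    [1, 2, 5, 8, 1],
    [4, 8, 6],
    [0, 4, 7, 1, 8],
    [1, 4, 8, 0],
    [0, 4, 8, 1, 6],
    [0, 4, 8, 6, 1],
    [0, 2, 5, 8, 0],
    [7],
    [0, 6, 1, 6, 6],
    [6, 6, 2],
    [6, 6, 8],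
    [6, 6, 0, 8, 1],
    [5, 8, 7, 8],
    [0, 6, 1, 6, 8],
    [6, 0, 6, 8, 1],
    [5, 6, 2],
    [6, 2, 6],
    [0, 7, 1, 6, 2],
    [6, 2, 8],
    [1, 8, 0, 7, 2],
    [6, 8, 6],
    [0, 7, 1, 6, 8],
    [1, 8, 0, 7],
    [0, 6, 8, 6, 1],
    [6, 0, 8, 6, 1],
    [0, 2, 7, 8, 0],
    [0, 7, 1],
    [0, 6, 6, 1, 2],
    [4, 6, 8, 6],
    [0, 6, 6, 8, 1],
    [7, 2, 6],
    [0, 6, 1, 2, 6],
    [0, 6, 1, 2, 8],
    [1, 2, 7, 8, 1],
    [0, 6, 1, 8, 6],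
    [0, 6, 0, 8, 0],
    [0, 6, 8, 1, 6],
    [0, 6, 2, 8, 0],
    [2, 4, 6],
    [0, 5, 7, 1, 2],
    [2, 4, 8],
    [1, 2, 4, 8, 1],
    [2, 6, 6],
    [1, 7, 0],
    [2, 6, 8],
    [1, 7, 2, 8, 1],
    [0, 7, 1, 2, 8],
    [1, 2, 6, 8, 1],
    [2, 8, 6],
    [1, 2, 8, 1, 6],
    [1, 2, 8, 6, 1],
    [8, 6, 6],
    [0, 7, 1, 8, 6],
    [8, 6, 2],
    [8, 6, 8],
    [0, 8, 1, 7, 8],
    [0, 7, 0, 8, 0],
    [1, 8, 0, 6],
    [0, 8, 7, 1, 8],
    [0, 8, 1, 6, 6],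
    [0, 8, 6, 1, 6],
    [0, 2, 8, 7, 0],
    [0, 8, 1, 6, 8],
    [8, 7, 8],
    [0, 8, 6, 6, 1],
    [0, 8, 6, 1, 2],
    [0, 8, 6, 1, 8],
    [0, 8, 6, 8, 1],
    [0, 2, 4, 8, 0],
    [0, 2, 8, 0, 6],
    [0, 8, 7, 1, 2],
    [5, 6],
    [0, 5, 6, 1],
    [5, 8],
    [0, 5, 8, 1],
    [4, 4, 6, 6],
    [1, 5, 7, 0],
    [4, 4, 6, 2],
    [4, 4, 6, 8],
    [0, 7, 8, 7, 1, 7],
    [4, 7, 8, 7, 8],
    [5, 7, 2, 6],
    [1, 6, 0, 8, 7],
    [0, 4, 4, 6, 8, 1],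
    [2, 4, 4, 6],
    [4, 6, 2, 7],
    [2, 4, 4, 8],
    [1, 2, 4, 4, 8, 1],
    [4, 4, 8, 6],
    [1, 7, 0, 8, 6],
    [1, 4, 4, 8, 0],
    [0, 4, 4, 8, 1, 6],
    [0, 4, 4, 8, 6, 1],
    [0, 2, 4, 4, 8, 0],
    [4, 7],
    [4, 6, 6, 2],
    [4, 6, 6, 8],
    [0, 7, 8, 6, 1],
    [0, 7, 1, 8, 7],
    [0, 7, 8, 1, 6],
    [4, 6, 2, 6],
    [6, 6, 2, 7],
    [4, 6, 2, 8],
    [1, 2, 8, 7, 1, 7],
    [0, 6, 1, 8, 7],
    [1, 4, 8, 0, 7],
    [0, 4, 6, 8, 6, 1],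
    [1, 8, 6, 0, 8],
    [0, 2, 5, 7, 8, 0],
    [0, 4, 7, 1],
    [2, 6, 8, 6, 8],
    [7, 8, 7],
    [7, 0, 8, 1, 6],
    [5, 8, 7, 2, 8],
    [8, 6, 2, 7],
    [1, 2, 5, 7, 8, 1],
    [0, 7, 1, 7, 8],
    [0, 4, 6, 0, 8, 0],
    [1, 8, 7, 0, 8],
    [0, 4, 6, 2, 8, 0],
    [2, 5, 6, 6],
    [2, 5, 6, 8],
    [1, 4, 7, 2, 8, 1],
    [6, 2, 7, 8],
    [1, 2, 5, 6, 8, 1],
    [2, 5, 8, 6],
    [1, 2, 5, 8, 1, 6],
    [1, 2, 5, 8, 6, 1],
    [4, 8, 6, 6],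
    [0, 6, 1, 7, 8],
    [4, 8, 6, 2],
    [4, 8, 6, 8],
    [0, 4, 8, 1, 7, 8],
    [1, 6, 8, 0, 7],
    [1, 4, 8, 0, 6],
    [0, 4, 8, 7, 1, 8],
    [0, 6, 8, 7, 1],
    [0, 6, 8, 1, 7],
    [0, 2, 5, 8, 7, 0],
    [0, 4, 8, 1, 6, 8],
    [4, 8, 7, 8],
    [6, 0, 8, 1, 7],
    [0, 4, 8, 6, 1, 2],
    [1, 8, 6, 0, 6],
    [1, 5, 7, 0, 6],
    [0, 2, 5, 8, 0, 6],
    [0, 2, 8, 7, 0, 7],
    [0, 6, 1, 7],
    [7, 2],
    [7, 8],
    [7, 0, 8, 1],
    [4, 7, 8, 6, 8],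
    [1, 6, 0, 8, 6],
    [0, 5, 8, 6, 1],
    [5, 6, 6, 2],
    [6, 6, 2, 6],
    [5, 7, 2, 7],
    [6, 6, 2, 8],
    [1, 8, 0, 6, 6, 2],
    [4, 4, 8, 7],
    [1, 7, 0, 8, 7],
    [1, 8, 0, 6, 6],
    [0, 4, 4, 8, 1, 7],
    [0, 2, 6, 6, 8, 0],
    [0, 7, 1, 6],
    [5, 8, 7],
    [0, 5, 8, 1, 6],
    [0, 5, 7, 1, 8],
    [1, 4, 7, 8, 0],
    [0, 4, 4, 8, 7, 1],
    [0, 2, 5, 8, 0, 7],
    [5, 6, 2, 6],
    [2, 5, 8, 7, 8],
    [5, 6, 2, 8],
    [1, 5, 8, 0, 7, 2],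
    [6, 2, 6, 6],
    [1, 7, 0, 6],
    [6, 2, 6, 8],
    [1, 7, 8, 0, 7, 2],
    [2, 4, 4, 8, 7],
    [6, 1, 2, 6, 8, 1],
    [6, 2, 8, 6],
    [1, 2, 4, 8, 7, 1],
    [1, 2, 4, 8, 1, 7],
    [4, 4, 7, 8],
    [0, 5, 6, 1, 8],
    [2, 7, 8, 7],
    [6, 8, 6, 8],
    [1, 6, 8, 7, 0],
    [0, 7, 0, 8, 0, 7],
    [0, 6, 8, 1, 7, 8],
    [0, 6, 8, 6, 1, 6],
    [0, 4, 4, 7, 8, 1],
    [0, 2, 7, 8, 7, 0],
    [0, 6, 8, 6, 1, 8],
    [6, 8, 7, 8],
    [6, 0, 8, 6, 1, 2],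
    [1, 5, 8, 6, 0],
    [0, 4, 6, 1, 7],
    [0, 2, 4, 7, 8, 0],
    [0, 2, 7, 8, 0, 6],
    [0, 6, 2, 8, 6, 0],
    [0, 7, 8, 1],
    [2, 7, 8, 7, 8],
    [2, 4, 6, 8, 6],
    [1, 2, 6, 6, 8, 1],
    [5, 7, 8],
    [0, 6, 6, 0, 8, 0],
    [0, 6, 6, 2, 8, 0],
    [7, 2, 6, 6],
    [7, 2, 6, 8],
    [1, 2, 4, 7, 8, 1],
    [4, 7, 2, 7],
    [0, 6, 0, 7, 0],
    [4, 4, 8, 7, 2],
    [1, 2, 8, 6, 1, 7],
    [5, 8, 6, 2],
    [1, 2, 7, 8, 1, 6],
    [1, 2, 7, 8, 6, 1],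
    [7, 2, 8, 6, 2],
    [2, 4, 4, 7, 8],
    [0, 5, 7, 1, 7],
    [0, 6, 0, 8, 0, 6],
    [1, 6, 8, 6, 0],
    [0, 6, 2, 8, 7, 0],
    [1, 5, 8, 7, 0],
    [0, 4, 7, 1, 6],
    [0, 2, 6, 8, 0, 7],
    [0, 2, 5, 6, 8, 0],
    [0, 6, 8, 7, 1, 2],
    [2, 4, 6, 6],
    [2, 4, 6, 8],
    [1, 5, 7, 2, 8, 1],
    [0, 5, 7, 1],
    [8, 7, 2, 6],
    [1, 2, 4, 6, 8, 1],
    [2, 4, 8, 6],
    [1, 2, 4, 8, 1, 6],
    [1, 2, 4, 8, 6, 1],
    [1, 5, 8, 0],
    [2, 7],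
    [1, 6, 6, 0],
    [2, 6, 6, 8],
    [1, 6, 6, 2, 8, 1],
    [1, 7, 0, 8],
    [0, 8, 0, 6, 0],
    [2, 6, 8, 6],
    [0, 2, 8, 0, 7],
    [1, 2, 6, 8, 6, 1],
    [1, 7, 2, 8, 6, 1],
    [1, 7, 8, 0],
    [4, 4, 7, 2, 8],
    [0, 7, 2, 8, 0],
    [1, 2, 6, 8, 1, 6],
    [2, 8, 6, 6],
    [2, 8, 6, 2],
    [2, 8, 6, 8],
    [1, 2, 8, 1, 7, 8],
    [1, 2, 8, 1, 6, 6],
    [1, 2, 8, 6, 1, 6],
    [1, 8, 7, 0],
    [1, 2, 8, 1, 6, 8],
    [2, 8, 7, 8],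
    [1, 2, 8, 6, 6, 1],
    [4, 4, 6, 2, 6],
    [8, 7],
    [6, 2, 8, 7, 2],
    [8, 6, 6, 2],
    [0, 8, 1, 6, 6, 8],
    [0, 5, 6, 1, 7],
    [1, 4, 8, 6, 0],
    [7, 2, 7, 8],
    [8, 6, 2, 8],
    [0, 2, 8, 6, 0],
    [0, 8, 1, 7],
    [0, 7, 8, 7, 1, 8],
    [1, 5, 7, 8, 0],
    [0, 2, 8, 6, 0, 8],
    [1, 5, 6, 8, 0],
    [1, 4, 8, 7, 0],
    [1, 8, 0, 6, 2],
    [0, 8, 6, 6, 1, 8],
    [1, 2, 8, 7, 1],
    [0, 8, 7, 1],
    [0, 6, 1, 7, 8, 6],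
    [0, 5, 6, 8, 1],
    [0, 2, 8, 6, 6, 0],
    [5, 6, 0, 8, 1],
    [1, 4, 6, 8, 0],
    [1, 4, 6, 0],
    [0, 2, 4, 8, 7, 0],
    [0, 2, 8, 7, 0, 6],
    [0, 6, 2, 6, 8, 0],
    [0, 2, 8, 7, 0, 8],
    [8, 7, 2],
    [1, 7, 8, 6, 0],
    [8, 7, 2, 8],
    [0, 8, 6, 6, 1, 2],
    [0, 2, 8, 6, 0, 6],
    [0, 8, 6, 1, 2, 6],
    [5, 7, 2, 8, 6],
    [0, 7, 8, 1, 6, 8],
    [0, 7, 1, 6, 8, 7],
    [0, 2, 4, 8, 0, 6],
    [0, 5, 8, 7, 1, 2],
    [0, 2, 8, 0, 6, 6],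
    [0, 8, 0, 7, 0],
    [1, 6, 2, 8, 1],
    [2, 7, 8],
    [4, 6, 2, 8, 7],
    [5, 6, 6],
    [5, 6, 8],
    [5, 8, 6],
    [4, 4, 7],
    [4, 4, 6, 6, 2],
    [1, 5, 7, 0, 8],
    [0, 8, 7, 1, 7],
    [4, 4, 6, 2, 8],
    [2, 8, 7, 2],
    [0, 6, 0, 8, 7, 0],
    [0, 7, 8, 7, 1],
    [0, 7, 8, 1, 7],
    [0, 4, 4, 7, 1],
    [6, 6, 2, 6, 6],
    [4, 7, 8, 7],
    [1, 8, 0, 7, 2, 7],
    [1, 6, 0, 8],
    [1, 8, 6, 0, 7],
    [7, 0, 8, 7, 1],
    [2, 4, 4, 6, 6],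
    [2, 4, 4, 6, 8],
    [7, 1, 2, 8, 6, 1],
    [7, 2, 8, 7],
    [1, 8, 0, 6, 2, 6],
    [2, 4, 4, 8, 6],
    [2, 4, 8, 6, 2],
    [4, 4, 8, 6, 2],
    [0, 7, 0, 6, 0],
    [0, 7, 0, 6, 8, 0],
    [1, 8, 7, 0, 6],
    [0, 7, 0, 8, 6, 0],
    [1, 6, 8, 0, 6],
    [7, 0, 7, 8, 1],
    [0, 6, 2, 8, 0, 7],
    [0, 6, 0, 7, 8, 0],
    [0, 2, 7, 8, 0, 7],
    [1, 7, 8, 0, 7],
    [0, 2, 6, 8, 0, 6],
    [4, 7, 2],
    [4, 7, 8],
    [4, 7, 0, 8, 1],
    [0, 6, 1, 7, 2],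
    [7, 2, 7],
    [2, 6, 8, 7],
    [1, 6, 0, 7, 8],
    [1, 7, 8, 7, 0],
    [0, 5, 8, 1, 7],
    [0, 7, 8, 6, 1, 2],
    [0, 5, 8, 7, 1],
    [0, 7, 2, 8, 7, 0],
    [4, 6, 2, 6, 8],
    [2, 4, 8, 7],
    [1, 2, 8, 1, 7],
    [5, 7, 0, 8, 1],
    [0, 5, 7, 8, 1],
    [1, 6, 6, 8, 0],
    [1, 8, 6, 0],
    [1, 8, 6, 8, 0],
    [0, 2, 8, 6, 0, 7],
    [0, 4, 7, 8, 1],
    [1, 7, 2, 8, 1, 7],
    [0, 2, 6, 8, 7, 0],
    [4, 4, 7, 2, 7],
    [5, 8, 7, 2],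
    [1, 6, 2, 8, 7, 1],
    [1, 7, 0, 6, 8],
    [2, 4, 7, 8],
    [0, 7, 1, 7],
    [1, 8, 7, 8, 0],
    [0, 8, 7, 1, 2, 7],
    [2, 5, 7],
    [7, 8, 6, 8],
    [7, 8, 6, 2],
    [1, 2, 6, 8, 7, 1],
    [2, 4, 7, 8, 7],
    [0, 2, 8, 6, 6, 0, 8],
    [1, 2, 8, 7, 1, 6],
    [5, 7, 2, 8],
    [6, 8, 7, 2],
    [0, 7, 2, 8, 6, 0],
    [7, 0, 8, 7, 1, 2],
    [1, 6, 2, 8, 1, 6],
    [4, 8, 7],
    [2, 7, 8, 6],
    [6, 2, 8, 7],
    [4, 8, 6, 2, 8],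
    [0, 2, 5, 8, 6, 0],
    [0, 4, 8, 1, 7],
    [1, 8, 6, 6, 0],
    [1, 6, 8, 0],
    [1, 4, 8, 0, 6, 2],
    [1, 2, 5, 8, 7, 1],
    [0, 4, 8, 7, 1],
    [4, 8, 7, 2],
    [0, 2, 7, 8, 6, 0],
    [7, 2, 8, 6],
    [0, 2, 6, 8, 6, 0],
    [1, 4, 6, 2, 8, 1],
    [2, 5, 7, 8],
    [5, 7, 2, 7, 8],
    [0, 8, 7, 1, 6],
    [5, 7, 2],
    [2, 4, 7],
    [7, 2, 8],
    [7, 8, 6],
    [0, 2, 6, 8, 0],
    [0, 7, 1, 6, 6],
    [4, 7, 8, 6],
    [0, 4, 7, 8, 7, 1],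
    [2, 5, 8, 7, 2],
    [0, 5, 8, 6, 1, 8],
    [1, 2, 7, 8, 7, 1],
    [1, 2, 5, 8, 1, 7],
    [0, 5, 7, 0, 8, 0],
    [0, 7, 2, 8, 0, 6],
    [0, 5, 7, 2, 8, 0],
    [0, 8, 6, 1, 7],
    [0, 5, 8, 1, 6, 8],
    [1, 5, 8, 0, 6],
    [1, 6, 0, 7],
    [0, 2, 4, 6, 8, 0],
    [0, 7, 1, 2, 7],
    [0, 5, 7, 1, 6],
    [2, 5, 8, 7],
    [1, 6, 8, 0, 6, 2],
    [7, 1, 2, 7, 8, 1],
    [1, 5, 8, 0, 7],
    [5, 8, 6, 8],
    [1, 2, 7, 8, 1, 7],
    [0, 7, 2, 7, 8, 0],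
    [1, 8, 7, 0, 7],
    [2, 4, 8, 6, 8],
    [6, 8, 7],
    [1, 4, 6, 0, 8],
    [1, 7, 8, 0, 6],
    [6, 1, 2, 8, 7, 1],
    [0, 2, 4, 7, 8, 7, 0],
    [0, 2, 4, 8, 0, 7],
    [0, 2, 4, 8, 6, 0],
    [4, 6, 8, 7],
    [5, 7],
    [1, 4, 6, 0, 7],
    [1, 5, 6, 2, 8, 1],
    [2, 4, 4, 7],
    [4, 7, 2, 8],
    [1, 2, 6, 8, 1, 7],
    [1, 6, 0],
    [4, 4, 7, 2],
    [2, 8, 7],
    [0, 5, 8, 1, 7, 8],
    [0, 8, 7, 8, 1]]

/-- Right multiplication of these by the generators. -/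
def sNext : List (List ℕ) :=
  [[1, 2, 3, 4, 5, 6],
    [7, 8, 9, 10, 11, 12],
    [8, 13, 14, 15, 16, 17],
    [9, 14, 18, 19, 20, 21],
    [22, 23, 24, 0, 25, 26],
    [11, 27, 28, 25, 0, 29],
    [12, 30, 31, 32, 29, 0],
    [33, 34, 35, 36, 37, 38],
    [34, 39, 40, 41, 42, 43],
    [35, 40, 44, 45, 46, 47],
    [4, 48, 49, 1, 50, 51],
    [37, 52, 53, 50, 1, 54],
    [38, 55, 56, 57, 54, 1],
    [39, 58, 59, 60, 61, 62],
    [40, 59, 63, 48, 64, 65],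
    [66, 67, 68, 2, 69, 70],
    [42, 71, 72, 69, 2, 73],
    [43, 74, 75, 76, 73, 2],
    [44, 63, 77, 78, 79, 80],
    [81, 82, 4, 3, 83, 84],
    [46, 85, 5, 83, 3, 86],
    [47, 87, 74, 88, 86, 3],
    [36, 89, 90, 33, 91, 92],
    [89, 93, 66, 94, 95, 96],
    [90, 66, 78, 77, 97, 98],
    [91, 99, 83, 5, 4, 32],
    [92, 100, 101, 29, 32, 4],
    [52, 102, 103, 104, 105, 106],
    [53, 103, 79, 97, 77, 107],
    [54, 108, 109, 26, 6, 5],
    [55, 110, 111, 112, 113, 114],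
    [56, 111, 115, 116, 117, 118],
    [119, 120, 121, 6, 26, 25],
    [0, 122, 123, 22, 124, 125],
    [122, 126, 127, 128, 129, 130],
    [123, 127, 131, 132, 133, 134],
    [10, 135, 136, 7, 137, 138],
    [124, 139, 140, 137, 7, 141],
    [125, 142, 143, 144, 141, 7],
    [126, 145, 118, 146, 147, 148],
    [127, 118, 114, 135, 149, 150],
    [15, 151, 152, 8, 153, 154],
    [129, 79, 155, 153, 8, 156],
    [130, 157, 158, 159, 156, 8],
    [131, 114, 160, 161, 162, 163],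
    [19, 164, 10, 9, 165, 166],
    [133, 167, 11, 165, 9, 168],
    [134, 169, 157, 170, 168, 9],
    [23, 171, 15, 14, 172, 173],
    [24, 15, 161, 160, 174, 175],
    [25, 176, 165, 11, 10, 57],
    [26, 177, 178, 54, 57, 10],
    [139, 179, 180, 181, 182, 183],
    [140, 180, 162, 174, 160, 184],
    [141, 185, 186, 51, 12, 11],
    [142, 187, 188, 189, 190, 191],
    [143, 188, 192, 193, 194, 195],
    [32, 196, 197, 12, 51, 50],
    [145, 0, 198, 199, 200, 201],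
    [118, 198, 202, 151, 203, 204],
    [205, 206, 207, 13, 208, 209],
    [147, 210, 211, 208, 13, 212],
    [148, 213, 47, 214, 212, 13],
    [114, 202, 215, 164, 216, 217],
    [149, 218, 16, 172, 14, 219],
    [150, 220, 213, 221, 219, 14],
    [128, 222, 223, 122, 224, 225],
    [222, 226, 205, 227, 228, 229],
    [223, 205, 164, 215, 230, 231],
    [224, 232, 172, 16, 15, 76],
    [225, 233, 234, 73, 76, 15],
    [79, 235, 236, 237, 238, 239],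
    [155, 236, 216, 230, 215, 240],
    [156, 29, 241, 70, 17, 16],
    [157, 242, 243, 244, 245, 246],
    [158, 243, 55, 247, 248, 249],
    [250, 251, 252, 17, 70, 69],
    [160, 215, 0, 24, 28, 253],
    [254, 223, 19, 18, 255, 256],
    [162, 257, 20, 255, 18, 258],
    [163, 43, 220, 259, 258, 18],
    [132, 260, 22, 123, 261, 262],
    [260, 263, 23, 264, 265, 266],
    [261, 267, 255, 20, 19, 88],
    [262, 268, 269, 86, 88, 19],
    [167, 270, 27, 271, 272, 241],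
    [168, 273, 274, 84, 21, 20],
    [169, 56, 242, 275, 276, 277],
    [278, 279, 280, 21, 84, 83],
    [135, 281, 128, 127, 282, 283],
    [136, 128, 254, 284, 285, 286],
    [137, 287, 261, 124, 22, 119],
    [138, 288, 289, 290, 119, 22],
    [281, 291, 222, 292, 293, 294],
    [14, 227, 264, 23, 295, 296],
    [282, 297, 265, 295, 23, 298],
    [283, 299, 300, 301, 298, 23],
    [285, 302, 25, 28, 24, 303],
    [286, 304, 299, 107, 303, 24],
    [287, 305, 267, 306, 307, 308],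
    [288, 309, 310, 311, 312, 313],
    [289, 310, 314, 117, 116, 315],
    [179, 316, 317, 318, 126, 319],
    [180, 317, 257, 176, 320, 321],
    [267, 322, 271, 27, 323, 324],
    [182, 238, 272, 323, 27, 325],
    [183, 326, 327, 328, 325, 27],
    [184, 329, 326, 98, 253, 28],
    [185, 212, 330, 331, 201, 200],
    [186, 330, 332, 333, 334, 335],
    [187, 325, 336, 337, 319, 126],
    [188, 336, 338, 196, 339, 340],
    [341, 342, 343, 30, 344, 345],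
    [190, 346, 273, 344, 30, 316],
    [191, 246, 277, 347, 316, 30],
    [192, 338, 334, 348, 332, 131],
    [349, 350, 32, 31, 101, 351],
    [194, 352, 29, 101, 31, 353],
    [195, 249, 246, 315, 353, 31],
    [144, 354, 355, 125, 92, 91],
    [354, 356, 341, 357, 358, 359],
    [355, 341, 348, 334, 333, 360],
    [2, 361, 94, 66, 362, 338],
    [3, 94, 238, 81, 236, 336],
    [5, 363, 218, 91, 33, 290],
    [6, 217, 204, 119, 290, 33],
    [361, 364, 195, 365, 102, 110],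
    [94, 195, 191, 89, 366, 367],
    [41, 315, 313, 34, 368, 268],
    [362, 162, 369, 368, 34, 370],
    [338, 371, 372, 350, 370, 34],
    [238, 191, 373, 374, 375, 115],
    [45, 347, 36, 35, 232, 376],
    [236, 377, 37, 232, 35, 378],
    [336, 379, 371, 342, 378, 35],
    [48, 380, 41, 40, 381, 382],
    [49, 41, 374, 373, 383, 384],
    [50, 385, 232, 37, 36, 144],
    [51, 231, 229, 141, 144, 36],
    [363, 61, 386, 387, 388, 389],
    [218, 386, 375, 383, 373, 390],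
    [290, 391, 392, 138, 38, 37],
    [217, 62, 393, 394, 395, 264],
    [204, 393, 80, 396, 397, 227],
    [57, 252, 398, 38, 138, 137],
    [364, 1, 249, 399, 400, 401],
    [60, 402, 403, 39, 404, 299],
    [102, 216, 405, 404, 39, 406],
    [110, 407, 134, 408, 406, 39],
    [366, 28, 42, 381, 40, 352],
    [367, 409, 407, 410, 352, 40],
    [67, 323, 60, 59, 411, 289],
    [68, 60, 347, 277, 412, 288],
    [69, 261, 381, 42, 41, 159],
    [70, 333, 413, 156, 159, 41],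
    [369, 20, 316, 412, 277, 276],
    [370, 54, 329, 154, 43, 42],
    [371, 414, 415, 356, 416, 292],
    [372, 415, 142, 308, 417, 418],
    [76, 419, 354, 43, 154, 153],
    [373, 277, 1, 49, 53, 420],
    [78, 68, 45, 44, 297, 421],
    [375, 200, 46, 297, 44, 346],
    [115, 130, 409, 422, 346, 44],
    [82, 423, 48, 63, 424, 425],
    [83, 104, 297, 46, 45, 170],
    [84, 225, 294, 168, 170, 45],
    [377, 426, 52, 427, 428, 329],
    [378, 248, 212, 166, 47, 46],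
    [379, 143, 414, 312, 311, 429],
    [88, 430, 214, 47, 166, 165],
    [93, 431, 67, 432, 433, 434],
    [95, 435, 424, 64, 48, 221],
    [96, 436, 437, 219, 221, 48],
    [97, 438, 50, 53, 49, 251],
    [98, 266, 436, 184, 251, 49],
    [99, 439, 104, 103, 206, 440],
    [100, 269, 331, 330, 441, 223],
    [101, 331, 442, 194, 193, 222],
    [61, 443, 335, 444, 361, 274],
    [386, 335, 200, 385, 198, 273],
    [104, 445, 427, 52, 446, 447],
    [388, 18, 428, 446, 52, 448],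
    [389, 449, 301, 300, 448, 52],
    [390, 450, 449, 175, 420, 53],
    [391, 406, 240, 451, 401, 400],
    [392, 240, 239, 452, 453, 211],
    [62, 448, 21, 280, 274, 361],
    [393, 21, 17, 252, 241, 272],
    [112, 278, 247, 55, 304, 454],
    [395, 332, 248, 304, 55, 443],
    [264, 292, 429, 260, 443, 55],
    [80, 17, 453, 455, 239, 238],
    [116, 250, 57, 56, 178, 456],
    [397, 327, 54, 178, 56, 270],
    [227, 418, 292, 222, 270, 56],
    [120, 457, 112, 111, 458, 459],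
    [121, 112, 455, 453, 452, 460],
    [249, 3, 182, 402, 180, 461],
    [462, 81, 463, 58, 464, 331],
    [400, 465, 167, 464, 58, 108],
    [401, 163, 150, 466, 108, 58],
    [246, 182, 467, 380, 468, 469],
    [353, 470, 61, 411, 59, 471],
    [31, 357, 163, 349, 471, 59],
    [365, 307, 423, 361, 444, 472],
    [307, 374, 462, 320, 176, 473],
    [423, 462, 380, 467, 460, 452],
    [444, 282, 411, 61, 60, 214],
    [472, 458, 166, 212, 214, 60],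
    [216, 37, 295, 265, 264, 395],
    [405, 295, 468, 460, 467, 186],
    [406, 73, 474, 209, 62, 61],
    [407, 38, 169, 475, 389, 388],
    [280, 275, 476, 62, 209, 208],
    [277, 467, 2, 68, 72, 477],
    [316, 124, 64, 424, 63, 478],
    [30, 148, 357, 341, 478, 63],
    [28, 306, 71, 285, 284, 474],
    [352, 86, 479, 173, 65, 64],
    [409, 158, 38, 398, 392, 480],
    [298, 57, 481, 65, 173, 172],
    [315, 482, 365, 195, 456, 178],
    [313, 365, 82, 483, 484, 177],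
    [368, 165, 95, 362, 66, 250],
    [268, 485, 486, 487, 250, 66],
    [482, 49, 307, 488, 267, 489],
    [59, 320, 432, 67, 426, 143],
    [456, 345, 433, 426, 67, 396],
    [178, 451, 256, 397, 396, 67],
    [484, 137, 69, 72, 68, 490],
    [177, 294, 451, 240, 490, 68],
    [165, 181, 435, 133, 132, 342],
    [485, 300, 92, 491, 355, 263],
    [486, 92, 304, 248, 247, 492],
    [257, 493, 494, 302, 364, 391],
    [20, 494, 124, 261, 123, 495],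
    [435, 359, 285, 71, 254, 455],
    [18, 264, 284, 254, 71, 192],
    [258, 106, 194, 442, 192, 71],
    [276, 107, 106, 231, 477, 72],
    [329, 109, 190, 496, 188, 85],
    [414, 192, 296, 430, 391, 364],
    [415, 296, 187, 419, 390, 373],
    [497, 498, 88, 74, 269, 439],
    [416, 113, 86, 269, 74, 493],
    [292, 388, 480, 281, 493, 74],
    [343, 337, 76, 75, 234, 287],
    [417, 117, 73, 234, 75, 386],
    [418, 9, 388, 492, 386, 75],
    [350, 303, 196, 338, 225, 224],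
    [303, 499, 497, 420, 175, 174],
    [196, 497, 189, 188, 496, 271],
    [420, 150, 148, 303, 107, 77],
    [374, 313, 81, 238, 237, 442],
    [237, 459, 97, 79, 78, 259],
    [442, 283, 485, 258, 259, 78],
    [200, 500, 85, 438, 501, 479],
    [346, 183, 397, 256, 80, 79],
    [455, 247, 396, 80, 256, 255],
    [347, 403, 89, 191, 454, 304],
    [232, 387, 237, 236, 81, 278],
    [376, 154, 309, 495, 278, 81],
    [403, 399, 93, 502, 445, 233],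
    [63, 432, 483, 82, 210, 142],
    [454, 174, 484, 210, 82, 394],
    [304, 101, 503, 395, 394, 82],
    [387, 460, 459, 363, 226, 499],
    [154, 452, 473, 370, 350, 128],
    [309, 473, 384, 245, 244, 281],
    [426, 155, 102, 456, 195, 194],
    [459, 404, 438, 85, 504, 252],
    [428, 284, 501, 504, 85, 188],
    [248, 471, 487, 486, 461, 180],
    [212, 487, 390, 472, 187, 179],
    [490, 348, 447, 87, 288, 412],
    [311, 184, 183, 288, 87, 155],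
    [429, 480, 8, 152, 155, 87],
    [342, 466, 337, 336, 262, 261],
    [466, 355, 490, 401, 451, 505],
    [337, 490, 419, 187, 472, 444],
    [380, 463, 315, 246, 439, 269],
    [381, 255, 454, 366, 89, 498],
    [382, 209, 328, 327, 498, 89],
    [77, 483, 33, 90, 218, 415],
    [383, 505, 91, 218, 90, 476],
    [384, 344, 209, 474, 476, 90],
    [385, 433, 387, 386, 492, 247],
    [231, 434, 506, 276, 275, 152],
    [229, 506, 421, 471, 349, 151],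
    [29, 479, 491, 92, 125, 124],
    [463, 4, 482, 507, 359, 358],
    [432, 488, 502, 93, 500, 157],
    [439, 230, 445, 500, 93, 356],
    [269, 486, 286, 416, 356, 93],
    [64, 140, 362, 95, 94, 301],
    [65, 453, 448, 298, 301, 94],
    [255, 271, 174, 162, 161, 422],
    [498, 32, 430, 296, 96, 95],
    [209, 496, 376, 406, 408, 146],
    [328, 376, 288, 183, 447, 446],
    [219, 495, 391, 96, 296, 295],
    [505, 411, 99, 235, 508, 430],
    [476, 475, 457, 253, 98, 97],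
    [344, 289, 496, 190, 189, 260],
    [433, 509, 460, 468, 380, 497],
    [103, 405, 235, 99, 418, 417],
    [492, 161, 508, 418, 99, 413],
    [247, 280, 159, 158, 413, 99],
    [434, 413, 175, 449, 497, 380],
    [506, 175, 173, 479, 481, 462],
    [330, 390, 389, 100, 169, 369],
    [275, 455, 475, 169, 100, 509],
    [152, 146, 260, 429, 509, 100],
    [421, 173, 333, 332, 348, 374],
    [151, 446, 146, 118, 351, 101],
    [443, 5, 149, 345, 114, 113],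
    [335, 149, 500, 445, 502, 491],
    [404, 172, 456, 102, 365, 337],
    [274, 370, 184, 436, 110, 102],
    [198, 123, 105, 206, 103, 372],
    [273, 397, 370, 473, 372, 103],
    [460, 224, 404, 405, 403, 398],
    [226, 136, 206, 105, 104, 328],
    [499, 349, 498, 325, 328, 104],
    [448, 6, 477, 324, 106, 105],
    [449, 395, 378, 434, 371, 465],
    [301, 378, 185, 283, 367, 366],
    [489, 166, 231, 106, 324, 323],
    [450, 186, 395, 503, 393, 167],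
    [240, 474, 510, 177, 379, 470],
    [310, 384, 382, 108, 466, 199],
    [239, 510, 117, 314, 115, 375],
    [233, 437, 26, 109, 121, 423],
    [453, 461, 6, 121, 109, 511],
    [211, 366, 465, 360, 511, 109],
    [21, 477, 469, 278, 495, 123],
    [408, 441, 251, 110, 436, 318],
    [17, 469, 461, 250, 487, 122],
    [241, 491, 113, 458, 111, 494],
    [272, 373, 364, 431, 494, 111],
    [394, 170, 440, 217, 425, 424],
    [170, 481, 408, 134, 376, 232],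
    [440, 408, 250, 461, 486, 385],
    [425, 229, 458, 113, 112, 347],
    [424, 285, 412, 316, 347, 112],
    [332, 389, 471, 421, 163, 162],
    [164, 207, 135, 114, 345, 344],
    [422, 440, 116, 115, 314, 435],
    [396, 159, 119, 204, 289, 411],
    [159, 476, 120, 130, 268, 368],
    [411, 265, 439, 353, 315, 116],
    [327, 168, 108, 382, 150, 149],
    [270, 72, 147, 351, 118, 117],
    [252, 244, 394, 393, 503, 427],
    [398, 394, 422, 409, 233, 445],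
    [244, 298, 170, 157, 294, 293],
    [111, 134, 130, 120, 450, 507],
    [503, 442, 268, 450, 120, 291],
    [427, 444, 505, 377, 291, 120],
    [445, 153, 444, 335, 423, 121],
    [13, 501, 227, 205, 179, 187],
    [16, 375, 470, 224, 122, 487],
    [27, 147, 306, 267, 488, 510],
    [501, 7, 418, 508, 235, 242],
    [146, 492, 263, 126, 318, 436],
    [295, 53, 129, 282, 127, 327],
    [296, 334, 325, 498, 327, 127],
    [153, 83, 282, 129, 128, 350],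
    [470, 46, 443, 509, 429, 311],
    [487, 141, 450, 268, 130, 129],
    [469, 201, 253, 457, 326, 432],
    [461, 253, 217, 440, 321, 320],
    [284, 429, 7, 136, 140, 243],
    [161, 152, 132, 131, 435, 314],
    [71, 400, 133, 435, 131, 332],
    [166, 70, 434, 378, 342, 132],
    [494, 203, 139, 359, 507, 450],
    [495, 417, 406, 376, 134, 133],
    [477, 204, 201, 441, 330, 483],
    [171, 504, 151, 202, 305, 309],
    [172, 237, 345, 149, 135, 410],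
    [173, 472, 489, 352, 410, 135],
    [174, 464, 137, 140, 136, 419],
    [175, 425, 472, 390, 419, 136],
    [176, 293, 181, 180, 402, 343],
    [306, 211, 400, 287, 249, 248],
    [181, 360, 359, 139, 482, 475],
    [488, 44, 507, 482, 139, 213],
    [510, 245, 219, 437, 213, 139],
    [474, 339, 245, 384, 243, 140],
    [479, 319, 276, 506, 242, 235],
    [491, 276, 258, 485, 220, 405],
    [357, 47, 43, 354, 329, 428],
    [189, 88, 308, 142, 266, 265],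
    [478, 239, 417, 266, 142, 210],
    [193, 76, 144, 143, 229, 228],
    [471, 301, 141, 229, 143, 426],
    [197, 189, 259, 220, 485, 322],
    [199, 19, 291, 145, 505, 451],
    [235, 468, 377, 505, 145, 185],
    [242, 115, 367, 279, 185, 145],
    [206, 254, 199, 198, 385, 486],
    [207, 199, 281, 480, 322, 485],
    [208, 95, 351, 147, 146, 408],
    [317, 64, 493, 322, 480, 392],
    [319, 156, 107, 299, 148, 147],
    [325, 125, 379, 499, 510, 488],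
    [214, 312, 303, 148, 299, 404],
    [334, 372, 125, 355, 491, 502],
    [221, 144, 466, 150, 382, 381],
    [228, 454, 305, 203, 151, 349],
    [230, 91, 153, 155, 152, 275],
    [234, 26, 266, 417, 308, 307],
    [201, 80, 65, 481, 479, 501],
    [253, 65, 62, 476, 474, 284],
    [326, 190, 168, 294, 157, 500],
    [321, 194, 156, 413, 158, 306],
    [320, 35, 488, 307, 306, 158],
    [251, 324, 244, 243, 384, 383],
    [243, 367, 110, 251, 184, 160],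
    [256, 96, 233, 346, 422, 161],
    [259, 308, 349, 163, 421, 297],
    [263, 508, 171, 511, 360, 333],
    [265, 383, 230, 216, 164, 341],
    [266, 178, 358, 478, 341, 164],
    [203, 369, 179, 228, 227, 397],
    [271, 318, 464, 167, 463, 354],
    [507, 77, 58, 463, 167, 393],
    [483, 502, 34, 313, 369, 169],
    [279, 121, 275, 242, 506, 302],
    [291, 10, 226, 340, 459, 458],
    [202, 105, 511, 171, 465, 371],
    [293, 412, 360, 465, 171, 457],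
    [294, 234, 98, 326, 457, 171],
    [297, 427, 383, 375, 374, 348],
    [299, 503, 262, 319, 337, 365],
    [300, 262, 100, 389, 475, 482],
    [302, 351, 176, 257, 462, 481],
    [305, 484, 322, 493, 281, 244],
    [308, 214, 350, 372, 473, 176],
    [312, 259, 499, 379, 177, 484],
    [314, 382, 452, 239, 455, 254],
    [210, 11, 366, 454, 191, 190],
    [318, 381, 228, 179, 205, 280],
    [322, 69, 318, 317, 263, 355],
    [323, 90, 402, 182, 181, 300],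
    [324, 116, 298, 448, 300, 181],
    [213, 12, 87, 447, 183, 182],
    [245, 478, 495, 309, 469, 468],
    [339, 392, 478, 358, 357, 377],
    [331, 286, 283, 185, 279, 399],
    [333, 489, 51, 186, 197, 207],
    [220, 75, 12, 197, 186, 467],
    [345, 97, 509, 443, 260, 189],
    [348, 343, 193, 192, 442, 237],
    [351, 424, 293, 270, 222, 193],
    [356, 221, 342, 371, 434, 433],
    [358, 256, 225, 339, 196, 431],
    [359, 208, 302, 494, 431, 196],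
    [360, 368, 208, 211, 207, 197],
    [75, 420, 30, 343, 273, 198],
    [508, 132, 504, 501, 438, 310],
    [504, 22, 446, 428, 427, 503],
    [438, 456, 385, 200, 199, 466],
    [468, 129, 426, 433, 432, 326],
    [481, 398, 441, 201, 331, 464],
    [480, 428, 13, 207, 211, 453],
    [493, 362, 203, 305, 202, 449],
    [74, 401, 420, 497, 449, 202],
    [72, 133, 210, 484, 483, 330],
    [117, 219, 290, 289, 204, 203],
    [436, 358, 84, 274, 280, 205],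
    [413, 51, 425, 321, 440, 206],
    [107, 241, 416, 286, 415, 218],
    [447, 193, 221, 213, 437, 387],
    [419, 447, 356, 415, 286, 285],
    [87, 31, 401, 490, 240, 215],
    [113, 258, 321, 425, 217, 216],
    [108, 274, 311, 310, 414, 257],
    [502, 507, 39, 403, 405, 220],
    [430, 197, 312, 414, 310, 438],
    [446, 24, 492, 388, 387, 437],
    [215, 511, 122, 223, 470, 379],
    [509, 50, 224, 470, 223, 441],
    [452, 328, 138, 392, 398, 403],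
    [473, 138, 344, 273, 343, 402],
    [73, 290, 339, 225, 338, 362],
    [105, 131, 340, 226, 363, 407],
    [437, 84, 177, 510, 499, 226],
    [441, 422, 324, 477, 231, 230],
    [109, 311, 346, 233, 409, 317],
    [402, 78, 399, 249, 287, 234],
    [500, 16, 353, 439, 246, 245],
    [85, 353, 363, 459, 340, 339],
    [86, 321, 319, 262, 336, 236],
    [458, 421, 70, 241, 252, 504],
    [457, 410, 278, 469, 309, 305],
    [410, 119, 279, 367, 283, 282],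
    [475, 396, 410, 407, 489, 267],
    [465, 42, 270, 293, 292, 416],
    [58, 33, 320, 462, 257, 414],
    [511, 340, 126, 263, 317, 409],
    [496, 314, 154, 329, 354, 463],
    [431, 36, 323, 272, 271, 496],
    [464, 228, 287, 400, 399, 279],
    [451, 98, 96, 391, 430, 508],
    [340, 160, 145, 291, 377, 357],
    [399, 45, 431, 364, 302, 506],
    [412, 25, 368, 369, 313, 312],
    [106, 416, 352, 489, 407, 363],
    [467, 272, 361, 423, 335, 334]]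

/-- For involutions: the class and the conjugating steps; otherwise class two. -/
def sInv : List (ℕ × List (Bool × List ℕ × List ℕ)) :=
  [(2, []),
    (2, []),
    (2, []),
    (2, []),
    (0, [(false, [1, 2, 7, 7, 0], [1, 4, 4, 8, 0]), (true, [9], [6, 6]), (false, [1], [4, 4])]),
    (0, [(true, [1, 9, 7, 7], [6, 6]), (false, [1], [4, 4])]),
    (0, [(true, [0, 9, 7, 7], [6, 6]), (false, [1], [4, 4])]),
    (0, []),
    (2, []),
    (2, []),
    (1, [(false, [5], [2, 4])]),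
    (2, []),
    (2, []),
    (0, [(false, [1], [4, 4])]),
    (2, []),
    (2, []),
    (2, []),
    (2, []),
    (0, [(false, [1, 1], [4, 4])]),
    (1, [(false, [1, 6, 0], [2, 4])]),
    (1, [(false, [1, 5, 7, 0], [2, 4])]),
    (2, []),
    (1, []),
    (2, []),
    (1, [(false, [0, 7, 1], [2, 4])]),
    (0, [(false, [1, 7, 7, 1], [1, 4, 4, 8, 0]), (true, [9], [6, 6]), (false, [1], [4, 4])]),
    (2, []),
    (2, []),
    (1, [(false, [0, 2, 0], [2, 4])]),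
    (0, [(true, [1, 9, 7, 7, 0], [6, 6]), (false, [1], [4, 4])]),
    (2, []),
    (2, []),
    (2, []),
    (2, []),
    (2, []),
    (2, []),
    (0, [(false, [2, 1, 7, 1, 1], [1, 4, 4, 8, 0]), (true, [9], [6, 6]), (false, [1], [4, 4])]),
    (0, [(true, [1, 9], [6, 6]), (false, [1], [4, 4])]),
    (0, [(true, [0, 9], [6, 6]), (false, [1], [4, 4])]),
    (2, []),
    (2, []),
    (2, []),
    (2, []),
    (2, []),
    (2, []),
    (0, [(false, [1, 2, 7, 0], [1, 4, 4, 8, 0]), (true, [9], [6, 6]), (false, [1], [4, 4])]),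
    (2, []),
    (2, []),
    (2, []),
    (0, [(false, [1, 3, 5, 6, 1], [1, 4, 4, 8, 0]), (true, [9], [6, 6]), (false, [1], [4, 4])]),
    (1, [(false, [1, 3, 6, 1], [2, 4])]),
    (2, []),
    (2, []),
    (2, []),
    (2, []),
    (2, []),
    (2, []),
    (2, []),
    (2, []),
    (2, []),
    (2, []),
    (2, []),
    (2, []),
    (2, []),
    (2, []),
    (2, []),
    (2, []),
    (2, []),
    (2, []),
    (2, []),
    (2, []),
    (2, []),
    (2, []),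
    (1, [(false, [3, 7, 1], [2, 4])]),
    (2, []),
    (2, []),
    (2, []),
    (2, []),
    (0, [(false, [0, 2, 7], [1, 4, 4, 8, 0]), (true, [9], [6, 6]), (false, [1], [4, 4])]),
    (0, [(true, [1, 9, 7, 3, 7], [6, 6]), (false, [1], [4, 4])]),
    (2, []),
    (0, [(false, [1, 3, 5, 7, 1], [1, 4, 4, 8, 0]), (true, [9], [6, 6]), (false, [1], [4, 4])]),
    (2, []),
    (2, []),
    (2, []),
    (2, []),
    (2, []),
    (2, []),
    (2, []),
    (2, []),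
    (0, [(false, [1, 2, 6, 0], [1, 4, 4, 8, 0]), (true, [9], [6, 6]), (false, [1], [4, 4])]),
    (1, [(false, [0, 3, 5, 1], [2, 4])]),
    (2, []),
    (2, []),
    (2, []),
    (2, []),
    (2, []),
    (2, []),
    (2, []),
    (2, []),
    (2, []),
    (2, []),
    (2, []),
    (2, []),
    (2, []),
    (2, []),
    (1, [(false, [1, 3, 6, 0], [2, 4])]),
    (2, []),
    (1, [(false, [3, 1], [2, 4])]),
    (2, []),
    (2, []),
    (2, []),
    (2, []),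
    (1, [(false, [0, 3, 5, 0], [2, 4])]),
    (2, []),
    (2, []),
    (2, []),
    (2, []),
    (2, []),
    (2, []),
    (2, []),
    (2, []),
    (2, []),
    (2, []),
    (2, []),
    (2, []),
    (0, [(false, [0, 0], [4, 4])]),
    (2, []),
    (2, []),
    (2, []),
    (2, []),
    (0, [(false, [0, 2], [4, 4])]),
    (1, [(false, [0, 6, 1], [2, 4])]),
    (1, [(false, [1, 5, 6, 0], [2, 4])]),
    (2, []),
    (2, []),
    (1, [(false, [1, 7, 0], [2, 4])]),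
    (0, [(false, [1, 7, 7, 1, 7], [1, 4, 4, 8, 0]), (true, [9], [6, 6]), (false, [1], [4, 4])]),
    (2, []),
    (2, []),
    (1, [(false, [1, 1, 5, 7, 1], [2, 4])]),
    (0, [(true, [9], [6, 6]), (false, [1], [4, 4])]),
    (2, []),
    (2, []),
    (2, []),
    (2, []),
    (2, []),
    (0, [(true, [1, 9, 6, 3], [6, 6]), (false, [1], [4, 4])]),
    (0, [(true, [1, 9, 7, 1], [6, 6]), (false, [1], [4, 4])]),
    (2, []),
    (1, [(false, [0, 7, 7, 0, 0], [2, 4])]),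
    (2, []),
    (2, []),
    (2, []),
    (2, []),
    (2, []),
    (2, []),
    (0, [(true, [1, 9, 7, 1, 6], [6, 6]), (false, [1], [4, 4])]),
    (1, [(false, [1, 5, 0, 3], [2, 4])]),
    (2, []),
    (2, []),
    (1, [(false, [1, 7, 7, 0], [2, 4])]),
    (2, []),
    (0, [(true, [0, 9, 7], [6, 6]), (false, [1], [4, 4])]),
    (2, []),
    (2, []),
    (2, []),
    (2, []),
    (2, []),
    (1, [(false, [0, 7, 0, 0], [2, 4])]),
    (2, []),
    (2, []),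
    (2, []),
    (2, []),
    (2, []),
    (2, []),
    (2, []),
    (2, []),
    (2, []),
    (0, [(true, [1, 9, 7, 3], [6, 6]), (false, [1], [4, 4])]),
    (2, []),
    (2, []),
    (2, []),
    (2, []),
    (2, []),
    (2, []),
    (2, []),
    (0, [(true, [1, 9, 6, 1], [6, 6]), (false, [1], [4, 4])]),
    (1, [(false, [0, 0, 7, 0], [2, 4])]),
    (2, []),
    (2, []),
    (2, []),
    (0, [(true, [0, 9, 6], [6, 6]), (false, [1], [4, 4])]),
    (2, []),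
    (2, []),
    (2, []),
    (2, []),
    (2, []),
    (2, []),
    (2, []),
    (2, []),
    (2, []),
    (0, [(false, [0], [4, 4])]),
    (2, []),
    (2, []),
    (2, []),
    (2, []),
    (2, []),
    (2, []),
    (2, []),
    (2, []),
    (2, []),
    (0, [(true, [1, 9, 7, 1, 6, 1], [6, 6]), (false, [1], [4, 4])]),
    (2, []),
    (2, []),
    (2, []),
    (2, []),
    (2, []),
    (2, []),
    (2, []),
    (2, []),
    (2, []),
    (2, []),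
    (2, []),
    (2, []),
    (2, []),
    (2, []),
    (2, []),
    (1, [(false, [1, 3, 7, 7, 1], [2, 4])]),
    (2, []),
    (2, []),
    (2, []),
    (2, []),
    (2, []),
    (2, []),
    (2, []),
    (2, []),
    (1, [(false, [0, 6, 0, 3], [2, 4])]),
    (2, []),
    (0, [(true, [1, 9, 6, 0], [6, 6]), (false, [1], [4, 4])]),
    (2, []),
    (2, []),
    (2, []),
    (2, []),
    (2, []),
    (0, [(true, [0, 9, 6, 1], [6, 6]), (false, [1], [4, 4])]),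
    (2, []),
    (2, []),
    (2, []),
    (2, []),
    (2, []),
    (2, []),
    (2, []),
    (2, []),
    (1, [(false, [1, 2, 5, 6, 1], [2, 4])]),
    (0, [(false, [1, 1], [1, 4, 4, 8, 0]), (true, [9], [6, 6]), (false, [1], [4, 4])]),
    (2, []),
    (2, []),
    (2, []),
    (2, []),
    (2, []),
    (2, []),
    (2, []),
    (2, []),
    (2, []),
    (2, []),
    (2, []),
    (2, []),
    (2, []),
    (2, []),
    (2, []),
    (2, []),
    (2, []),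
    (2, []),
    (2, []),
    (2, []),
    (2, []),
    (2, []),
    (2, []),
    (2, []),
    (2, []),
    (2, []),
    (2, []),
    (2, []),
    (2, []),
    (2, []),
    (2, []),
    (2, []),
    (2, []),
    (2, []),
    (2, []),
    (2, []),
    (0, [(false, [1, 2], [4, 4])]),
    (2, []),
    (2, []),
    (2, []),
    (1, [(false, [0, 0, 0], [2, 4])]),
    (1, [(false, [1, 3, 7, 1], [2, 4])]),
    (2, []),
    (2, []),
    (2, []),
    (2, []),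
    (2, []),
    (2, []),
    (2, []),
    (2, []),
    (2, []),
    (2, []),
    (2, []),
    (2, []),
    (2, []),
    (2, []),
    (2, []),
    (2, []),
    (2, []),
    (2, []),
    (2, []),
    (2, []),
    (2, []),
    (0, [(true, [9, 7], [6, 6]), (false, [1], [4, 4])]),
    (2, []),
    (2, []),
    (1, [(false, [1, 3, 1, 7], [2, 4])]),
    (2, []),
    (2, []),
    (2, []),
    (0, [(true, [0, 9, 7, 1], [6, 6]), (false, [1], [4, 4])]),
    (2, []),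
    (2, []),
    (2, []),
    (2, []),
    (2, []),
    (2, []),
    (2, []),
    (2, []),
    (1, [(false, [0, 2, 7, 0], [2, 4])]),
    (2, []),
    (2, []),
    (2, []),
    (2, []),
    (2, []),
    (2, []),
    (2, []),
    (2, []),
    (2, []),
    (2, []),
    (0, [(true, [1, 9, 7, 0], [6, 6]), (false, [1], [4, 4])]),
    (2, []),
    (2, []),
    (2, []),
    (2, []),
    (1, [(false, [3, 5, 0, 2], [2, 4])]),
    (2, []),
    (1, [(false, [1, 5, 0], [2, 4])]),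
    (2, []),
    (2, []),
    (2, []),
    (1, [(false, [3, 1, 5], [2, 4])]),
    (2, []),
    (2, []),
    (1, [(false, [1, 3, 1], [2, 4])]),
    (2, []),
    (2, []),
    (2, []),
    (2, []),
    (2, []),
    (2, []),
    (2, []),
    (2, []),
    (2, []),
    (1, [(false, [1, 5, 6, 0, 2], [2, 4])]),
    (2, []),
    (2, []),
    (2, []),
    (0, [(false, [0, 2], [1, 4, 4, 8, 0]), (true, [9], [6, 6]), (false, [1], [4, 4])]),
    (0, [(true, [9, 7, 1], [6, 6]), (false, [1], [4, 4])]),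
    (2, []),
    (2, []),
    (2, []),
    (2, []),
    (2, []),
    (2, []),
    (2, []),
    (2, []),
    (2, []),
    (2, []),
    (2, []),
    (2, []),
    (2, []),
    (1, [(false, [1, 3, 7, 0], [2, 4])]),
    (2, []),
    (1, [(false, [1, 3, 7, 7, 0], [2, 4])]),
    (2, []),
    (2, []),
    (2, []),
    (1, [(false, [0, 2, 6, 0, 2], [2, 4])]),
    (2, []),
    (2, []),
    (2, []),
    (2, []),
    (2, []),
    (2, []),
    (2, []),
    (2, []),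
    (2, []),
    (1, [(false, [0, 2, 6, 0], [2, 4])]),
    (2, []),
    (2, []),
    (2, []),
    (2, []),
    (2, []),
    (0, [(false, [1, 7, 1, 5], [1, 4, 4, 8, 0]), (true, [9], [6, 6]), (false, [1], [4, 4])]),
    (2, []),
    (2, []),
    (2, []),
    (2, []),
    (2, []),
    (2, []),
    (2, []),
    (2, []),
    (2, []),
    (2, []),
    (2, []),
    (2, []),
    (2, []),
    (2, []),
    (1, [(false, [2, 1, 6, 1], [2, 4])]),
    (2, []),
    (2, []),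
    (2, []),
    (2, []),
    (2, []),
    (2, []),
    (2, []),
    (2, []),
    (0, [(false, [1, 1, 7], [1, 4, 4, 8, 0]), (true, [9], [6, 6]), (false, [1], [4, 4])]),
    (2, []),
    (2, []),
    (2, []),
    (2, []),
    (2, []),
    (2, []),
    (2, []),
    (2, []),
    (2, []),
    (0, [(false, [1, 6, 1], [1, 4, 4, 8, 0]), (true, [9], [6, 6]), (false, [1], [4, 4])]),
    (2, []),
    (2, []),
    (2, []),
    (2, []),
    (2, []),
    (2, []),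
    (2, []),
    (2, []),
    (2, []),
    (2, []),
    (0, [(false, [1, 7, 1], [1, 4, 4, 8, 0]), (true, [9], [6, 6]), (false, [1], [4, 4])]),
    (2, []),
    (2, []),
    (2, []),
    (0, [(false, [1, 6, 1, 5], [1, 4, 4, 8, 0]), (true, [9], [6, 6]), (false, [1], [4, 4])]),
    (1, [(false, [1, 1, 6, 1, 1], [2, 4])]),
    (2, []),
    (2, []),
    (2, []),
    (0, [(true, [1, 9, 7], [6, 6]), (false, [1], [4, 4])]),
    (2, []),
    (2, []),
    (2, []),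
    (0, [(true, [9, 7, 0], [6, 6]), (false, [1], [4, 4])]),
    (2, []),
    (2, []),
    (2, []),
    (2, []),
    (2, []),
    (2, []),
    (2, []),
    (1, [(false, [0, 6, 0, 0], [2, 4])]),
    (2, []),
    (2, []),
    (2, []),
    (2, []),
    (2, []),
    (2, []),
    (2, []),
    (2, []),
    (2, []),
    (2, []),
    (2, []),
    (2, []),
    (2, []),
    (2, []),
    (2, []),
    (0, [(true, [1, 9, 6], [6, 6]), (false, [1], [4, 4])]),
    (2, []),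
    (2, []),
    (2, []),
    (2, []),
    (2, []),
    (2, []),
    (2, []),
    (2, []),
    (2, []),
    (2, []),
    (2, []),
    (2, []),
    (2, []),
    (2, []),
    (2, []),
    (2, []),
    (2, []),
    (2, [])]

/-- The elements of the centraliser of `u` in the centraliser of the involution. -/
def phWords : List (List ℕ) :=
  [[],
    [8],
    [2, 4],
    [2, 5],
    [4, 4],
    [2, 4, 8],
    [2, 5, 8],
    [2, 8, 2],
    [0, 6, 6, 1],
    [1, 6, 0, 7],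
    [1, 7, 0, 6],
    [4, 6, 2, 6],
    [4, 7, 2, 7],
    [5, 6, 2, 6],
    [5, 7, 2, 7],
    [0, 6, 6, 1, 8],
    [0, 8, 6, 6, 1],
    [1, 6, 0, 7, 8],
    [1, 7, 0, 6, 8],
    [1, 8, 6, 0, 7],
    [1, 8, 7, 0, 6],
    [2, 8, 6, 2, 6],
    [2, 8, 7, 2, 7],
    [4, 6, 2, 6, 8],
    [4, 7, 2, 7, 8],
    [4, 8, 6, 2, 6],
    [4, 8, 7, 2, 7],
    [5, 6, 2, 6, 8],
    [5, 7, 2, 7, 8],
    [5, 8, 6, 2, 6],
    [5, 8, 7, 2, 7],
    [6, 2, 6, 8, 2],
    [7, 2, 7, 8, 2],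
    [0, 4, 4, 6, 6, 1],
    [0, 4, 6, 1, 6, 6],
    [0, 4, 6, 6, 1, 2],
    [0, 5, 6, 6, 1, 2],
    [0, 5, 7, 1, 6, 6],
    [0, 8, 6, 6, 1, 8],
    [1, 8, 6, 0, 7, 8],
    [1, 8, 7, 0, 6, 8],
    [2, 8, 6, 2, 6, 8],
    [2, 8, 7, 2, 7, 8],
    [4, 8, 6, 2, 6, 8],
    [4, 8, 7, 2, 7, 8],
    [5, 8, 6, 2, 6, 8],
    [5, 8, 7, 2, 7, 8],
    [0, 2, 8, 2, 6, 6, 1],
    [0, 4, 4, 6, 6, 1, 8],
    [0, 4, 6, 6, 1, 2, 8],
    [0, 4, 6, 6, 1, 8, 2],
    [0, 4, 8, 6, 6, 1, 2],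
    [0, 5, 8, 6, 6, 1, 2],
    [0, 6, 6, 8, 6, 6, 1],
    [0, 6, 8, 6, 8, 6, 1],
    [6, 1, 7, 8, 6, 0, 7],
    [6, 2, 6, 8, 7, 2, 7],
    [7, 1, 6, 8, 7, 0, 6],
    [7, 2, 7, 8, 6, 2, 6],
    [0, 2, 8, 2, 6, 6, 1, 8],
    [0, 4, 8, 6, 6, 1, 2, 8],
    [0, 4, 8, 6, 6, 1, 8, 2],
    [0, 6, 6, 0, 8, 6, 0, 7],
    [0, 6, 6, 0, 8, 7, 0, 6],
    [0, 6, 6, 8, 6, 6, 1, 8],
    [0, 6, 8, 6, 8, 6, 1, 8],
    [1, 6, 0, 8, 7, 0, 8, 6],
    [1, 7, 0, 8, 6, 0, 8, 7],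
    [2, 6, 1, 8, 7, 2, 8, 7],
    [2, 7, 1, 8, 6, 2, 8, 6],
    [6, 1, 7, 1, 8, 6, 6, 1],
    [6, 1, 7, 8, 6, 0, 7, 8],
    [6, 2, 6, 8, 7, 2, 7, 8],
    [6, 8, 7, 0, 6, 0, 8, 7],
    [7, 1, 6, 1, 8, 6, 6, 1],
    [7, 1, 6, 8, 7, 0, 6, 8],
    [7, 2, 7, 8, 6, 2, 6, 8],
    [7, 8, 6, 0, 7, 0, 8, 6],
    [8, 6, 2, 6, 8, 7, 2, 7],
    [8, 7, 2, 7, 8, 6, 2, 6],
    [0, 4, 4, 6, 6, 8, 6, 6, 1],
    [0, 4, 4, 6, 8, 6, 8, 6, 1],
    [0, 4, 6, 6, 8, 7, 1, 6, 6],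
    [0, 5, 6, 6, 8, 6, 1, 6, 6],
    [0, 8, 6, 6, 0, 8, 6, 0, 7],
    [0, 8, 6, 6, 0, 8, 7, 0, 6],
    [1, 6, 2, 8, 6, 6, 1, 8, 7],
    [1, 6, 6, 2, 8, 6, 8, 6, 1],
    [1, 6, 6, 8, 2, 7, 8, 7, 1],
    [4, 7, 0, 8, 6, 6, 1, 8, 7],
    [6, 0, 7, 8, 6, 6, 1, 8, 7],
    [6, 0, 8, 6, 6, 1, 2, 8, 7],
    [6, 0, 8, 6, 6, 1, 8, 2, 7],
    [7, 0, 6, 8, 6, 6, 1, 8, 6],
    [7, 0, 8, 6, 6, 1, 2, 8, 6],
    [7, 0, 8, 6, 6, 1, 8, 2, 6]]

/-- Generators of this centraliser. -/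
def phGens : List (List ℕ) :=
  [[8],
    [2, 4],
    [2, 5],
    [0, 6, 6, 1],
    [1, 6, 0, 7]]

/-- Right multiplication by the generators. -/
def phNext : List (List ℕ) :=
  [[1, 2, 3, 8, 9],
    [0, 5, 6, 16, 19],
    [5, 0, 4, 36, 14],
    [6, 4, 0, 35, 12],
    [7, 3, 2, 33, 37],
    [2, 1, 7, 51, 26],
    [3, 7, 1, 52, 30],
    [4, 6, 5, 47, 22],
    [15, 36, 35, 0, 34],
    [17, 14, 12, 34, 33],
    [18, 13, 11, 37, 0],
    [23, 34, 10, 14, 3],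
    [24, 37, 9, 13, 36],
    [27, 10, 34, 12, 2],
    [28, 9, 37, 11, 35],
    [8, 50, 49, 53, 62],
    [38, 51, 52, 1, 21],
    [9, 28, 24, 74, 45],
    [10, 27, 23, 70, 55],
    [39, 26, 30, 21, 47],
    [40, 25, 29, 22, 1],
    [41, 29, 25, 19, 7],
    [42, 30, 26, 20, 16],
    [11, 31, 18, 79, 67],
    [12, 32, 17, 78, 40],
    [43, 20, 21, 30, 5],
    [44, 19, 22, 29, 52],
    [13, 18, 31, 77, 68],
    [14, 17, 32, 73, 41],
    [45, 21, 20, 26, 6],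
    [46, 22, 19, 25, 51],
    [34, 23, 27, 87, 56],
    [37, 24, 28, 88, 43],
    [48, 35, 36, 4, 10],
    [31, 11, 13, 9, 4],
    [49, 33, 8, 3, 13],
    [50, 8, 33, 2, 11],
    [32, 12, 14, 10, 8],
    [16, 60, 61, 64, 84],
    [19, 44, 46, 68, 23],
    [20, 43, 45, 69, 73],
    [21, 45, 43, 66, 78],
    [22, 46, 44, 67, 27],
    [25, 40, 41, 57, 74],
    [26, 39, 42, 55, 31],
    [29, 41, 40, 58, 88],
    [30, 42, 39, 56, 18],
    [59, 52, 51, 7, 20],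
    [33, 49, 50, 80, 82],
    [35, 48, 15, 54, 76],
    [36, 15, 48, 81, 75],
    [60, 16, 47, 5, 29],
    [61, 47, 16, 6, 25],
    [64, 81, 54, 15, 83],
    [65, 80, 53, 49, 71],
    [71, 68, 67, 44, 87],
    [72, 67, 68, 46, 70],
    [75, 69, 66, 43, 17],
    [76, 66, 69, 45, 32],
    [47, 61, 60, 89, 90],
    [51, 38, 59, 86, 95],
    [52, 59, 38, 65, 94],
    [69, 75, 76, 83, 80],
    [68, 71, 72, 82, 15],
    [53, 86, 65, 38, 93],
    [54, 89, 64, 61, 91],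
    [82, 58, 57, 41, 24],
    [83, 56, 55, 42, 77],
    [63, 55, 56, 39, 79],
    [62, 57, 58, 40, 28],
    [84, 77, 79, 18, 44],
    [55, 63, 83, 76, 50],
    [56, 83, 63, 75, 49],
    [91, 74, 88, 28, 66],
    [85, 73, 78, 17, 58],
    [57, 62, 82, 72, 54],
    [58, 82, 62, 71, 81],
    [95, 70, 87, 27, 39],
    [92, 88, 74, 24, 69],
    [94, 87, 70, 23, 42],
    [89, 54, 81, 48, 63],
    [86, 53, 80, 50, 72],
    [66, 76, 75, 63, 53],
    [67, 72, 71, 62, 48],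
    [70, 95, 94, 93, 89],
    [74, 91, 92, 90, 38],
    [81, 64, 89, 60, 92],
    [90, 79, 77, 31, 46],
    [93, 78, 73, 32, 57],
    [80, 65, 86, 59, 85],
    [87, 94, 95, 85, 64],
    [73, 85, 93, 94, 60],
    [78, 93, 85, 95, 61],
    [88, 92, 91, 84, 59],
    [79, 90, 84, 91, 86],
    [77, 84, 90, 92, 65]]

/-- Images in the product of a group of order two with the symmetric group of degree four. -/
def phImage : List (List ℕ) :=
  [[0, 0, 1, 2, 3],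
    [0, 2, 1, 0, 3],
    [0, 0, 1, 2, 3],
    [1, 0, 1, 2, 3],
    [1, 0, 1, 2, 3],
    [0, 2, 1, 0, 3],
    [1, 2, 1, 0, 3],
    [1, 2, 1, 0, 3],
    [1, 1, 0, 3, 2],
    [1, 3, 2, 0, 1],
    [1, 2, 3, 1, 0],
    [0, 2, 3, 1, 0],
    [0, 3, 2, 0, 1],
    [1, 2, 3, 1, 0],
    [1, 3, 2, 0, 1],
    [1, 3, 0, 1, 2],
    [1, 1, 2, 3, 0],
    [1, 0, 2, 3, 1],
    [1, 1, 3, 2, 0],
    [1, 3, 0, 2, 1],
    [1, 0, 3, 1, 2],
    [0, 0, 3, 1, 2],
    [0, 3, 0, 2, 1],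
    [0, 1, 3, 2, 0],
    [0, 0, 2, 3, 1],
    [1, 0, 3, 1, 2],
    [1, 3, 0, 2, 1],
    [1, 1, 3, 2, 0],
    [1, 0, 2, 3, 1],
    [0, 0, 3, 1, 2],
    [0, 3, 0, 2, 1],
    [0, 1, 3, 2, 0],
    [0, 0, 2, 3, 1],
    [0, 1, 0, 3, 2],
    [0, 2, 3, 1, 0],
    [0, 1, 0, 3, 2],
    [1, 1, 0, 3, 2],
    [0, 3, 2, 0, 1],
    [1, 3, 2, 1, 0],
    [1, 2, 0, 3, 1],
    [1, 1, 3, 0, 2],
    [0, 1, 3, 0, 2],
    [0, 2, 0, 3, 1],
    [1, 1, 3, 0, 2],
    [1, 2, 0, 3, 1],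
    [0, 1, 3, 0, 2],
    [0, 2, 0, 3, 1],
    [0, 1, 2, 3, 0],
    [0, 3, 0, 1, 2],
    [0, 3, 0, 1, 2],
    [1, 3, 0, 1, 2],
    [1, 1, 2, 3, 0],
    [0, 1, 2, 3, 0],
    [0, 0, 3, 2, 1],
    [1, 0, 3, 2, 1],
    [0, 0, 2, 1, 3],
    [1, 0, 2, 1, 3],
    [0, 3, 1, 2, 0],
    [1, 3, 1, 2, 0],
    [0, 3, 2, 1, 0],
    [1, 3, 2, 1, 0],
    [0, 3, 2, 1, 0],
    [0, 2, 1, 3, 0],
    [0, 1, 2, 0, 3],
    [0, 2, 3, 0, 1],
    [1, 2, 3, 0, 1],
    [1, 3, 1, 2, 0],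
    [1, 0, 2, 1, 3],
    [0, 0, 2, 1, 3],
    [0, 3, 1, 2, 0],
    [0, 3, 1, 0, 2],
    [0, 1, 2, 0, 3],
    [1, 1, 2, 0, 3],
    [0, 2, 0, 1, 3],
    [0, 2, 0, 1, 3],
    [0, 2, 1, 3, 0],
    [1, 2, 1, 3, 0],
    [0, 3, 1, 0, 2],
    [1, 2, 0, 1, 3],
    [1, 3, 1, 0, 2],
    [1, 0, 3, 2, 1],
    [0, 0, 3, 2, 1],
    [1, 2, 1, 3, 0],
    [1, 1, 2, 0, 3],
    [0, 0, 1, 3, 2],
    [0, 1, 0, 2, 3],
    [0, 2, 3, 0, 1],
    [1, 3, 1, 0, 2],
    [1, 2, 0, 1, 3],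
    [1, 2, 3, 0, 1],
    [1, 0, 1, 3, 2],
    [0, 1, 0, 2, 3],
    [1, 1, 0, 2, 3],
    [1, 1, 0, 2, 3],
    [1, 0, 1, 3, 2],
    [0, 0, 1, 3, 2]]

/-- The elements of the centraliser of `u` in the normaliser of `V`. -/
def pmWords : List (List ℕ) :=
  [[],
    [4, 6],
    [4, 7],
    [6, 6],
    [0, 0, 4, 1, 3],
    [3, 1, 6, 0, 2],
    [3, 1, 7, 0, 2],
    [0, 0, 6, 6, 1, 1],
    [0, 2, 4, 6, 0, 4],
    [0, 2, 4, 6, 0, 6],
    [0, 2, 4, 6, 0, 7],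
    [0, 4, 0, 3, 6, 1],
    [1, 1, 4, 6, 0, 3],
    [1, 1, 6, 0, 6, 0],
    [1, 1, 7, 0, 7, 0],
    [1, 2, 4, 7, 1, 4],
    [1, 2, 4, 7, 1, 6],
    [1, 2, 4, 7, 1, 7],
    [1, 4, 1, 3, 7, 0],
    [1, 6, 1, 4, 0, 3],
    [3, 1, 6, 6, 0, 2],
    [6, 0, 2, 4, 7, 0],
    [6, 1, 2, 4, 6, 1],
    [7, 0, 2, 4, 7, 0],
    [7, 1, 2, 4, 6, 1],
    [0, 0, 0, 4, 0, 2, 6],
    [0, 0, 0, 4, 0, 2, 7],
    [0, 0, 4, 1, 3, 6, 6],
    [0, 0, 4, 6, 6, 1, 3],
    [0, 4, 6, 0, 4, 7, 0],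
    [0, 4, 7, 0, 4, 6, 0],
    [0, 6, 1, 1, 7, 0, 4],
    [0, 7, 1, 1, 6, 0, 4],
    [1, 1, 1, 4, 6, 1, 2],
    [2, 4, 1, 6, 0, 2, 6],
    [2, 4, 1, 7, 0, 2, 7],
    [0, 0, 0, 4, 6, 0, 2, 4],
    [0, 0, 0, 4, 6, 0, 2, 6],
    [0, 0, 0, 4, 6, 0, 2, 7],
    [0, 0, 0, 4, 7, 0, 2, 4],
    [0, 0, 0, 4, 7, 0, 2, 6],
    [0, 0, 0, 4, 7, 0, 2, 7],
    [0, 2, 4, 1, 7, 0, 0, 7],
    [0, 2, 4, 6, 0, 4, 6, 6],
    [0, 3, 7, 1, 2, 4, 1, 2],
    [0, 4, 0, 3, 6, 1, 4, 7],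
    [1, 1, 4, 6, 0, 3, 4, 6],
    [1, 1, 4, 6, 0, 3, 4, 7],
    [1, 1, 4, 6, 0, 3, 6, 6],
    [1, 2, 4, 7, 1, 4, 6, 6],
    [1, 6, 1, 1, 4, 1, 2, 6],
    [1, 6, 1, 1, 4, 1, 2, 7],
    [1, 6, 1, 4, 0, 3, 6, 6],
    [1, 6, 6, 1, 4, 7, 0, 3],
    [1, 7, 1, 4, 6, 6, 0, 3],
    [2, 6, 1, 4, 0, 6, 0, 4],
    [2, 6, 1, 4, 0, 6, 0, 6],
    [2, 6, 1, 4, 7, 0, 0, 4],
    [2, 6, 1, 4, 7, 0, 0, 6],
    [0, 0, 0, 4, 6, 6, 0, 2, 4],
    [0, 0, 0, 4, 6, 6, 0, 2, 6],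
    [0, 0, 0, 4, 6, 6, 0, 2, 7],
    [0, 4, 6, 1, 4, 0, 3, 7, 0],
    [0, 4, 7, 1, 4, 0, 3, 6, 0]]

/-- Generators of this centraliser. -/
def pmGens : List (List ℕ) :=
  [[0, 2, 4, 6, 0, 4],
    [4, 6],
    [4, 7],
    [0, 0, 4, 1, 3]]

/-- Right multiplication by the generators. -/
def pmNext : List (List ℕ) :=
  [[8, 1, 2, 4],
    [9, 0, 3, 25],
    [49, 3, 0, 26],
    [17, 2, 1, 27],
    [12, 25, 26, 0],
    [45, 34, 32, 39],
    [22, 31, 35, 36],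
    [43, 30, 29, 28],
    [32, 9, 10, 44],
    [14, 8, 43, 54],
    [6, 43, 8, 58],
    [0, 24, 45, 12],
    [38, 46, 47, 11],
    [24, 35, 31, 62],
    [18, 32, 34, 63],
    [13, 16, 17, 19],
    [35, 15, 49, 50],
    [34, 49, 15, 51],
    [29, 23, 42, 33],
    [60, 50, 51, 15],
    [16, 29, 30, 59],
    [7, 45, 24, 48],
    [2, 42, 23, 55],
    [20, 18, 22, 53],
    [1, 11, 21, 46],
    [46, 4, 27, 1],
    [55, 27, 4, 2],
    [56, 26, 25, 3],
    [48, 61, 60, 7],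
    [15, 20, 7, 60],
    [10, 7, 20, 61],
    [42, 6, 13, 37],
    [23, 14, 5, 41],
    [63, 53, 56, 18],
    [21, 5, 14, 40],
    [11, 13, 6, 38],
    [58, 37, 38, 6],
    [57, 36, 62, 31],
    [50, 62, 36, 35],
    [52, 40, 41, 5],
    [51, 39, 63, 34],
    [44, 63, 39, 32],
    [3, 22, 18, 56],
    [31, 10, 9, 57],
    [4, 54, 58, 8],
    [30, 21, 11, 47],
    [62, 12, 48, 24],
    [39, 48, 12, 45],
    [40, 47, 46, 21],
    [5, 17, 16, 52],
    [59, 19, 52, 16],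
    [27, 52, 19, 17],
    [26, 51, 50, 49],
    [41, 33, 55, 23],
    [25, 44, 57, 9],
    [36, 56, 53, 22],
    [37, 55, 33, 42],
    [28, 58, 54, 43],
    [61, 57, 44, 10],
    [53, 60, 61, 20],
    [33, 59, 28, 29],
    [47, 28, 59, 30],
    [19, 38, 37, 13],
    [54, 41, 40, 14]]

/-- The position of the fourth power of `e`. -/
def e4Index : ℕ :=
  20

/-- Positions of inverses. -/
def pmInv : List ℕ :=
  [0, 1, 2, 3, 4, 6, 5, 7, 11, 24, 22, 8, 12, 14, 13, 18, 23, 21, 15, 19, 20, 17, 10, 16, 9, 25, 26, 27, 28, 29, 30, 34, 35, 33, 31, 32, 36, 37, 38, 39, 40, 41, 43, 42, 44, 49, 46, 55, 56, 45, 50, 57, 58, 53, 54, 47, 48, 51, 52, 59, 60, 61, 62, 63]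

/-- The common part of the two centralisers. -/
def t1Words : List (List ℕ) :=
  [[],
    [2, 4],
    [2, 5],
    [4, 4],
    [8],
    [0, 8, 6, 8, 1],
    [0, 8, 7, 8, 1],
    [0, 6, 6, 1],
    [1, 6, 0, 7],
    [1, 7, 0, 6],
    [4, 7, 8, 7, 8],
    [2, 4, 8],
    [2, 5, 8],
    [4, 4, 8],
    [4, 6, 8, 6],
    [2, 6, 8, 6, 8],
    [2, 7, 8, 7, 8],
    [4, 7, 2, 7],
    [5, 6, 2, 6],
    [4, 6, 2, 6],
    [5, 7, 2, 7],
    [0, 6, 1, 7, 8, 6],
    [6, 2, 8, 7],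
    [5, 7, 2, 7, 8],
    [0, 7, 1, 6, 8, 7],
    [4, 6, 2, 6, 8],
    [7, 2, 8, 6],
    [4, 7, 8, 7],
    [2, 6, 8, 6],
    [2, 7, 8, 7],
    [1, 6, 0, 7, 8],
    [1, 7, 0, 6, 8]]

/-- Positions in the second centraliser. -/
def t1InM : List ℕ :=
  [0, 1, 2, 3, 4, 5, 6, 7, 13, 14, 20, 25, 26, 27, 28, 29, 30, 31, 32, 34, 35, 36, 37, 38, 39, 40, 41, 59, 60, 61, 62, 63]

/-- Positions in the first centraliser. -/
def t1InH : List ℕ :=
  [0, 2, 3, 4, 59, 34, 37, 8, 9, 10, 33, 61, 60, 38, 89, 35, 36, 12, 13, 11, 14, 85, 91, 92, 84, 95, 94, 64, 86, 65, 93, 90]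

/-- Classification of the common part. -/
def t1Label : List (ℕ × List (Bool × List ℕ × List ℕ)) :=
  [(0, []),
    (1, []),
    (1, [(false, [5], [2, 4])]),
    (2, []),
    (3, [(true, [9], [4, 7, 8, 7, 8])]),
    (0, []),
    (0, []),
    (2, [(false, [5, 1, 7, 5, 3, 1], [4, 4])]),
    (0, []),
    (0, []),
    (3, []),
    (1, [(false, [0, 3, 5, 1], [2, 4])]),
    (1, [(false, [1, 3, 6, 1], [2, 4])]),
    (2, [(true, [9], [0, 6, 6, 1]), (false, [5, 1, 7, 5, 3, 1], [4, 4])]),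
    (2, [(true, [9, 6, 1, 7, 0], [0, 6, 6, 1]), (false, [5, 1, 7, 5, 3, 1], [4, 4])]),
    (1, [(false, [1, 7, 7, 0], [2, 4])]),
    (1, [(false, [1, 2, 5, 6, 1], [2, 4])]),
    (0, []),
    (0, []),
    (0, []),
    (0, []),
    (1, [(false, [0, 2, 7, 0], [2, 4])]),
    (2, [(false, [5, 1, 7, 5, 3, 1], [4, 4, 8]), (true, [9], [0, 6, 6, 1]), (false, [5, 1, 7, 5, 3, 1], [4, 4])]),
    (3, [(false, [0, 7, 2, 1, 5, 1], [8]), (true, [9], [4, 7, 8, 7, 8])]),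
    (1, [(false, [1, 5, 0], [2, 4])]),
    (2, [(false, [0, 7, 2, 1, 5, 1], [4, 4, 8]), (true, [9], [0, 6, 6, 1]), (false, [5, 1, 7, 5, 3, 1], [4, 4])]),
    (3, [(false, [5, 1, 7, 5, 3, 1], [8]), (true, [9], [4, 7, 8, 7, 8])]),
    (3, [(true, [9, 6, 1, 7, 0], [4, 7, 8, 7, 8])]),
    (1, [(false, [1, 3, 7, 1], [2, 4])]),
    (1, [(false, [0, 6, 0, 3], [2, 4])]),
    (1, [(false, [0, 2, 6, 0], [2, 4])]),
    (1, [(false, [2, 1, 6, 1], [2, 4])])]

/-- The fourth power of `e` in the letters of the common part. -/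
def e4Tok : List ℕ :=
  [4, 7, 8, 7, 8]

/-- The square of `e`. -/
def fTok : List ℕ :=
  [5, 6, 2, 6]

/-- The conjugate of the involution by `e`. -/
def t1Tok : List ℕ :=
  [0, 6, 6, 1]

/-- A conjugate of it by `d`. -/
def tauTok : List ℕ :=
  [4, 4, 8]

/-- Its product with the square of `e`. -/
def tauTok2 : List ℕ :=
  [6, 2, 8, 7]

/-- An element moving the fourth power of `e` to the involution. -/
def mWord : List ℕ :=
  [0, 2]

/-- The image of `u`. -/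
def u2Tok : List ℕ :=
  [1, 8, 0, 6]

/-- Steps from the product of the involution with `u` to `u`. -/
def tuSteps : List (Bool × List ℕ × List ℕ) :=
  [(false, [5], [2, 4])]

/-- An involution of the second centraliser outside the first. -/
def fIndex : ℕ :=
  12

/-- A move of it into the common part and steps to `u`. -/
def fMove : List ℕ × List ℕ × List (Bool × List ℕ × List ℕ) :=
  ([1, 2, 1], [2, 4], [])

/-- A move of it into the common part and steps to `u`. -/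
def fuMove : List ℕ × List ℕ × List (Bool × List ℕ × List ℕ) :=
  ([1], [6, 2, 6, 8], [(false, [1, 3, 7, 7, 1], [2, 4])])

/-- Steps from the involution towards `d`. -/
def dSteps : List (Bool × List ℕ × List ℕ) :=
  [(false, [0, 2, 4, 6, 0, 4, 6, 6], [0, 6, 6, 1]), (true, [5, 8, 6, 2, 6], [4, 4, 8]), (false, [0, 2, 4, 6, 0, 4, 6, 6], [6, 2, 8, 7])]

/-- The last step. -/
def dLast : List ℕ :=
  [7, 1, 6, 1, 8, 6, 6, 1]

/-- The generators as products of squares and fused elements. -/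
def phGen2 : List (List (ℕ × ℕ)) :=
  [[(0, 70), (2, 25)],
    [(1, 0)],
    [(1, 0), (2, 3)],
    [(2, 7)],
    [(0, 15), (1, 0), (2, 23)]]

end Cfsg.Agent.Lib.HS60.Data
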