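import Cfsg.Agent.Lib.HS60.Chart

/-!
# A frame of the normaliser of `V`

Owner: helper60.
-/

set_option autoImplicit false
set_option linter.unusedSectionVars false
set_option maxHeartbeats 1000000
set_option maxRecDepth 8000

namespace Cfsg.Agent.Lib.HS60

open Subgroup

variable {G : Type*} [Group G] {t : G} {R Cy V : Subgroup G}

/-- Second basis element. -/
def A1 (s a : G) : G := s * a * s⁻¹

/-- Third basis element. -/
def A2 (s a : G) : G := s * (s * a * s⁻¹) * s⁻¹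

/-- Three commuting elements of exponent four give a chart. -/
structure Base (a a1 a2 : G) : Prop where
  f0 : a ^ 4 = 1
  f1 : a1 ^ 4 = 1
  f2 : a2 ^ 4 = 1
  c01 : a * a1 = a1 * a
  c02 : a * a2 = a2 * a
  c12 : a1 * a2 = a2 * a1

namespace Base

variable {a a1 a2 : G} (B : Base a a1 a2)
include B

omit B in
theorem pow_val {x : G} (hx : x ^ 4 = 1) (n : ℕ) : x ^ ((n : ZMod 4)).val = x ^ n := by
  conv_rhs => rw [← Nat.mod_add_div n 4, pow_add, pow_mul, hx, one_pow, mul_one]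
  rw [ZMod.val_natCast]

theorem phi_add (u v : V3) : phi a a1 a2 (u + v) = phi a a1 a2 u * phi a a1 a2 v := by
  have hadd : ∀ {x : G}, x ^ 4 = 1 → ∀ i j : ZMod 4, x ^ (i + j).val = x ^ i.val * x ^ j.val := by
    intro x hx i j
    rw [← pow_add, ← pow_val hx (i.val + j.val), Nat.cast_add, ZMod.natCast_val, ZMod.natCast_val,
      ZMod.cast_id, ZMod.cast_id]
  have h1 : ∀ m n : ℕ, a1 ^ m * a ^ n = a ^ n * a1 ^ m := fun m n =>
    ((Commute.pow_pow (show Commute a a1 from B.c01) n m).eq).symm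
  have h2 : ∀ m n : ℕ, a2 ^ m * a ^ n = a ^ n * a2 ^ m := fun m n =>
    ((Commute.pow_pow (show Commute a a2 from B.c02) n m).eq).symm
  have h3 : ∀ m n : ℕ, a2 ^ m * a1 ^ n = a1 ^ n * a2 ^ m := fun m n =>
    ((Commute.pow_pow (show Commute a1 a2 from B.c12) n m).eq).symm
  simp only [phi, Prod.fst_add, Prod.snd_add]
  rw [hadd B.f0, hadd B.f1, hadd B.f2]
  simp only [mul_assoc]
  congr 1
  rw [← mul_assoc (a2 ^ u.2.2.val), h2]
  simp only [mul_assoc]
  rw [← mul_assoc (a1 ^ u.2.1.val) (a ^ v.1.val), h1]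
  simp only [mul_assoc]
  congr 2
  rw [← mul_assoc (a2 ^ u.2.2.val) (a1 ^ v.2.1.val), h3]
  simp only [mul_assoc]

omit B in
theorem phi_zero : phi a a1 a2 0 = 1 := by simp [phi]

theorem phi_nsmul (n : ℕ) (u : V3) : phi a a1 a2 (n • u) = phi a a1 a2 u ^ n := by
  induction n with
  | zero => rw [zero_smul, phi_zero, pow_zero]
  | succ n ih => rw [succ_nsmul, B.phi_add, ih, pow_succ]

omit B in
theorem phi_e0 : phi a a1 a2 e0 = a := by
  simp [phi, show (1 : ZMod 4).val = 1 from rfl]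

omit B in
theorem phi_e1 : phi a a1 a2 e1 = a1 := by
  simp [phi, show (1 : ZMod 4).val = 1 from rfl]

omit B in
theorem phi_e2 : phi a a1 a2 e2 = a2 := by
  simp [phi, show (1 : ZMod 4).val = 1 from rfl]

omit B in
theorem lin_eq (c0 c1 c2 v : V3) : v.1.val • c0 + v.2.1.val • c1 + v.2.2.val • c2 = lin c0 c1 c2 v := by
  simp [lin, Prod.ext_iff, nsmul_eq_mul]

/-- Conjugation is linear in the coordinates. -/
theorem conj_phi {g : G} {c0 c1 c2 : V3} (h0 : g * a * g⁻¹ = phi a a1 a2 c0)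
    (h1 : g * a1 * g⁻¹ = phi a a1 a2 c1) (h2 : g * a2 * g⁻¹ = phi a a1 a2 c2) (v : V3) :
    g * phi a a1 a2 v * g⁻¹ = phi a a1 a2 (lin c0 c1 c2 v) := by
  have e : ∀ (x : G) (n : ℕ), g * x ^ n * g⁻¹ = (g * x * g⁻¹) ^ n := fun x n => conj_pow.symm
  rw [← lin_eq, B.phi_add, B.phi_add, B.phi_nsmul, B.phi_nsmul, B.phi_nsmul, ← h0, ← h1, ← h2,
    ← e, ← e, ← e]
  simp only [phi]
  group

end Base

/-- The frame: lifts of generators of `GL(3,2)` and their action on the group of order 64. -/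
structure Frame (t : G) (R Cy V : Subgroup G) (s r w a : G) : Prop where
  sM : s ∈ normalizer (V : Set G)
  rM : r ∈ normalizer (V : Set G)
  wM : w ∈ normalizer (V : Set G)
  aCy : a ∈ Cy
  ha4 : orderOf a = 4
  haa : a * a = t
  inj : Function.Injective (phi a (A1 s a) (A2 s a))
  surj : ∀ x ∈ AA V, ∃ v, phi a (A1 s a) (A2 s a) v = x
  actS : ∀ v, s * phi a (A1 s a) (A2 s a) v * s⁻¹ = phi a (A1 s a) (A2 s a) (LS v)
  actR : ∀ v, r * phi a (A1 s a) (A2 s a) v * r⁻¹ = phi a (A1 s a) (A2 s a) (LR v)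
  actW : ∀ v, w * phi a (A1 s a) (A2 s a) v * w⁻¹ = phi a (A1 s a) (A2 s a) (LW v)
  r_cube : r * r * r = 1
  wr : w * r * w⁻¹ = r⁻¹
  ms : s ^ 7 ∈ AA V
  mrs : r * s * r⁻¹ * (s * s)⁻¹ ∈ AA V
  mww : w * w ∈ AA V
  msw : (s * w) ^ 3 ∈ AA V

namespace Setup

variable (S : Setup t R Cy V)
include S

theorem base {s a : G} (hs : s ∈ normalizer (V : Set G)) (ha : a ∈ Cy) :
    Base a (A1 s a) (A2 s a) := by
  have h0 := S.Cy_le_A ha
  have h1 : A1 s a ∈ AA V := S.A_conj hs h0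
  have h2 : A2 s a ∈ AA V := S.A_conj hs h1
  exact ⟨S.Afour _ h0, S.Afour _ h1, S.Afour _ h2, S.Acomm _ h0 _ h1, S.Acomm _ h0 _ h2,
    S.Acomm _ h1 _ h2⟩

theorem phi_mem {s a : G} (hs : s ∈ normalizer (V : Set G)) (ha : a ∈ Cy) (v : V3) :
    phi a (A1 s a) (A2 s a) v ∈ AA V := by
  have h0 := S.Cy_le_A ha
  have h1 : A1 s a ∈ AA V := S.A_conj hs h0
  have h2 : A2 s a ∈ AA V := S.A_conj hs h1
  exact mul_mem (mul_mem (pow_mem h0 _) (pow_mem h1 _)) (pow_mem h2 _)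

omit S in
theorem act_of_mem {g x : G} (hg : g ∈ AA V) (hx : x ∈ AA V) (S : Setup t R Cy V) :
    g * x * g⁻¹ = x := by
  rw [S.Acomm g hg x hx, mul_inv_cancel_right]

theorem exists_frame [Finite G] : ∃ s r w a, Frame t R Cy V s r w a := by
  obtain ⟨ν, hνinj, hνV, hνsurj, hνt, hreal⟩ := S.exists_basis
  let σS : (ZMod 2 × ZMod 2 × ZMod 2) ≃+ (ZMod 2 × ZMod 2 × ZMod 2) :=
    { toFun := fun p => (p.2.2, p.1, p.2.1 + p.2.2)
      invFun := fun p => (p.2.1, p.2.2 - p.1, p.1)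
      left_inv := by unfold Function.LeftInverse; decide
      right_inv := by unfold Function.RightInverse Function.LeftInverse; decide
      map_add' := by decide }
  let σR : (ZMod 2 × ZMod 2 × ZMod 2) ≃+ (ZMod 2 × ZMod 2 × ZMod 2) :=
    { toFun := fun p => (p.1 + p.2.2, p.2.2, p.2.1 + p.2.2)
      invFun := fun p => (p.1 - p.2.1, p.2.2 - p.2.1, p.2.1)
      left_inv := by unfold Function.LeftInverse; decide
      right_inv := by unfold Function.RightInverse Function.LeftInverse; decide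
      map_add' := by decide }
  let σW : (ZMod 2 × ZMod 2 × ZMod 2) ≃+ (ZMod 2 × ZMod 2 × ZMod 2) :=
    { toFun := fun p => (p.1 + p.2.1, p.2.1, p.2.1 + p.2.2)
      invFun := fun p => (p.1 + p.2.1, p.2.1, p.2.1 + p.2.2)
      left_inv := by unfold Function.LeftInverse; decide
      right_inv := by unfold Function.RightInverse Function.LeftInverse; decide
      map_add' := by decide }
  obtain ⟨s, hs, hsv⟩ := hreal σS
  obtain ⟨r0, hr0, hr0v⟩ := hreal σR
  obtain ⟨w0, hw0, hw0v⟩ := hreal σW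
  obtain ⟨a, ha4, haCy, haa⟩ := S.exists_gen_sq
  have B := S.base hs haCy
  set φ := phi a (A1 s a) (A2 s a) with hφ
  have hφA : ∀ v, φ v ∈ AA V := S.phi_mem hs haCy
  set nu : ZMod 2 × ZMod 2 × ZMod 2 → G := fun u => ν (Multiplicative.ofAdd u) with hnu
  have hφadd : ∀ u v, φ (u + v) = φ u * φ v := B.phi_add
  have hφsmul : ∀ (n : ℕ) u, φ (n • u) = φ u ^ n := B.phi_nsmul
  have hφ0 : φ 0 = 1 := Base.phi_zero
  have hφe0 : φ e0 = a := Base.phi_e0
  have hφe1 : φ e1 = A1 s a := Base.phi_e1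
  have hφe2 : φ e2 = A2 s a := Base.phi_e2
  -- squares of the basis
  let red : V3 → ZMod 2 × ZMod 2 × ZMod 2 := fun u =>
    (ZMod.castHom (show 2 ∣ 4 by norm_num) _ u.1, ZMod.castHom (show 2 ∣ 4 by norm_num) _ u.2.1,
      ZMod.castHom (show 2 ∣ 4 by norm_num) _ u.2.2)
  have hnu_add : ∀ u v, nu (u + v) = nu u * nu v := fun u v => by
    rw [hnu]; exact map_mul ν _ _
  have hnu_nsmul : ∀ (n : ℕ) u, nu (n • u) = nu u ^ n := fun n u => by
    rw [hnu]; exact map_pow ν _ n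
  have hsq0 : φ e0 * φ e0 = nu (1, 0, 0) := by
    rw [hφe0, haa, hnu]; exact hνt.symm
  have hsq1 : φ e1 * φ e1 = nu (0, 1, 0) := by
    rw [hφe1, show A1 s a * A1 s a = s * (a * a) * s⁻¹ by rw [A1]; group, haa, ← hνt]
    exact (hsv (1, 0, 0)).trans (congrArg nu (by decide : σS (1, 0, 0) = (0, 1, 0)))
  have hsq2 : φ e2 * φ e2 = nu (0, 0, 1) := by
    rw [hφe2, show A2 s a * A2 s a = s * (A1 s a * A1 s a) * s⁻¹ by rw [A2, A1]; group]
    rw [hφe1] at hsq1
    rw [hsq1]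
    exact (hsv (0, 1, 0)).trans (congrArg nu (by decide : σS (0, 1, 0) = (0, 0, 1)))
  have hsq : ∀ u, φ u * φ u = nu (red u) := by
    intro u
    have hu : u = u.1.val • e0 + u.2.1.val • e1 + u.2.2.val • e2 := by
      rw [Base.lin_eq]; revert u; decide
    have hr : red u = u.1.val • ((1, 0, 0) : ZMod 2 × ZMod 2 × ZMod 2) + u.2.1.val • (0, 1, 0) +
        u.2.2.val • (0, 0, 1) := by
      revert u; decide
    have e : φ (2 • u) = nu (red u) := by
      rw [hr, hnu_add, hnu_add, hnu_nsmul, hnu_nsmul, hnu_nsmul, ← hsq0, ← hsq1, ← hsq2,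
        ← hφadd, ← hφadd, ← hφadd, ← hφsmul, ← hφsmul, ← hφsmul,
        ← hφadd, ← hφadd]
      congr 1
      conv_lhs => rw [hu]
      simp only [two_nsmul, nsmul_add]
    rw [← e, two_nsmul, hφadd]
  have heven : ∀ u, φ (2 • u) = nu (red u) := fun u => by rw [two_nsmul, hφadd]; exact hsq u
  have hinj : Function.Injective φ := by
    have h0 : ∀ u, φ u = 1 → u = 0 := by
      intro u hu
      have h1 : nu (red u) = 1 := by rw [← hsq, hu, mul_one]
      have h2 : Multiplicative.ofAdd (red u) = 1 := hνinj (by rw [map_one]; exact h1)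
      have hev : ∀ u : V3, red u = 0 → ∃ u', u = 2 • u' := by decide
      obtain ⟨u', rfl⟩ := hev u h2
      rw [heven] at hu
      have h3 : Multiplicative.ofAdd (red u') = 1 := hνinj (by rw [map_one]; exact hu)
      obtain ⟨u'', rfl⟩ := hev u' h3
      rw [← mul_nsmul]
      have h4 : ∀ x : V3, (2 * 2) • x = 0 := by decide
      exact h4 u''
    intro u v h
    have h4 : ∀ x : V3, x + 3 • x = 0 := by decide
    have h5 : u + 3 • v = 0 := h0 _ (by
      rw [hφadd, h, ← hφadd, h4,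
        hφ0])
    have h6 : ∀ x y : V3, x + 3 • y = 0 → x = y := by decide
    exact h6 u v h5
  have hsurj : ∀ x ∈ AA V, ∃ v, φ v = x := by
    intro x hx
    let g : V3 → AA V := fun v => ⟨φ v, hφA v⟩
    have hg : Function.Bijective g := by
      refine (Nat.bijective_iff_injective_and_card g).2
        ⟨fun u v h => hinj (congrArg Subtype.val h), ?_⟩
      rw [S.cardA, Nat.card_prod, Nat.card_prod, Nat.card_zmod]
    obtain ⟨v, hv⟩ := hg.2 ⟨x, hx⟩
    exact ⟨v, congrArg Subtype.val hv⟩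
  have hcoord : ∀ g ∈ normalizer (V : Set G), ∀ v, ∃ c, g * φ v * g⁻¹ = φ c := fun g hg v => by
    obtain ⟨c, hc⟩ := hsurj _ (S.A_conj hg (hφA v))
    exact ⟨c, hc.symm⟩
  -- parity of a column
  have hpar : ∀ g (σ : (ZMod 2 × ZMod 2 × ZMod 2) ≃+ (ZMod 2 × ZMod 2 × ZMod 2)) (v c tg : V3),
      (∀ u, g * nu u * g⁻¹ = nu (σ u)) → g * φ v * g⁻¹ = φ c → σ (red v) = red tg →
      2 • c = 2 • tg := by
    intro g σ v c tg hg hc hσ
    refine hinj ?_
    rw [heven, heven, ← hσ, ← hg, ← hsq c, ← hc, ← hsq v]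
    group
  -- the action of `s`
  obtain ⟨c, hc⟩ := hcoord s hs e2
  have hs0 : s * a * s⁻¹ = φ e1 := by rw [hφe1]; rfl
  have hs1 : s * A1 s a * s⁻¹ = φ e2 := by rw [hφe2]; rfl
  have hactS0 : ∀ v, s * φ v * s⁻¹ = φ (lin e1 e2 c v) :=
    B.conj_phi hs0 hs1 (by have h := hc; rw [hφe2] at h; exact h)
  have hiter : ∀ {g : G} {L : V3 → V3}, (∀ v, g * φ v * g⁻¹ = φ (L v)) → ∀ n v,
      g ^ n * φ v * (g ^ n)⁻¹ = φ (L^[n] v) := by
    intro g L h n
    induction n with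
    | zero => intro v; simp
    | succ n ih =>
      intro v
      rw [Function.iterate_succ_apply', ← h, ← ih, pow_succ']
      group
  -- membership in `A` from the action on `V`
  have hmemA : ∀ g, g ∈ normalizer (V : Set G) → (∀ u, g * nu u * g⁻¹ = nu u) → g ∈ AA V := by
    intro g _ hg
    rw [mem_centralizer_iff]
    intro v hv
    obtain ⟨y, rfl⟩ := hνsurj v hv
    have := hg y.toAdd
    rw [mul_inv_eq_iff_eq_mul] at this
    exact this.symm
  have hcomp : ∀ {g g' : G} {σ σ' : ZMod 2 × ZMod 2 × ZMod 2 → ZMod 2 × ZMod 2 × ZMod 2},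
      (∀ u, g * nu u * g⁻¹ = nu (σ u)) → (∀ u, g' * nu u * g'⁻¹ = nu (σ' u)) →
      ∀ u, g * g' * nu u * (g * g')⁻¹ = nu (σ (σ' u)) := fun h h' u => by
    rw [← h, ← h']; group
  have hinvv : ∀ {g : G} {σ σi : ZMod 2 × ZMod 2 × ZMod 2 → ZMod 2 × ZMod 2 × ZMod 2},
      (∀ u, g * nu u * g⁻¹ = nu (σ u)) → (∀ u, σ (σi u) = u) →
      ∀ u, g⁻¹ * nu u * g⁻¹⁻¹ = nu (σi u) := fun h h' u => by
    conv_lhs => rw [← h' u, ← h]
    group
  have hfix : ∀ {g : G}, g ∈ AA V → ∀ v, g * φ v * g⁻¹ = φ v := fun hg v =>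
    act_of_mem hg (hφA v) S
  have hpowv : ∀ n u, s ^ n * nu u * (s ^ n)⁻¹ = nu (σS^[n] u) := by
    intro n
    induction n with
    | zero => intro u; simp
    | succ n ih =>
      intro u
      rw [Function.iterate_succ_apply', pow_succ']
      rw [show nu (σS (σS^[n] u)) = s * nu (σS^[n] u) * s⁻¹ from (hsv _).symm, ← ih]
      simp only [hnu]
      group
  have hs7 : s ^ 7 ∈ AA V := hmemA _ (pow_mem hs _) fun u => by
    rw [hpowv]
    exact congrArg nu ((by decide : ∀ u, σS^[7] u = u) u)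
  have hcS : c = (1, 2, 1) := by
    refine sCol_unique c ?_ (hinj ?_)
    · exact (hpar s σS e2 c (1, 0, 1) hsv hc (by decide)).trans (by decide)
    · rw [← hiter hactS0]
      exact hfix hs7 e0
  subst hcS
  -- `r`
  have hrt : r0 * t * r0⁻¹ = t := by
    rw [← hνt]; exact (hr0v _).trans (congrArg nu (by decide : σR (1, 0, 0) = (1, 0, 0)))
  set r := r0 ^ 4 with hr
  have hr3 : r0 * r0 * r0 ∈ AA V := hmemA _ (mul_mem (mul_mem hr0 hr0) hr0) fun u => by
    rw [hcomp (hcomp hr0v hr0v) hr0v]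
    exact congrArg nu ((by decide : ∀ u, σR (σR (σR u)) = u) u)
  have hr_cube : r * r * r = 1 := by
    have h := S.Afour _ hr3
    have e : r * r * r = (r0 * r0 * r0) ^ 4 := by
      rw [hr, ← pow_add, ← pow_add, show r0 * r0 * r0 = r0 ^ 3 by simp [pow_succ, mul_assoc],
        ← pow_mul]
    rw [e, h]
  have hrM : r ∈ normalizer (V : Set G) := pow_mem hr0 _
  have hrv : ∀ u, r * nu u * r⁻¹ = nu (σR u) := by
    intro u
    have h := hcomp (σ := σR) hr0v (σ' := id) (g' := r0 * r0 * r0)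
      (fun u => by
        rw [hcomp (hcomp hr0v hr0v) hr0v]
        exact congrArg nu ((by decide : ∀ u, σR (σR (σR u)) = u) u))
    rw [hr, show r0 ^ 4 = r0 * (r0 * r0 * r0) by simp [pow_succ, mul_assoc]]
    exact h u
  have hrH : r ∈ centralizer ({t} : Set G) := by
    rw [mem_centralizer_singleton_iff]
    have h := hrv (1, 0, 0)
    rw [hnu] at h
    simp only [hνt] at h
    exact mul_inv_eq_iff_eq_mul.1
      (h.trans ((congrArg nu (by decide : σR (1, 0, 0) = (1, 0, 0))).trans hνt))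
  have hgen : ∀ x ∈ Cy, x = 1 ∨ x = a ∨ x = t ∨ x = a * t := by
    intro x hx
    obtain ⟨b, hb, hgenb⟩ := S.cy_gen
    have hz : zpowers a = Cy := eq_of_le_of_card_ge (zpowers_le.2 haCy)
      (by rw [← hgenb, Nat.card_zpowers, Nat.card_zpowers, hb, ha4])
    rw [← hz] at hx
    obtain ⟨n, rfl⟩ := mem_zpowers_iff.1 hx
    rw [← zpow_mod_orderOf, ha4]
    have hn : n % (4 : ℤ) = 0 ∨ n % (4 : ℤ) = 1 ∨ n % (4 : ℤ) = 2 ∨ n % (4 : ℤ) = 3 := by omega
    simp only [Nat.cast_ofNat]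
    rcases hn with h | h | h | h <;> rw [h]
    · exact Or.inl (zpow_zero _)
    · exact Or.inr (Or.inl (zpow_one _))
    · exact Or.inr (Or.inr (Or.inl (by rw [zpow_two, haa])))
    · exact Or.inr (Or.inr (Or.inr (by rw [← haa]; simp [zpow_ofNat, pow_succ, mul_assoc])))
  have hconja : ∀ g ∈ centralizer ({t} : Set G), g * a * g⁻¹ = a ∨ g * a * g⁻¹ = a * t := by
    intro g hg
    have hgt : g * t * g⁻¹ = t := by
      rw [mem_centralizer_singleton_iff.1 hg, mul_inv_cancel_right]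
    rcases hgen _ (S.Cy_conj hg haCy) with h | h | h | h
    · exfalso
      have : a = 1 := by simpa [mul_assoc] using congrArg (fun x => g⁻¹ * x * g) h
      rw [this, orderOf_one] at ha4
      omega
    · exact Or.inl h
    · exfalso
      have : a = t := by
        have h2 := congrArg (fun x => g⁻¹ * x * g) (h.trans hgt.symm)
        simpa [mul_assoc] using h2
      rw [this, S.ht] at ha4
      omega
    · exact Or.inr h
  have hra : r * a * r⁻¹ = a := by
    rcases hconja r hrH with h | h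
    · exact h
    · exfalso
      have hrt' : r * t * r⁻¹ = t := by
        rw [mem_centralizer_singleton_iff.1 hrH, mul_inv_cancel_right]
      have e2 : r * (r * a * r⁻¹) * r⁻¹ = a := by
        rw [h, show r * (a * t) * r⁻¹ = (r * a * r⁻¹) * (r * t * r⁻¹) by group, h, hrt', mul_assoc,
          S.t_sq, mul_one]
      have e3 : a * t = a := by
        have e4 : r * (r * (r * a * r⁻¹) * r⁻¹) * r⁻¹ = a := by
          rw [show r * (r * (r * a * r⁻¹) * r⁻¹) * r⁻¹ = (r * r * r) * a * (r * r * r)⁻¹ by group,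
            hr_cube]
          group
        rw [e2, h] at e4
        exact e4
      exact S.t_ne (mul_eq_left.1 e3)
  have hrs : r * s * r⁻¹ * (s * s)⁻¹ ∈ AA V :=
    hmemA _ (mul_mem (mul_mem (mul_mem hrM hs) (inv_mem hrM)) (inv_mem (mul_mem hs hs))) fun u => by
      rw [hcomp (hcomp (hcomp hrv hsv) (hinvv hrv σR.apply_symm_apply))
        (hinvv (hcomp hsv hsv) (σi := fun u => σS.symm (σS.symm u)) (fun u => by simp))]
      exact congrArg nu ((by decide : ∀ u, σR (σS (σR.symm (σS.symm (σS.symm u)))) = u) u)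
  have hrs' : ∀ v, r * s * φ v * (r * s)⁻¹ = s * s * (r * φ v * r⁻¹) * (s * s)⁻¹ := by
    intro v
    obtain ⟨x, hx, hxe⟩ : ∃ x ∈ AA V, r * s * r⁻¹ = x * (s * s) := ⟨_, hrs, by group⟩
    rw [show r * s * φ v * (r * s)⁻¹ = (r * s * r⁻¹) * (r * φ v * r⁻¹) * (r * s * r⁻¹)⁻¹ by group,
      hxe, show x * (s * s) * (r * φ v * r⁻¹) * (x * (s * s))⁻¹ =
        x * (s * s * (r * φ v * r⁻¹) * (s * s)⁻¹) * x⁻¹ by group]
    exact act_of_mem hx (S.A_conj (mul_mem hs hs) (S.A_conj hrM (hφA v))) S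
  have hr1 : r * A1 s a * r⁻¹ = φ e2 := by
    have h := hrs' e0
    rw [hφe0, hra] at h
    rw [hφe2, A2, show r * A1 s a * r⁻¹ = r * s * a * (r * s)⁻¹ by rw [A1]; group, h]
    group
  have hr2 : r * A2 s a * r⁻¹ = φ (1, 3, 3) := by
    have h := hrs' e1
    rw [hφe1, hr1] at h
    rw [← rCol_eq, ← hiter hactS0, hφe0,
      show r * A2 s a * r⁻¹ = r * s * A1 s a * (r * s)⁻¹ by rw [A2, A1]; group, h, hφe2,
      A2]
    simp only [pow_succ, pow_zero, one_mul]
    group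
  have hactR : ∀ v, r * φ v * r⁻¹ = φ (LR v) := B.conj_phi (by rw [hra]; exact hφe0.symm) hr1 hr2
  -- `w`
  have hw0t : w0 ∈ centralizer ({t} : Set G) := by
    rw [mem_centralizer_singleton_iff]
    have h := hw0v (1, 0, 0)
    simp only [hνt] at h
    exact mul_inv_eq_iff_eq_mul.1
      (h.trans ((congrArg nu (by decide : σW (1, 0, 0) = (1, 0, 0))).trans hνt))
  have hy : w0 * r * w0⁻¹ * r ∈ AA V :=
    hmemA _ (mul_mem (mul_mem (mul_mem hw0 hrM) (inv_mem hw0)) hrM) fun u => by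
      rw [hcomp (hcomp (hcomp hw0v hrv) (hinvv hw0v σW.apply_symm_apply)) hrv]
      exact congrArg nu ((by decide : ∀ u, σW (σR (σW.symm (σR u))) = u) u)
  obtain ⟨y, hyv⟩ := hsurj _ hy
  have hrinv : r⁻¹ = r * r := inv_eq_of_mul_eq_one_right (by rw [← mul_assoc]; exact hr_cube)
  have he : w0 * r * w0⁻¹ = φ y * r⁻¹ := by rw [hyv]; group
  obtain ⟨x, hx⟩ := norm_LR y (hinj (by
    rw [show y + LR y + LR (LR y) = y + LR (LR y) + LR y by abel, hφadd, hφadd,
      hφ0, ← hactR (LR y), ← hactR y,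
      show φ y * (r * (r * φ y * r⁻¹) * r⁻¹) * (r * φ y * r⁻¹) =
        φ y * (r * r) * φ y * (r * r)⁻¹ * r * φ y * r⁻¹ by group, ← hrinv, inv_inv,
      show φ y * r⁻¹ * φ y * r * r * φ y * r⁻¹ = φ y * r⁻¹ * φ y * (r * r) * φ y * r⁻¹ by group,
      ← hrinv, show φ y * r⁻¹ * φ y * r⁻¹ * φ y * r⁻¹ = (φ y * r⁻¹) ^ 3 by
        simp [pow_succ, mul_assoc], ← he, conj_pow,
      show r ^ 3 = 1 by rw [← hr_cube]; simp [pow_succ, mul_assoc], mul_one, mul_inv_cancel]))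
  set w := φ x * w0 with hw
  have hwM : w ∈ normalizer (V : Set G) := mul_mem (S.A_le (hφA x)) hw0
  have hwr : w * r * w⁻¹ = r⁻¹ := by
    have e : φ (x - LR (LR x)) * φ (LR (LR x)) = φ x := by
      rw [← hφadd, sub_add_cancel]
    rw [hx, ← hactR (LR x), ← hactR x] at e
    have hy1 : φ (-y) = (φ y)⁻¹ := eq_inv_of_mul_eq_one_left (by
      rw [← hφadd, neg_add_cancel, hφ0])
    rw [hy1, show r * (r * φ x * r⁻¹) * r⁻¹ = (r * r) * φ x * (r * r)⁻¹ by group, ← hrinv,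
      inv_inv] at e
    have hxy : φ x * φ y = r⁻¹ * φ x * r := by
      rw [S.Acomm _ (hφA x) _ (hφA y)]
      calc φ y * φ x = φ y * ((φ y)⁻¹ * (r⁻¹ * φ x * r)) := by rw [e]
        _ = _ := by group
    calc w * r * w⁻¹ = φ x * (w0 * r * w0⁻¹) * (φ x)⁻¹ := by rw [hw]; group
      _ = (φ x * φ y) * r⁻¹ * (φ x)⁻¹ := by rw [he]; group
      _ = r⁻¹ := by rw [hxy]; group
  have hwv : ∀ u, w * nu u * w⁻¹ = nu (σW u) := fun u => by
    rw [show w * nu u * w⁻¹ = φ x * (w0 * nu u * w0⁻¹) * (φ x)⁻¹ by rw [hw]; group, hw0v]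
    exact act_of_mem (hφA x) (S.V_le_A (hνV _)) S
  have hwt : w ∈ centralizer ({t} : Set G) := mul_mem (S.A_le_H (hφA x)) hw0t
  obtain ⟨c1, hc1⟩ := hcoord w hwM e1
  obtain ⟨c2, hc2⟩ := hcoord w hwM e2
  obtain ⟨c0, hc0, hc0'⟩ : ∃ c0 : V3, w * a * w⁻¹ = φ c0 ∧ (c0 = (1, 0, 0) ∨ c0 = (3, 0, 0)) := by
    rcases hconja w hwt with h | h
    · exact ⟨_, by rw [h, ← hφe0], Or.inl rfl⟩
    · refine ⟨(3, 0, 0), ?_, Or.inr rfl⟩
      rw [h, show ((3, 0, 0) : V3) = e0 + (e0 + e0) by decide, hφadd, hφadd,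
        hφe0, haa]
  have hactW0 : ∀ v, w * φ v * w⁻¹ = φ (lin c0 c1 c2 v) :=
    B.conj_phi hc0 (by have h := hc1; rw [hφe1] at h; exact h)
      (by have h := hc2; rw [hφe2] at h; exact h)
  have hww : w * w ∈ AA V := hmemA _ (mul_mem hwM hwM) fun u => by
    rw [hcomp hwv hwv]
    exact congrArg nu ((by decide : ∀ u, σW (σW u) = u) u)
  have hsw : (s * w) ^ 3 ∈ AA V := hmemA _ (pow_mem (mul_mem hs hwM) _) fun u => by
    rw [show (s * w) ^ 3 = s * w * (s * w) * (s * w) by simp [pow_succ, mul_assoc],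
      hcomp (hcomp (hcomp hsv hwv) (hcomp hsv hwv)) (hcomp hsv hwv)]
    exact congrArg nu ((by decide : ∀ u, σS (σW (σS (σW (σS (σW u))))) = u) u)
  have hWW : ∀ v, lin c0 c1 c2 (lin c0 c1 c2 v) = v := fun v => hinj (by
    rw [← hactW0, ← hactW0]
    exact (show w * (w * φ v * w⁻¹) * w⁻¹ = w * w * φ v * (w * w)⁻¹ by group).trans (hfix hww v))
  have hWRW : ∀ v, lin c0 c1 c2 (LR (lin c0 c1 c2 v)) = LR (LR v) := fun v => hinj (by
    rw [← hactW0, ← hactR, ← hactW0, ← hactR, ← hactR,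
      show w * (r * (w * φ v * w⁻¹) * r⁻¹) * w⁻¹ =
        (w * r * w⁻¹) * (w * w * φ v * (w * w)⁻¹) * (w * r * w⁻¹)⁻¹ by group, hfix hww, hwr, inv_inv,
      show r * (r * φ v * r⁻¹) * r⁻¹ = (r * r) * φ v * (r * r)⁻¹ by group, ← hrinv, inv_inv])
  have hSW : (fun v => LS (lin c0 c1 c2 v))^[3] e1 = e1 := hinj (by
    rw [← hiter (g := s * w) (fun v => by
      rw [← hactS0, ← hactW0]
      group)]
    exact hfix hsw e1)
  obtain ⟨rfl, rfl, rfl⟩ := wCol_unique c0 hc0' c1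
    ((hpar w σW e1 c1 (1, 1, 1) hwv hc1 (by decide)).trans (by decide)) c2
    ((hpar w σW e2 c2 (0, 0, 1) hwv hc2 (by decide)).trans (by decide))
    (hWW e1) (hWW e2) (hWRW e1) (hWRW e2) hSW
  exact ⟨s, r, w, a, ⟨hs, hrM, hwM, haCy, ha4, haa, hinj, hsurj, hactS0, hactR, hactW0, hr_cube,
    hwr, hs7, hrs, hww, hsw⟩⟩

end Setup

end Cfsg.Agent.Lib.HS60
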