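import Mathlib

/-!
# The computations in the symmetric group of degree five

Owner: helper60.
-/

set_option autoImplicit false
set_option maxRecDepth 8000

namespace Cfsg.Agent.Lib.HS60

/-- The symmetric group of degree five. -/
abbrev S5 : Type := Equiv.Perm (Fin 5)

/-- The three-cycle. -/
def rho : S5 := Equiv.swap 0 1 * Equiv.swap 1 2

/-- The transposition commuting with it. -/
def tau : S5 := Equiv.swap 3 4

theorem rho_facts : rho * rho * rho = 1 ∧ rho ≠ 1 ∧ tau * tau = 1 ∧ tau ≠ 1 ∧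
    tau * rho = rho * tau ∧ Equiv.Perm.sign tau = -1 := by decide +kernel

theorem conj_three : ∀ p : S5, p * p * p = 1 → p ≠ 1 → ∃ q : S5, q * p * q⁻¹ = rho := by
  decide +kernel

theorem normaliser_rho : ∀ o : S5, o * rho * o⁻¹ = rho⁻¹ → o * tau = tau * o := by decide +kernel

/-- The image of the second basis element is an involution moving the point fixed by `B`. -/
def XCond (x : S5) : Prop :=
  x * x = 1 ∧ x ≠ 1 ∧ rho * x * rho⁻¹ * x = x * (rho * x * rho⁻¹) ∧
    rho * rho * x * (rho * rho)⁻¹ = x * (rho * x * rho⁻¹)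

instance (x : S5) : Decidable (XCond x) := by unfold XCond; infer_instance

theorem tau_not_norm : ∀ x : S5, XCond x →
    tau * x * tau ≠ 1 ∧ tau * x * tau ≠ x ∧ tau * x * tau ≠ rho * x * rho⁻¹ ∧
      tau * x * tau ≠ x * (rho * x * rho⁻¹) := by decide +kernel

/-- The image of `w`. -/
def OCond (x o : S5) : Prop :=
  o * o = 1 ∧ o * rho * o⁻¹ = rho⁻¹ ∧ Equiv.Perm.sign o = -1 ∧
    o * x * o⁻¹ = x * (rho * x * rho⁻¹)

instance (x o : S5) : Decidable (OCond x o) := by unfold OCond; infer_instance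

theorem prod_three : ∀ x : S5, XCond x → ∀ o : S5, OCond x o →
    (tau * (x * o * x⁻¹)) ^ 3 = 1 ∧ tau * (x * o * x⁻¹) ≠ 1 := by decide +kernel

theorem five_cycle : ∀ x : S5, XCond x → ∀ o : S5, OCond x o →
    (x * rho * tau * x * tau) ^ 5 = 1 ∧ x * rho * tau * x * tau ≠ 1 := by decide +kernel

theorem eq_top_of_five {H : Subgroup S5} (ht : tau ∈ H) {g : S5} (hg : g ∈ H) (h5 : g ^ 5 = 1)
    (h1 : g ≠ 1) : H = ⊤ := by
  classical
  haveI : Fact (Nat.Prime 5) := ⟨by norm_num⟩
  refine Equiv.Perm.subgroup_eq_top_of_swap_mem (by simp; norm_num) ?_ ht ⟨3, 4, by decide, rfl⟩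
  have h5' : 5 ∣ Nat.card H := by
    have := Subgroup.orderOf_dvd_natCard _ hg
    rwa [orderOf_eq_prime h5 h1] at this
  simpa [Nat.card_eq_fintype_card] using h5'

theorem hom_two_sign {α : Type*} [CommGroup α] (χ : S5 →* α) (h : χ tau = 1) (p : S5) : χ p = 1 := by
  have hp : p ∈ Subgroup.closure {σ : S5 | σ.IsSwap} := by
    rw [Equiv.Perm.closure_isSwap]; trivial
  induction hp using Subgroup.closure_induction with
  | mem x hx =>
    obtain ⟨a, b, hab, rfl⟩ := hx
    obtain ⟨c, hc⟩ := isConj_iff.1 (Equiv.Perm.isConj_swap (show (3 : Fin 5) ≠ 4 by decide) hab)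
    rw [← hc, map_mul, map_mul, map_inv, mul_right_comm, mul_inv_cancel, one_mul]
    exact h
  | one => exact map_one χ
  | mul a b _ _ ha hb => rw [map_mul, ha, hb, mul_one]
  | inv a _ ha => rw [map_inv, ha, inv_one]

end Cfsg.Agent.Lib.HS60
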