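import Cfsg.Agent.Lib.HS60.Frame
import Cfsg.Agent.Lib.HS60.SFive

/-!
# First consequences of a frame

Owner: helper60.
-/

set_option autoImplicit false
set_option linter.unusedSectionVars false
set_option maxHeartbeats 1000000
set_option maxRecDepth 8000

namespace Cfsg.Agent.Lib.HS60

open Subgroup

variable {G : Type*} [Group G] {t : G} {R Cy V : Subgroup G} {s r w a : G}

namespace Frame

variable (F : Frame t R Cy V s r w a) (S : Setup t R Cy V)

/-- The chart of the frame. -/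
abbrev ch (s a : G) (v : V3) : G := phi a (A1 s a) (A2 s a) v

include F S

theorem mem_A (v : V3) : ch s a v ∈ AA V := S.phi_mem F.sM F.aCy v

theorem ch_add (u v : V3) : ch s a (u + v) = ch s a u * ch s a v := (S.base F.sM F.aCy).phi_add u v

theorem ch_double (v : V3) : ch s a (2 • v) = ch s a v * ch s a v := by
  rw [two_nsmul]; exact F.ch_add S v v

theorem a_R : a ∈ R := S.Cy_le F.aCy

theorem a_A : a ∈ AA V := S.Cy_le_A F.aCy

theorem mem_V_even (v : V3) : ch s a (2 • v) ∈ V := by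
  refine S.Ainv _ (F.mem_A S _) ?_
  rw [← F.ch_add S]
  have h : ∀ x : V3, 2 • x + 2 • x = 0 := by decide
  rw [h]
  exact Base.phi_zero

theorem even_of_sq (v : V3) (h : ch s a v * ch s a v = 1) : ∃ u, v = 2 • u := by
  rw [← F.ch_add S] at h
  have h0 := F.inj (h.trans Base.phi_zero.symm)
  have hd : ∀ x : V3, x + x = 0 → ∃ u, x = 2 • u := by decide
  exact hd v h0

omit F in
theorem t_H (S : Setup t R Cy V) : t ∈ centralizer ({t} : Set G) :=
  S.R_le (S.Cy_le S.cy_t)

theorem conj_t {g : G} {L : V3 → V3} (h : ∀ v, g * ch s a v * g⁻¹ = ch s a (L v))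
    (hL : L (2, 0, 0) = (2, 0, 0)) : g ∈ centralizer ({t} : Set G) := by
  rw [mem_centralizer_singleton_iff]
  have e : ch s a (2, 0, 0) = t := by
    show phi a (A1 s a) (A2 s a) (2, 0, 0) = t
    rw [← F.haa]
    simp [phi, show (2 : ZMod 4).val = 2 from rfl, pow_two]
  have h2 := h (2, 0, 0)
  rw [hL, e] at h2
  exact mul_inv_eq_iff_eq_mul.1 h2

theorem r_H : r ∈ centralizer ({t} : Set G) := F.conj_t S F.actR (by decide)

theorem w_H : w ∈ centralizer ({t} : Set G) := F.conj_t S F.actW (by decide)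

theorem r_a : r * a * r⁻¹ = a := by
  have h := F.actR e0
  rwa [show LR e0 = e0 by decide, Base.phi_e0] at h

theorem r_a1 : r * A1 s a * r⁻¹ = A2 s a := by
  have h := F.actR e1
  rwa [show LR e1 = e2 by decide, Base.phi_e1, Base.phi_e2] at h

theorem w_a : w * a * w⁻¹ = a⁻¹ := by
  have h := F.actW e0
  rw [Base.phi_e0] at h
  refine h.trans (eq_inv_of_mul_eq_one_left ?_)
  have e := F.ch_add S (LW e0) e0
  rw [show LW e0 + e0 = 0 by decide, show ch s a 0 = 1 from Base.phi_zero,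
    show ch s a e0 = a from Base.phi_e0] at e
  exact e.symm

theorem R_pow_four {x : G} (hx : x ∈ R) : x ^ 4 = 1 := by
  rw [show x ^ 4 = (x * x) * (x * x) by simp [pow_succ, mul_assoc]]
  rcases S.Rsq x hx with h | h <;> rw [h]
  · exact mul_one _
  · exact S.t_sq

theorem r_not_R : r ∉ R := by
  intro hr
  have h := F.R_pow_four S hr
  have h1 : r = 1 := by
    rw [show r ^ 4 = (r * r * r) * r by simp [pow_succ, mul_assoc], F.r_cube, one_mul] at h
    exact h
  have e := F.r_a1 S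
  rw [h1, one_mul, inv_one, mul_one] at e
  exact absurd (F.inj (Base.phi_e1.trans (e.trans Base.phi_e2.symm))) (by decide : e1 ≠ e2)

/-- Elements of `R` move elements of `V` only by `t`. -/
theorem R_on_V {x v : G} (hx : x ∈ R) (hv : v ∈ V) : x * v * x⁻¹ = v ∨ x * v * x⁻¹ = v * t := by
  have hvR := S.VR hv
  have hv2 := S.Vsq v hv
  have hvi : v⁻¹ = v := inv_eq_of_mul_eq_one_right hv2
  have key : x * v * x⁻¹ * v = (x * v * (x * v)) * (v * (x * x)⁻¹ * v) := by
    conv_rhs =>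
      rw [show x * v * (x * v) * (v * (x * x)⁻¹ * v) = x * v * x * (v * v) * (x * x)⁻¹ * v by group,
        hv2]
    group
  have hti : t⁻¹ = t := inv_eq_of_mul_eq_one_right S.t_sq
  have hvt : v * t = t * v := (mem_centralizer_singleton_iff.1 (S.R_le hvR))
  have h2 : v * (x * x)⁻¹ * v = 1 ∨ v * (x * x)⁻¹ * v = t := by
    rcases S.Rsq x hx with h | h <;> rw [h]
    · exact Or.inl (by rw [inv_one, mul_one, hv2])
    · exact Or.inr (by rw [hti, hvt, mul_assoc, hv2, mul_one])
  have h3 : x * v * x⁻¹ = (x * v * x⁻¹ * v) * v := by rw [mul_assoc _ v v, hv2, mul_one]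
  rw [h3, key]
  rcases S.Rsq _ (mul_mem hx hvR) with h | h <;> rcases h2 with h' | h' <;> rw [h, h']
  · exact Or.inl (by rw [one_mul, one_mul])
  · exact Or.inr (by rw [one_mul, hvt])
  · exact Or.inr (by rw [mul_one, hvt])
  · exact Or.inl (by rw [S.t_sq, one_mul])

theorem R_le_M : R ≤ normalizer (V : Set G) := by
  intro x hx
  rw [Subgroup.mem_normalizer_iff]
  have key : ∀ y ∈ R, ∀ v ∈ V, y * v * y⁻¹ ∈ V := fun y hy v hv => by
    rcases F.R_on_V S hy hv with h | h <;> rw [h]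
    · exact hv
    · exact mul_mem hv S.tV
  intro v
  refine ⟨key x hx v, fun h => ?_⟩
  have h2 := key x⁻¹ (inv_mem hx) _ h
  simpa [mul_assoc] using h2

/-- The fixed points of `r` on `R` are the powers of `a`. -/
theorem centR {x : G} (hx : x ∈ R) (hxr : x * r = r * x) : ∃ i : ZMod 4, x = ch s a (i, 0, 0) := by
  have hxt : x * t * x⁻¹ = t := by
    rw [mem_centralizer_singleton_iff.1 (S.R_le hx), mul_inv_cancel_right]
  have ht : ch s a (2, 0, 0) = t := by
    show phi a (A1 s a) (A2 s a) (2, 0, 0) = t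
    rw [← F.haa]
    simp [phi, show (2 : ZMod 4).val = 2 from rfl, pow_two]
  have hc : ∀ v, ∃ b : Bool, x * ch s a (2 • v) * x⁻¹ = ch s a (2 • v + cond b (2, 0, 0) 0) := by
    intro v
    rcases F.R_on_V S hx (F.mem_V_even S v) with h | h
    · exact ⟨false, h.trans (by rw [cond_false, add_zero])⟩
    · exact ⟨true, h.trans (by rw [cond_true, F.ch_add S, ht])⟩
  have hx' : x * r = r * x := hxr
  have hrel : ∀ v b, x * ch s a (2 • v) * x⁻¹ = ch s a (2 • v + cond b (2, 0, 0) 0) →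
      x * ch s a (LR (2 • v)) * x⁻¹ = ch s a (LR (2 • v) + cond b (2, 0, 0) 0) := by
    intro v b h
    have hd : ∀ (v : V3) (b : Bool),
        LR (2 • v + cond b (2, 0, 0) 0) = LR (2 • v) + cond b (2, 0, 0) 0 := by decide
    have e := hd v b
    simp only [ch] at h ⊢
    rw [← e, ← F.actR, ← F.actR, ← h,
      show x * (r * phi a (A1 s a) (A2 s a) (2 • v) * r⁻¹) * x⁻¹ =
        (x * r) * phi a (A1 s a) (A2 s a) (2 • v) * (x * r)⁻¹ by group, hx']
    group
  obtain ⟨b, hb⟩ := hc e1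
  have hb2 := hrel e1 b hb
  rw [show LR (2 • e1) = 2 • e2 by decide] at hb2
  have hb3 := hrel e2 b hb2
  rw [show LR (2 • e2) = (2, 0, 0) + (2 • e1 + 2 • e2) by decide, F.ch_add S, F.ch_add S,
    show x * (ch s a (2, 0, 0) * (ch s a (2 • e1) * ch s a (2 • e2))) * x⁻¹ =
      (x * ch s a (2, 0, 0) * x⁻¹) * ((x * ch s a (2 • e1) * x⁻¹) * (x * ch s a (2 • e2) * x⁻¹)) by
        group, hb, hb2, ht, hxt] at hb3
  have hb0 : b = false := by
    rw [← ht, ← F.ch_add S, ← F.ch_add S] at hb3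
    have h := F.inj hb3
    have hd : ∀ b : Bool, (2, 0, 0) + ((2 • e1 + cond b ((2, 0, 0) : V3) 0) +
        (2 • e2 + cond b (2, 0, 0) 0)) = (2, 0, 0) + (2 • e1 + 2 • e2) + cond b (2, 0, 0) 0 →
        b = false := by decide
    exact hd b h
  subst hb0
  rw [cond_false, add_zero] at hb hb2
  have hxA : x ∈ AA V := by
    rw [mem_centralizer_iff]
    intro v hv
    obtain ⟨u, rfl⟩ := F.surj v (S.V_le_A hv)
    obtain ⟨u', rfl⟩ := F.even_of_sq S u (S.Vsq _ hv)
    have hdec : 2 • u' = u'.1.val • ((2, 0, 0) : V3) + u'.2.1.val • (2 • e1) + u'.2.2.val • (2 • e2) := by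
      have hd : ∀ x : V3, 2 • x = x.1.val • ((2, 0, 0) : V3) + x.2.1.val • (2 • e1) + x.2.2.val • (2 • e2) := by decide
      exact hd u'
    have B := S.base F.sM F.aCy
    have e : x * ch s a (2 • u') * x⁻¹ = ch s a (2 • u') := by
      show x * phi a (A1 s a) (A2 s a) (2 • u') * x⁻¹ = _
      rw [hdec]
      simp only [ch]
      rw [B.phi_add, B.phi_add, B.phi_nsmul u'.1.val, B.phi_nsmul u'.2.1.val, B.phi_nsmul u'.2.2.val]
      rw [show ∀ p q q' : G, x * (p * q * q') * x⁻¹ = (x * p * x⁻¹) * (x * q * x⁻¹) * (x * q' * x⁻¹)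
        from fun p q q' => by group, ← conj_pow, ← conj_pow, ← conj_pow]
      simp only [ch] at hb hb2 ht
      rw [hb, hb2, ht, hxt]
    exact (mul_inv_eq_iff_eq_mul.1 e).symm
  obtain ⟨u, rfl⟩ := F.surj x hxA
  have hfix : LR u = u := by
    refine F.inj ?_
    show phi a (A1 s a) (A2 s a) (LR u) = phi a (A1 s a) (A2 s a) u
    rw [← F.actR, ← hxr, mul_inv_cancel_right]
  obtain ⟨h1, h2⟩ := fix_LR u hfix
  refine ⟨u.1, ?_⟩
  show ch s a u = _
  congr 1
  exact Prod.ext rfl (Prod.ext h1 h2)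

end Frame

/-- Two elements of order three in the same coset of `R` are conjugate by an element of `R`. -/
theorem Setup.conj_three [Finite G] (S : Setup t R Cy V) {r r' : G}
    (hr : r ∈ centralizer ({t} : Set G)) (h3 : r * r * r = 1) (h3' : r' * r' * r' = 1)
    (hR : r' * r⁻¹ ∈ R) : ∃ z ∈ R, z⁻¹ * r' * z = r := by
  classical
  have hmem : ∀ z : R, r' * z * r⁻¹ ∈ R := fun z => by
    rw [show r' * z * r⁻¹ = (r' * r⁻¹) * (r * z * r⁻¹) by group]
    exact mul_mem hR (S.R_conj r hr z z.2)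
  let g : R → R := fun z => ⟨_, hmem z⟩
  have hg : ∀ z, g (g (g z)) = z := fun z => Subtype.ext (by
    show r' * (r' * (r' * z * r⁻¹) * r⁻¹) * r⁻¹ = z
    rw [show r' * (r' * (r' * (z : G) * r⁻¹) * r⁻¹) * r⁻¹ = (r' * r' * r') * z * (r * r * r)⁻¹ by group,
      h3', h3, one_mul, inv_one, mul_one])
  let σ : Equiv.Perm R := ⟨g, fun z => g (g z), hg, hg⟩
  haveI : Fact (Nat.Prime 3) := ⟨by norm_num⟩
  letI : Fintype R := Fintype.ofFinite R
  obtain ⟨z, hz⟩ := Equiv.Perm.exists_fixed_point_of_prime (p := 3) (σ := σ) (n := 1) (by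
    rw [← Nat.card_eq_fintype_card, S.cardR]; norm_num) (by
    ext x
    simp only [pow_succ, pow_zero, one_mul, Equiv.Perm.mul_apply, Equiv.Perm.one_apply]
    exact congrArg Subtype.val (hg x))
  have h : r' * z * r⁻¹ = z := congrArg Subtype.val hz
  refine ⟨z, z.2, ?_⟩
  rw [mul_assoc, mul_inv_eq_iff_eq_mul.1 h, inv_mul_cancel_left]

end Cfsg.Agent.Lib.HS60
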