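import Cfsg.Agent.Lib.HS60.Words
import Cfsg.Agent.Lib.ExactCover.Ker
import Cfsg.Agent.Lib.CosetEnum.Chain

/-!
# Equality of words read off a regular coset table

Owner: helper60.
-/

set_option autoImplicit false

namespace Cfsg.Agent.Lib.HS60

open Cfsg.Agent.Lib.CosetEnum Cfsg.Agent.Lib.ExactCover

variable {n : ℕ} [NeZero n] {R : List (List ℕ)} {IV : ℕ} {RL : List (List ℕ)} {N : ℕ} {T : PTree}

theorem card_of_regular (he : Enumerated (stdLetters n IV RL R) (relSet n R)
    (subOf (stdLetters n IV RL R) (relSet n R) []) N T) :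
    Nat.card (PresentedGroup (relSet n R)) = N := by
  rw [card_eq_of_enum he, subOf_nil, Subgroup.card_bot, one_mul]

/-- The equality of two words in the presented group is equality of positions. -/
theorem mk_eq_iff (he : Enumerated (stdLetters n IV RL R) (relSet n R)
    (subOf (stdLetters n IV RL R) (relSet n R) []) N T) {l l' : List ℕ} (hl : ∀ g ∈ l, g < 2 * n)
    (hl' : ∀ g ∈ l', g < 2 * n) :
    scan (2 * n) T l 0 = scan (2 * n) T l' 0 ↔
      PresentedGroup.mk (relSet n R) (word n l) = PresentedGroup.mk (relSet n R) (word n l') := by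
  obtain ⟨act, hact⟩ := exists_act_of_enum he
  have hb : ∀ x, act.obs.val x = act.obs.val 1 → x = 1 := fun x hx => by
    have h := hact x hx
    rwa [subOf_nil, Subgroup.mem_bot] at h
  have e1 := act.obs.onWord_eq l hl
  have e2 := act.obs.onWord_eq l' hl'
  constructor
  · intro h
    have h1 := act.obs.cong _ _ (e1.trans (h.trans e2.symm))
    exact (mul_inv_eq_one.1 (hb _ h1)).symm
  · intro h
    exact e1.symm.trans ((congrArg act.obs.val h).trans e2)

variable {G : Type*} [Group G] {gen : Fin n → G} {φ : ℕ → G}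

/-- Two words with the same position have the same value. -/
theorem ev_eq_of_scan (he : Enumerated (stdLetters n IV RL R) (relSet n R)
    (subOf (stdLetters n IV RL R) (relSet n R) []) N T)
    (hφ : ∀ i : Fin n, φ (2 * i.val) = gen i ∧ φ (2 * i.val + 1) = (gen i)⁻¹)
    (hlt : ∀ l ∈ R, ∀ g ∈ l, g < 2 * n) (hR : ∀ l ∈ R, ev φ l = 1) {l l' : List ℕ}
    (hl : ∀ g ∈ l, g < 2 * n) (hl' : ∀ g ∈ l', g < 2 * n)
    (hs : scan (2 * n) T l 0 = scan (2 * n) T l' 0) : ev φ l = ev φ l' := by
  obtain ⟨F, hF, -⟩ := exists_hom R gen φ hφ hlt hR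
  rw [← hF l hl, ← hF l' hl', (mk_eq_iff he hl hl').1 hs]

/-- When the image has full order, different positions give different values. -/
theorem scan_eq_of_ev (he : Enumerated (stdLetters n IV RL R) (relSet n R)
    (subOf (stdLetters n IV RL R) (relSet n R) []) N T)
    (hφ : ∀ i : Fin n, φ (2 * i.val) = gen i ∧ φ (2 * i.val + 1) = (gen i)⁻¹)
    (hlt : ∀ l ∈ R, ∀ g ∈ l, g < 2 * n) (hR : ∀ l ∈ R, ev φ l = 1)
    (hcard : Nat.card (Subgroup.closure (Set.range gen)) = N) {l l' : List ℕ}
    (hl : ∀ g ∈ l, g < 2 * n) (hl' : ∀ g ∈ l', g < 2 * n)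
    (he' : ev φ l = ev φ l') : scan (2 * n) T l 0 = scan (2 * n) T l' 0 := by
  obtain ⟨F, hF, hr⟩ := exists_hom R gen φ hφ hlt hR
  haveI : Finite (PresentedGroup (relSet n R)) :=
    Nat.finite_of_card_ne_zero (by rw [card_of_regular he]; have := he.pos; omega)
  have hb : Function.Bijective F.rangeRestrict := (Nat.bijective_iff_surjective_and_card _).2
    ⟨F.rangeRestrict_surjective, by rw [card_of_regular he, hr, hcard]⟩
  refine (mk_eq_iff he hl hl').2 (hb.1 (Subtype.ext ?_))
  show F _ = F _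
  rw [hF l hl, hF l' hl', he']

end Cfsg.Agent.Lib.HS60
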