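import Cfsg.Agent.Lib.HS60.Start
import Cfsg.Agent.Lib.CosetEnum.HSH.Enum

/-!
# Identities in the centraliser of the involution, read off its table

In this table the letters are `0 = r, 2 = w, 4 = a, 6 = a₁, 8 = d`.

Owner: helper60.
-/

set_option autoImplicit false
set_option linter.unusedSectionVars false
set_option maxRecDepth 8000
set_option maxHeartbeats 1000000

namespace Cfsg.Agent.Lib.HS60

open Subgroup Cfsg.Agent.Lib.CosetEnum Cfsg.Agent.Lib.ExactCover

/-- The third basis element in the letters of the centraliser. -/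
def ha2 : List ℕ := conjW [0] [6]
/-- The coordinates in the letters of the centraliser. -/
def hvec (i j k : ℕ) : List ℕ := powW [4] i ++ powW [6] j ++ powW ha2 k
/-- The word of `p` in the letters of the centraliser. -/
def hp : List ℕ := conjW [8] ([4, 4] ++ ha2 ++ ha2)
/-- The word of the conjugate of `p`. -/
def hp1 : List ℕ := conjW [0] hp

/-- The relators of the centraliser. -/
def HRel : List (List ℕ) :=
  [powW [0] 3, powW [2] 2, red (eqW (conjW [2] [0]) [1]), powW [4] 4, red (eqW (conjW [0] [4]) [4]),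
    red (eqW (conjW [2] [4]) [5]), red (eqW (conjW [4] [6]) [6]), powW [6] 4,
    red (eqW (conjW [6] ha2) ha2), red (eqW (conjW [0] ha2) (hvec 1 3 3)),
    red (eqW (conjW [2] [6]) (hvec 3 1 1)), red (eqW (conjW [2] ha2) (hvec 0 0 3)),
    powW [8] 2, red (eqW (conjW [8] [0]) [0]), red (eqW (conjW [8] [4]) [5]),
    red (eqW [2, 8, 2] (8 :: powW [4] 2)), red (powW (8 :: conjW [6] [2]) 3),
    red (hp ++ hp), red (eqW (conjW hp hp1) hp1), red (eqW (conjW [0, 0] hp) (hp ++ hp1)),
    red (eqW (conjW [2] hp) hp), red (eqW (conjW [2] hp1) (hp ++ hp1)),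
    red (eqW (conjW hp [4]) [4]), red (eqW (conjW hp [6]) (hvec 3 3 2))]

theorem HRel_eq : HRel = HSH.relWords := by decide +kernel

theorem HRel_small : ∀ l ∈ HRel, ∀ g ∈ l, g < 10 := by decide +kernel

theorem hchecks_M : (eqM (conjW pW (conjW [2] pW)) (conjW [2] pW) &&
    eqM (conjW [4] (conjW [2] pW)) (pW ++ conjW [2] pW)) = true := by decide +kernel

/-- The 64 words of the elements of `R`. -/
def rWords : List (List ℕ) :=
  (List.range 4).flatMap fun i => (List.range 2).flatMap fun j => (List.range 2).flatMap fun k =>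
    (List.range 2).flatMap fun e => (List.range 2).map fun g =>
      powW [6] i ++ powW a1W (2 * j) ++ powW a2W (2 * k) ++ powW pW e ++ powW (conjW [2] pW) g

theorem rWords_check : (rWords.all smallM &&
    decide (rWords.map fun l => scan 8 HSM.table l 0).Nodup) = true := by decide +kernel

theorem rWords_length : rWords.length = 64 := by decide +kernel

/-- An identity checked on the table of the centraliser. -/
noncomputable def eqH (l l' : List ℕ) : Bool :=
  (l.all fun g => Nat.blt g 10) && (l'.all fun g => Nat.blt g 10) &&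
    Nat.beq (scan 10 HSH.table l 0) (scan 10 HSH.table l' 0)

variable {G : Type*} [Group G] {t : G} {R Cy V : Subgroup G} {s r w a d : G}

theorem lett_genH (r w a b d : G) (i : Fin 5) :
    lett r w a b d (2 * i.val) = ![r, w, a, b, d] i ∧
      lett r w a b d (2 * i.val + 1) = (![r, w, a, b, d] i)⁻¹ := by
  fin_cases i <;> exact ⟨rfl, rfl⟩

namespace Gens

variable (D : Gens t R Cy V s r w a d) (S : Setup t R Cy V)
include D S

theorem mrel : ∀ l ∈ MRel, ev (lett s r w a d) l = 1 := fun l hl =>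
  D.rel l (List.mem_append_left _ hl)

theorem deq {x y : List ℕ} (hy : (y.all fun g => Nat.blt g 10) = true)
    (h : red (eqW x y) ∈ DRel 2) : ev (lett s r w a d) x = ev (lett s r w a d) y := by
  have e := D.rel _ (List.mem_append_right _ h)
  rwa [ev_red, ev_eqW _ _ _ _ _ (fun g hg => Nat.blt_eq.mp (List.all_eq_true.1 hy g hg))] at e

theorem d_rels : d * d = 1 ∧ d * r * d⁻¹ = r ∧ d * a * d⁻¹ = a⁻¹ ∧
    d * (a ^ 2 * A1 s a ^ 0 * A2 s a ^ 2) * d⁻¹ = ev (lett s r w a d) pW ∧
    w * d * w = d * a ^ 2 ∧ (d * (A1 s a * w * (A1 s a)⁻¹)) ^ 3 = 1 := by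
  refine ⟨?_, ?_, ?_, ?_, ?_, ?_⟩
  · have h := D.rel (powW [8] 2) (List.mem_append_right _ (by simp [DRel]))
    rwa [ev_powW, ev_single, pow_two] at h
  · have h := D.deq S (x := conjW [8] [2]) (y := [2]) (by decide) (by simp [DRel])
    rwa [ev_conj1 _ _ _ _ _ _ (by norm_num), ev_single] at h
  · have h := D.deq S (x := conjW [8] [6]) (y := [7]) (by decide) (by simp [DRel])
    rwa [ev_conj1 _ _ _ _ _ _ (by norm_num), ev_single, ev_single] at h
  · have h := D.deq S (x := conjW [8] cW) (y := pW) (by decide) (by simp [DRel])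
    rwa [ev_conj1 _ _ _ _ _ _ (by norm_num), cW, ev_vecW] at h
  · have h := D.deq S (x := [4, 8, 4]) (y := 8 :: powW [6] 2) (by decide) (by simp [DRel])
    rw [ev_cons, ev_cons, ev_single, ev_cons, ev_powW, ev_single, ← mul_assoc] at h
    exact h
  · have h := D.rel (red (powW (8 :: conjW a1W [4]) 3)) (List.mem_append_right _ (by simp [DRel]))
    rwa [ev_red, ev_powW, ev_cons, ev_conjW _ _ _ _ _ (by decide), ev_single, ev_a1W] at h

theorem ev_hp : ev (lett r w a (A1 s a) d) hp = ev (lett s r w a d) pW := by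
  rw [← (D.d_rels S).2.2.2.1, A2]
  have e : s * (s * a * s⁻¹) * s⁻¹ = r * A1 s a * r⁻¹ := ((D.exact_M.toFrame.r_a1 S).trans rfl).symm
  rw [e]
  simp [hp, ha2, conjW, invW, flp, ev, lett, pow_two, mul_assoc]

theorem ev_ha2 : ev (lett r w a (A1 s a) d) ha2 = A2 s a := by
  rw [← D.exact_M.toFrame.r_a1 S]
  simp [ha2, conjW, invW, flp, ev, lett, mul_assoc]

theorem ev_hvec (i j k : ℕ) :
    ev (lett r w a (A1 s a) d) (hvec i j k) = a ^ i * A1 s a ^ j * A2 s a ^ k := by
  rw [hvec, ev_append, ev_append, ev_powW, ev_powW, ev_powW, ev_single, ev_single, D.ev_ha2 S]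
  rfl

theorem hrel : ∀ l ∈ HRel, ev (lett r w a (A1 s a) d) l = 1 := by
  have E := D.exact_M
  have F := E.toFrame
  have B := S.base F.sM F.aCy
  obtain ⟨hdd, hdr, hda, -, hwd, hcube⟩ := D.d_rels S
  have hw2 := E.w2
  set P := ev (lett s r w a d) pW with hP
  have hM : ∀ {l l' : List ℕ}, eqM l l' = true → ev (lett s r w a d) l = ev (lett s r w a d) l' :=
    fun h => eq_of_eqM (D.mrel S) h
  have hev : ev (lett r w a (A1 s a) d) hp = P := D.ev_hp S
  have hev1 : ev (lett r w a (A1 s a) d) hp1 = r * P * r⁻¹ := by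
    rw [hp1, ev_conj1 _ _ _ _ _ _ (by norm_num), hev]; rfl
  have hpsm : ∀ g ∈ hp, g < 10 := by decide
  have hc := hchecks_M
  simp only [Bool.and_eq_true] at hc
  have hq := p_act_check
  simp only [Bool.and_eq_true] at hq
  intro l hl
  simp only [HRel, List.mem_cons, List.not_mem_nil, or_false] at hl
  rcases hl with rfl | rfl | rfl | rfl | rfl | rfl | rfl | rfl | rfl | rfl | rfl | rfl | rfl | rfl |
    rfl | rfl | rfl | rfl | rfl | rfl | rfl | rfl | rfl | rfl
  · rw [ev_powW, ev_single]; show r ^ 3 = 1; rw [← F.r_cube]; simp [pow_succ, mul_assoc]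
  · rw [ev_powW, ev_single]; show w ^ 2 = 1; rw [pow_two, hw2]
  · refine red_eq_one _ _ _ _ _ (by decide) ?_
    rw [ev_conj1 _ _ _ _ _ _ (by norm_num), ev_single, ev_single]
    exact F.wr
  · rw [ev_powW, ev_single]; exact B.f0
  · refine red_eq_one _ _ _ _ _ (by decide) ?_
    rw [ev_conj1 _ _ _ _ _ _ (by norm_num), ev_single]
    exact F.r_a S
  · refine red_eq_one _ _ _ _ _ (by decide) ?_
    rw [ev_conj1 _ _ _ _ _ _ (by norm_num), ev_single, ev_single]
    exact F.w_a S
  · refine red_eq_one _ _ _ _ _ (by decide) ?_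
    rw [ev_conj1 _ _ _ _ _ _ (by norm_num), ev_single]
    exact mul_inv_eq_iff_eq_mul.2 B.c01
  · rw [ev_powW, ev_single]; exact B.f1
  · refine red_eq_one _ _ _ _ _ (by decide) ?_
    rw [ev_conj1 _ _ _ _ _ _ (by norm_num), D.ev_ha2 S]
    exact mul_inv_eq_iff_eq_mul.2 B.c12
  · refine red_eq_one _ _ _ _ _ (by decide) ?_
    rw [ev_conj1 _ _ _ _ _ _ (by norm_num), D.ev_ha2 S, D.ev_hvec S]
    have h := F.actR e2
    rwa [Base.phi_e2, show LR e2 = (1, 3, 3) by decide] at h
  · refine red_eq_one _ _ _ _ _ (by decide) ?_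
    rw [ev_conj1 _ _ _ _ _ _ (by norm_num), ev_single, D.ev_hvec S]
    have h := F.actW e1
    rwa [Base.phi_e1, show LW e1 = (3, 1, 1) by decide] at h
  · refine red_eq_one _ _ _ _ _ (by decide) ?_
    rw [ev_conj1 _ _ _ _ _ _ (by norm_num), D.ev_ha2 S, D.ev_hvec S]
    have h := F.actW e2
    rwa [Base.phi_e2, show LW e2 = (0, 0, 3) by decide] at h
  · rw [ev_powW, ev_single]; show d ^ 2 = 1; rw [pow_two, hdd]
  · refine red_eq_one _ _ _ _ _ (by decide) ?_
    rw [ev_conj1 _ _ _ _ _ _ (by norm_num), ev_single]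
    exact hdr
  · refine red_eq_one _ _ _ _ _ (by decide) ?_
    rw [ev_conj1 _ _ _ _ _ _ (by norm_num), ev_single, ev_single]
    exact hda
  · refine red_eq_one _ _ _ _ _ (by decide) ?_
    rw [ev_cons, ev_cons, ev_single, ev_cons, ev_powW, ev_single, ← mul_assoc]
    exact hwd
  · rw [ev_red, ev_powW, ev_cons, ev_conjW _ _ _ _ _ (by decide), ev_single, ev_single]
    exact hcube
  · rw [ev_red, ev_append, hev, ← ev_append]
    exact hM p_invol_check
  · refine red_eq_one _ _ _ _ _ (by decide) ?_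
    rw [ev_conjW _ _ _ _ _ hpsm, hev, hev1]
    have h := hM hc.1
    rwa [ev_conjW _ _ _ _ _ (by decide), ev_conj1 _ _ _ _ _ _ (by norm_num)] at h
  · refine red_eq_one _ _ _ _ _ (by decide) ?_
    rw [ev_conjW _ _ _ _ _ (by decide), ev_append, hev, hev1, ev_cons, ev_single]
    have h := hM p_conj_check
    rwa [ev_conjW _ _ _ _ _ (by decide), ev_append, ev_conj1 _ _ _ _ _ _ (by norm_num), ev_cons,
      ev_single] at h
  · refine red_eq_one _ _ _ _ _ (by decide) ?_
    rw [ev_conj1 _ _ _ _ _ _ (by norm_num), hev]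
    have h := hM w_p_check
    rw [ev_append, ev_append, ev_single] at h
    exact mul_inv_eq_iff_eq_mul.2 h
  · refine red_eq_one _ _ _ _ _ (by decide) ?_
    rw [ev_conj1 _ _ _ _ _ _ (by norm_num), ev_append, hev, hev1]
    have h := hM hc.2
    rwa [ev_conj1 _ _ _ _ _ _ (by norm_num), ev_append, ev_conj1 _ _ _ _ _ _ (by norm_num)] at h
  · refine red_eq_one _ _ _ _ _ (by decide) ?_
    rw [ev_conjW _ _ _ _ _ hpsm, hev, ev_single]
    have h := hM hq.2
    rw [ev_conjW _ _ _ _ _ (by decide), ev_single, ev_vecW, pow_one, pow_zero, pow_zero, mul_one,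
      mul_one] at h
    exact h
  · refine red_eq_one _ _ _ _ _ (by decide) ?_
    rw [ev_conjW _ _ _ _ _ hpsm, hev, ev_single, D.ev_hvec S]
    have h := hM hq.1.1
    rwa [ev_conjW _ _ _ _ _ (by decide), ev_a1W, ev_vecW] at h

theorem eq_of_eqH {l l' : List ℕ} (h : eqH l l' = true) :
    ev (lett r w a (A1 s a) d) l = ev (lett r w a (A1 s a) d) l' := by
  simp only [eqH, Bool.and_eq_true, Nat.beq_eq, List.all_eq_true, Nat.blt_eq] at h
  exact ev_eq_of_scan HSH.enum (lett_genH r w a (A1 s a) d)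
    (fun l hl => HRel_small l (HRel_eq ▸ hl)) (fun l hl => D.hrel S l (HRel_eq ▸ hl)) h.1.1 h.1.2 h.2

theorem closureH [Finite G] :
    closure (Set.range ![r, w, a, A1 s a, d]) = centralizer ({t} : Set G) := by
  classical
  have E := D.exact_M
  have F := E.toFrame
  set H' := closure (Set.range ![r, w, a, A1 s a, d]) with hH'
  have h1H : A1 s a ∈ centralizer ({t} : Set G) := S.A_le_H (S.A_conj F.sM (S.Cy_le_A F.aCy))
  have hle : H' ≤ centralizer ({t} : Set G) := by
    rw [hH', closure_le]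
    rintro _ ⟨i, rfl⟩
    fin_cases i <;> first
      | exact F.r_H S | exact F.w_H S | exact S.R_le (S.Cy_le F.aCy) | exact h1H | exact D.dH
  have gr : r ∈ H' := subset_closure ⟨0, rfl⟩
  have gw : w ∈ H' := subset_closure ⟨1, rfl⟩
  have ga : a ∈ H' := subset_closure ⟨2, rfl⟩
  have gb : A1 s a ∈ H' := subset_closure ⟨3, rfl⟩
  have gd : d ∈ H' := subset_closure ⟨4, rfl⟩
  have g2 : A2 s a ∈ H' := F.r_a1 S ▸ mul_mem (mul_mem gr gb) (inv_mem gr)
  have gp : ev (lett s r w a d) pW ∈ H' := by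
    rw [← (D.d_rels S).2.2.2.1]
    exact mul_mem (mul_mem gd (mul_mem (mul_mem (pow_mem ga _) (pow_mem gb _)) (pow_mem g2 _)))
      (inv_mem gd)
  have rpR : ev (lett s r w a d) pW ∈ R := by
    rw [← (D.d_rels S).2.2.2.1]
    refine S.R_conj d D.dH _ ?_
    have h := S.VR (F.mem_V_even S (1, 0, 1))
    rwa [show (2 • ((1, 0, 1) : V3)) = (2, 0, 2) by decide] at h
  have rA1 : A1 s a ^ 2 ∈ R := by
    have h := S.VR (F.mem_V_even S e1)
    rwa [F.ch_double S, show Frame.ch s a e1 = A1 s a from Base.phi_e1, ← pow_two] at h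
  have rA2 : A2 s a ^ 2 ∈ R := by
    have h := S.VR (F.mem_V_even S e2)
    rwa [F.ch_double S, show Frame.ch s a e2 = A2 s a from Base.phi_e2, ← pow_two] at h
  have hword : ∀ l ∈ rWords, ev (lett s r w a d) l ∈ R ⊓ H' := by
    intro l hl
    simp only [rWords, List.mem_flatMap, List.mem_map, List.mem_range] at hl
    obtain ⟨i, -, j, -, k, -, e, -, g, -, rfl⟩ := hl
    simp only [ev_append, ev_powW, ev_single, ev_a1W, ev_a2W, ev_conj1 _ _ _ _ _ 2 (by norm_num),
      pow_mul]
    show a ^ i * _ * _ * _ * (r * _ * r⁻¹) ^ g ∈ R ⊓ H'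
    refine mul_mem (mul_mem (mul_mem (mul_mem ?_ ?_) ?_) ?_) ?_ <;> refine ⟨?_, ?_⟩
    · exact pow_mem (S.Cy_le F.aCy) _
    · exact pow_mem ga _
    · exact pow_mem rA1 _
    · exact pow_mem (pow_mem gb _) _
    · exact pow_mem rA2 _
    · exact pow_mem (pow_mem g2 _) _
    · exact pow_mem rpR _
    · exact pow_mem gp _
    · exact pow_mem (S.R_conj r (F.r_H S) _ rpR) _
    · exact pow_mem (mul_mem (mul_mem gr gp) (inv_mem gr)) _
  have hRle : R ≤ H' := by
    have hc := rWords_check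
    simp only [Bool.and_eq_true, decide_eq_true_eq] at hc
    have hnd : (rWords.map fun l => ev (lett s r w a d) l).Nodup :=
      List.Nodup.map_on (fun x hx y hy hxy => List.inj_on_of_nodup_map hc.2 hx hy (by
        have h := E.eqM_of_eq S (List.all_eq_true.1 hc.1 x hx) (List.all_eq_true.1 hc.1 y hy) hxy
        simp only [eqM, Bool.and_eq_true, Nat.beq_eq] at h
        exact h.2)) (List.Nodup.of_map _ hc.2)
    have hsub : ((rWords.map fun l => ev (lett s r w a d) l).toFinset : Set G) ⊆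
        ((R ⊓ H' : Subgroup G) : Set G) := by
      intro x hx
      simp only [List.coe_toFinset, List.mem_map, Set.mem_setOf_eq] at hx
      obtain ⟨l, hl, rfl⟩ := hx
      exact hword l hl
    have hcard := Nat.card_mono (Set.toFinite _) hsub
    rw [Nat.card_coe_set_eq, Set.ncard_coe_finset, List.toFinset_card_of_nodup hnd,
      List.length_map, rWords_length] at hcard
    have h64 : Nat.card (R ⊓ H' : Subgroup G) ≥ Nat.card R := by rw [S.cardR]; exact hcard
    intro x hx
    exact ((eq_of_le_of_card_ge inf_le_left h64).symm ▸ hx : x ∈ R ⊓ H').2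
  refine le_antisymm hle fun x hx => ?_
  obtain ⟨f, hfs, hfk, hr0, hd0, hw0, h10, hfr, hfd, hX, hO⟩ := D.exists_f
  set N := H'.subgroupOf (centralizer ({t} : Set G)) with hN
  have htop : N.map f = ⊤ := by
    have m : ∀ {g : G} (hg : g ∈ centralizer ({t} : Set G)), g ∈ H' → f ⟨g, hg⟩ ∈ N.map f :=
      fun hg h => mem_map_of_mem f (mem_subgroupOf.2 h)
    obtain ⟨h5, h1⟩ := five_cycle _ hX _ hO
    have mr := hfr ▸ m hr0 gr
    have md := hfd ▸ m hd0 gd
    exact eq_top_of_five md (mul_mem (mul_mem (mul_mem (mul_mem (m h10 gb) mr) md) (m h10 gb)) md)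
      h5 h1
  have hker : f.ker ≤ N := fun y hy => mem_subgroupOf.2 (hRle ((hfk y).1 (MonoidHom.mem_ker.1 hy)))
  have h := comap_map_eq f N
  rw [htop, comap_top, sup_eq_left.2 hker] at h
  exact mem_subgroupOf.1 (h ▸ mem_top (⟨x, hx⟩ : centralizer ({t} : Set G)))

theorem eqH_of_eq [Finite G] {l l' : List ℕ} (hl : ∀ g ∈ l, g < 10) (hl' : ∀ g ∈ l', g < 10)
    (h : ev (lett r w a (A1 s a) d) l = ev (lett r w a (A1 s a) d) l') :
    scan 10 HSH.table l 0 = scan 10 HSH.table l' 0 :=
  scan_eq_of_ev HSH.enum (lett_genH r w a (A1 s a) d) (fun l hl => HRel_small l (HRel_eq ▸ hl))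
    (fun l hl => D.hrel S l (HRel_eq ▸ hl)) (by rw [D.closureH S, S.cardH]) hl hl' h

end Gens

end Cfsg.Agent.Lib.HS60
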