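import Cfsg.Agent.Lib.HS60.Rels
import Cfsg.Agent.Lib.HS60.Generic
import Cfsg.Agent.Lib.CosetEnum.HSM.Enum

/-!
# Identities in the normaliser of `V`, read off its table

Owner: helper60.
-/

set_option autoImplicit false
set_option linter.unusedSectionVars false
set_option maxRecDepth 8000

namespace Cfsg.Agent.Lib.HS60

open Subgroup Cfsg.Agent.Lib.CosetEnum Cfsg.Agent.Lib.ExactCover

theorem MRel_eq : MRel = HSM.relWords := by decide +kernel

theorem MRel_small : ∀ l ∈ MRel, ∀ g ∈ l, g < 8 := by decide +kernel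

/-- All letters of the word are those of the normaliser. -/
def smallM (l : List ℕ) : Bool := l.all fun g => Nat.blt g 8

/-- An identity checked on the table of the normaliser. -/
noncomputable def eqM (l l' : List ℕ) : Bool :=
  smallM l && smallM l' && Nat.beq (scan 8 HSM.table l 0) (scan 8 HSM.table l' 0)

variable {G : Type*} [Group G] {t : G} {R Cy V : Subgroup G} {s r w a : G}

theorem lett_gen (s r w a d : G) (i : Fin 4) :
    lett s r w a d (2 * i.val) = ![s, r, w, a] i ∧
      lett s r w a d (2 * i.val + 1) = (![s, r, w, a] i)⁻¹ := by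
  fin_cases i <;> exact ⟨rfl, rfl⟩

theorem eq_of_eqM {s r w a d : G} (hrel : ∀ l ∈ MRel, ev (lett s r w a d) l = 1) {l l' : List ℕ}
    (h : eqM l l' = true) : ev (lett s r w a d) l = ev (lett s r w a d) l' := by
  simp only [eqM, smallM, Bool.and_eq_true, Nat.beq_eq, List.all_eq_true, Nat.blt_eq] at h
  exact ev_eq_of_scan HSM.enum (lett_gen s r w a d) (fun l hl => MRel_small l (MRel_eq ▸ hl))
    (fun l hl => hrel l (MRel_eq ▸ hl)) h.1.1 h.1.2 h.2

theorem Exact.mem_M (E : Exact t R Cy V s r w a) (S : Setup t R Cy V) (d : G) {l : List ℕ}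
    (hl : smallM l = true) : ev (lett s r w a d) l ∈ normalizer (V : Set G) := by
  simp only [smallM, List.all_eq_true, Nat.blt_eq] at hl
  induction l with
  | nil => exact one_mem _
  | cons g l ih =>
    rw [ev_cons]
    refine mul_mem ?_ (ih fun x hx => hl x (List.mem_cons_of_mem _ hx))
    have hg := hl g List.mem_cons_self
    have ha := S.A_le (S.Cy_le_A E.aCy)
    interval_cases g <;> first
      | exact E.sM | exact inv_mem E.sM | exact E.rM | exact inv_mem E.rM
      | exact E.wM | exact inv_mem E.wM | exact ha | exact inv_mem ha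

theorem Exact.closure_eq [Finite G] (E : Exact t R Cy V s r w a) (S : Setup t R Cy V) :
    Nat.card (closure (Set.range ![s, r, w, a])) = 10752 := by
  classical
  obtain ⟨F, -, hF2⟩ := exists_hom (G := G) MRel ![s, r, w, a] (lett s r w a 1) (lett_gen s r w a 1)
    (fun l hl => MRel_small l hl) (E.mrel S 1)
  set M' := closure (Set.range ![s, r, w, a]) with hM'
  have hle : M' ≤ normalizer (V : Set G) := by
    rw [hM', closure_le]
    rintro _ ⟨i, rfl⟩
    fin_cases i <;> first | exact E.sM | exact E.rM | exact E.wM | exact S.A_le (S.Cy_le_A E.aCy)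
  have hA : AA V ≤ M' := by
    intro x hx
    obtain ⟨v, rfl⟩ := E.surj x hx
    have hs : s ∈ M' := subset_closure ⟨0, rfl⟩
    have ha : a ∈ M' := subset_closure ⟨3, rfl⟩
    have h1 : A1 s a ∈ M' := mul_mem (mul_mem hs ha) (inv_mem hs)
    exact mul_mem (mul_mem (pow_mem ha _) (pow_mem h1 _))
      (pow_mem (mul_mem (mul_mem hs h1) (inv_mem hs)) _)
  -- the image in `GL(3,2)` is everything
  obtain ⟨φ, hφs, hφ⟩ := S.exists_phi
  set N := M'.subgroupOf (normalizer (V : Set G)) with hN
  have hker : φ.ker ≤ N := fun x hx => mem_subgroupOf.2 (hA ((hφ x).1 (MonoidHom.mem_ker.1 hx)))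
  haveI := Lib.FischerLarge99.simple_SL32
  have hdvd : ∀ (k : ℕ) (g : G) (hg : g ∈ normalizer (V : Set G)), g ∈ M' → g ^ k = 1 → k.Prime →
      g ∉ AA V → k ∣ Nat.card (N.map φ) := by
    intro k g hg hgM hpow hk hgA
    haveI := Fact.mk hk
    have h1 : φ ⟨g, hg⟩ ^ k = 1 := by
      rw [← map_pow]
      exact (hφ _).2 (by show g ^ k ∈ AA V; rw [hpow]; exact one_mem _)
    have h2 := orderOf_eq_prime h1 fun e => hgA ((hφ _).1 e)
    rw [← h2]
    exact orderOf_dvd_natCard _ (mem_map_of_mem φ (mem_subgroupOf.2 hgM : (⟨g, hg⟩ : _) ∈ N))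
  have hgen : ∀ g : G, g ∈ AA V → ∀ v, g * phi a (A1 s a) (A2 s a) v * g⁻¹ =
      phi a (A1 s a) (A2 s a) v := fun g hg v => Setup.act_of_mem hg (E.toFrame.mem_A S v) S
  have hsA : s ∉ AA V := fun h => by
    have e := (E.actS e0).symm.trans (hgen s h e0)
    exact absurd (E.inj e) (by decide)
  have hrA : r ∉ AA V := fun h => by
    have e := (E.actR e1).symm.trans (hgen r h e1)
    exact absurd (E.inj e) (by decide)
  have hwA : w ∉ AA V := fun h => by
    have e := (E.actW e0).symm.trans (hgen w h e0)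
    exact absurd (E.inj e) (by decide)
  have h7 := hdvd 7 s E.sM (subset_closure ⟨0, rfl⟩) E.s7 (by norm_num) hsA
  have h3 := hdvd 3 r E.rM (subset_closure ⟨1, rfl⟩)
    (by rw [← E.r_cube]; simp [pow_succ, mul_assoc]) (by norm_num) hrA
  have h2 := hdvd 2 w E.wM (subset_closure ⟨2, rfl⟩) (by rw [pow_two, E.w2]) (by norm_num) hwA
  have h42 : 42 ∣ Nat.card (N.map φ) := Nat.Coprime.mul_dvd_of_dvd_of_dvd (m := 6) (by norm_num)
    (Nat.Coprime.mul_dvd_of_dvd_of_dvd (by norm_num) h2 h3) h7
  have htop : N.map φ = ⊤ := by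
    by_contra hne
    have hidx := card_mul_index (N.map φ)
    rw [Lib.FischerLarge99.card_SL32] at hidx
    obtain ⟨q, hq⟩ := h42
    rw [hq] at hidx
    have hi1 : (N.map φ).index ≠ 1 := fun e => hne (index_eq_one.1 e)
    have hi4 : (N.map φ).index ≤ 4 := by
      by_contra hgt
      have hq0 : q ≠ 0 := fun e => by rw [e] at hidx; simp at hidx
      have : 42 * q * (N.map φ).index ≥ 42 * 1 * 5 := by
        refine Nat.mul_le_mul (Nat.mul_le_mul le_rfl (Nat.one_le_iff_ne_zero.2 hq0)) (by omega)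
      omega
    -- the action on the cosets is faithful
    let π := MulAction.toPermHom Lib.FischerLarge99.SL32 (Lib.FischerLarge99.SL32 ⧸ N.map φ)
    rcases π.normal_ker.eq_bot_or_eq_top with h | h
    · have hc := Nat.card_le_card_of_injective π ((MonoidHom.ker_eq_bot_iff π).1 h)
      rw [Lib.FischerLarge99.card_SL32, Nat.card_perm, ← index_eq_card] at hc
      have : ((N.map φ).index).factorial ≤ (4 : ℕ).factorial := Nat.factorial_le hi4
      simp [Nat.factorial] at this
      omega
    · refine hne ((eq_top_iff' _).2 fun x => ?_)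
      have hx : π x = 1 := MonoidHom.mem_ker.1 (h ▸ mem_top x)
      have := congrArg (fun σ => σ ((1 : Lib.FischerLarge99.SL32) : _ ⧸ N.map φ)) hx
      simpa [π, QuotientGroup.eq] using this
  have hNtop : N = ⊤ := by
    have h := comap_map_eq φ N
    rwa [htop, comap_top, sup_eq_left.2 hker, eq_comm] at h
  have : M' = normalizer (V : Set G) := le_antisymm hle fun x hx =>
    mem_subgroupOf.1 (hNtop ▸ mem_top (⟨x, hx⟩ : normalizer (V : Set G)))
  rw [this, S.cardM]

theorem Exact.eqM_of_eq [Finite G] (E : Exact t R Cy V s r w a) (S : Setup t R Cy V) {d : G}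
    {l l' : List ℕ} (hl : smallM l = true) (hl' : smallM l' = true)
    (h : ev (lett s r w a d) l = ev (lett s r w a d) l') : eqM l l' = true := by
  have e1 : (∀ g ∈ l, g < 8) := fun g hg => Nat.blt_eq.mp (List.all_eq_true.1 hl g hg)
  have e2 : (∀ g ∈ l', g < 8) := fun g hg => Nat.blt_eq.mp (List.all_eq_true.1 hl' g hg)
  have := scan_eq_of_ev HSM.enum (lett_gen s r w a d) (fun l hl => MRel_small l (MRel_eq ▸ hl))
    (fun l hl => E.mrel S d l (MRel_eq ▸ hl)) (E.closure_eq S) e1 e2 h
  simp only [eqM, Bool.and_eq_true, Nat.beq_eq]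
  exact ⟨⟨hl, hl'⟩, this⟩

end Cfsg.Agent.Lib.HS60
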