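import Cfsg.Agent.Lib.HS60.Start

/-!
# The presentation of the Higman-Sims group that arises from the centraliser data

Owner: helper60.
-/

set_option autoImplicit false

namespace Cfsg.Agent.Lib.HS60

/-- The element `e` of the normaliser of `V` centralising `u = w a`. -/
def eW : List ℕ := [0, 2, 4, 6, 0, 4]

/-- The last relator: `(d e)^8`. -/
def deRel : List ℕ := powW (8 :: eW) 8

/-- The relators of the presentation. -/
def RelHS : List (List ℕ) := R0Rel ++ [deRel]

theorem RelHS_small : ∀ l ∈ RelHS, ∀ g ∈ l, g < 10 := by decide +kernel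

/-- The presented group. -/
abbrev PHS : Type := PresentedGroup (Cfsg.Agent.Lib.ExactCover.relSet 5 RelHS)

end Cfsg.Agent.Lib.HS60
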