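import Mathlib
import Cfsg.Agent.Lib.ExactCover.Std

/-!
# Words in the generators `s, r, w, a, d`

Letters `0 = s, 2 = r, 4 = w, 6 = a, 8 = d`; the inverse of a letter is the neighbouring odd one.

Owner: helper60.
-/

set_option autoImplicit false

namespace Cfsg.Agent.Lib.HS60

open Cfsg.Agent.Lib.CosetEnum Cfsg.Agent.Lib.ExactCover

/-- The value of a word. -/
def ev {G : Type*} [Group G] (φ : ℕ → G) (l : List ℕ) : G := (l.map φ).prod

/-- Letters for five elements. -/
def lett {G : Type*} [Group G] (s r w a d : G) : ℕ → G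
  | 0 => s
  | 1 => s⁻¹
  | 2 => r
  | 3 => r⁻¹
  | 4 => w
  | 5 => w⁻¹
  | 6 => a
  | 7 => a⁻¹
  | 8 => d
  | _ => d⁻¹

/-- The inverse letter. -/
def flp : ℕ → ℕ
  | 0 => 1
  | 1 => 0
  | 2 => 3
  | 3 => 2
  | 4 => 5
  | 5 => 4
  | 6 => 7
  | 7 => 6
  | 8 => 9
  | _ => 8

/-- The inverse word. -/
def invW (l : List ℕ) : List ℕ := (l.map flp).reverse

/-- A conjugate. -/
def conjW (x y : List ℕ) : List ℕ := x ++ y ++ invW x

/-- A relator from an equation. -/
def eqW (x y : List ℕ) : List ℕ := x ++ invW y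

/-- A power. -/
def powW (x : List ℕ) : ℕ → List ℕ
  | 0 => []
  | n + 1 => x ++ powW x n

/-- Push a letter on a reduced reversed word. -/
def push : List ℕ → ℕ → List ℕ
  | [], x => [x]
  | y :: o, x => if Nat.blt x 10 && Nat.beq y (flp x) then o else x :: y :: o

/-- Free reduction. -/
def red (l : List ℕ) : List ℕ := (l.foldl push []).reverse

variable {G : Type*} [Group G]

theorem ev_nil (φ : ℕ → G) : ev φ [] = 1 := rfl

theorem ev_cons (φ : ℕ → G) (g : ℕ) (l : List ℕ) : ev φ (g :: l) = φ g * ev φ l := by simp [ev]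

theorem ev_single (φ : ℕ → G) (g : ℕ) : ev φ [g] = φ g := by simp [ev]

theorem ev_append (φ : ℕ → G) (l l' : List ℕ) : ev φ (l ++ l') = ev φ l * ev φ l' := by simp [ev]

theorem lett_flp (s r w a d : G) {g : ℕ} (hg : g < 10) :
    lett s r w a d (flp g) = (lett s r w a d g)⁻¹ := by
  interval_cases g <;> simp [lett, flp]

theorem ev_invW (s r w a d : G) {l : List ℕ} (hl : ∀ g ∈ l, g < 10) :
    ev (lett s r w a d) (invW l) = (ev (lett s r w a d) l)⁻¹ := by
  induction l with
  | nil => simp [invW, ev_nil]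
  | cons g l ih =>
    rw [invW, List.map_cons, List.reverse_cons, ev_append, ← invW,
      ih fun x hx => hl x (List.mem_cons_of_mem _ hx), ev_single,
      lett_flp s r w a d (hl g List.mem_cons_self), ev_cons, mul_inv_rev]

theorem ev_powW (φ : ℕ → G) (x : List ℕ) (n : ℕ) : ev φ (powW x n) = ev φ x ^ n := by
  induction n with
  | zero => simp [powW, ev_nil]
  | succ n ih => rw [powW, ev_append, ih, pow_succ']

theorem ev_push (s r w a d : G) (o : List ℕ) (x : ℕ) :
    ev (lett s r w a d) (push o x).reverse = ev (lett s r w a d) o.reverse * lett s r w a d x := by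
  cases o with
  | nil => simp [push, ev]
  | cons y o =>
    simp only [push]
    split_ifs with h
    · simp only [Bool.and_eq_true, Nat.blt_eq, Nat.beq_eq] at h
      rw [List.reverse_cons, ev_append, ev_single, h.2, lett_flp s r w a d h.1, inv_mul_cancel_right]
    · rw [List.reverse_cons, ev_append, ev_single]

theorem ev_red (s r w a d : G) (l : List ℕ) :
    ev (lett s r w a d) (red l) = ev (lett s r w a d) l := by
  have h : ∀ (l o : List ℕ), ev (lett s r w a d) (l.foldl push o).reverse =
      ev (lett s r w a d) o.reverse * ev (lett s r w a d) l := by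
    intro l
    induction l with
    | nil => intro o; simp [ev_nil]
    | cons x l ih => intro o; rw [List.foldl_cons, ih, ev_push, ev_cons, mul_assoc]
  rw [red, h, List.reverse_nil, ev_nil, one_mul]

/-- An equation of values from an equation relator. -/
theorem ev_eqW (s r w a d : G) {x y : List ℕ} (hy : ∀ g ∈ y, g < 10) :
    ev (lett s r w a d) (eqW x y) = 1 ↔ ev (lett s r w a d) x = ev (lett s r w a d) y := by
  rw [eqW, ev_append, ev_invW s r w a d hy, mul_inv_eq_one]

theorem ev_conjW (s r w a d : G) {x : List ℕ} (hx : ∀ g ∈ x, g < 10) (y : List ℕ) :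
    ev (lett s r w a d) (conjW x y) =
      ev (lett s r w a d) x * ev (lett s r w a d) y * (ev (lett s r w a d) x)⁻¹ := by
  rw [conjW, ev_append, ev_append, ev_invW s r w a d hx]

/-- A map out of a presented group. -/
theorem exists_hom {n : ℕ} [NeZero n] (R : List (List ℕ)) (gen : Fin n → G) (φ : ℕ → G)
    (hφ : ∀ i : Fin n, φ (2 * i.val) = gen i ∧ φ (2 * i.val + 1) = (gen i)⁻¹)
    (hlt : ∀ l ∈ R, ∀ g ∈ l, g < 2 * n) (hR : ∀ l ∈ R, ev φ l = 1) :
    ∃ F : PresentedGroup (relSet n R) →* G,
      (∀ l, (∀ g ∈ l, g < 2 * n) → F (PresentedGroup.mk (relSet n R) (word n l)) = ev φ l) ∧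
        F.range = Subgroup.closure (Set.range gen) := by
  have hw : ∀ l : List ℕ, (∀ g ∈ l, g < 2 * n) → FreeGroup.lift gen (word n l) = ev φ l := fun l hl => by
    refine map_lift_word (n := n) gen (MonoidHom.id G) φ ?_ l hl
    refine forall_lt_two_mul (n := n) fun i => ?_
    rw [MonoidHom.id_apply, MonoidHom.id_apply, lift_word_pos, lift_word_neg, (hφ i).1, (hφ i).2]
    exact ⟨rfl, rfl⟩
  have h : ∀ x ∈ relSet n R, FreeGroup.lift gen x = 1 := by
    intro x hx
    obtain ⟨l, hl, rfl⟩ := List.mem_map.1 hx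
    show FreeGroup.lift gen (word n l) = 1
    rw [hw l (hlt l hl)]
    exact hR l hl
  refine ⟨PresentedGroup.toGroup h, fun l hl => hw l hl, ?_⟩
  rw [MonoidHom.range_eq_map, ← PresentedGroup.closure_range_of, MonoidHom.map_closure,
    ← Set.range_comp]
  congr 2
  funext i
  simp

end Cfsg.Agent.Lib.HS60
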