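import Cfsg.Agent.Lib.HS60.Split
import Cfsg.Agent.Lib.HS60.Words

/-!
# The relations satisfied by the frame and by `d`

Owner: helper60.
-/

set_option autoImplicit false
set_option linter.unusedSectionVars false
set_option maxRecDepth 8000
set_option maxHeartbeats 1000000

namespace Cfsg.Agent.Lib.HS60

open Subgroup

/-- The word of the second basis element. -/
def a1W : List ℕ := conjW [0] [6]
/-- The word of the third basis element. -/
def a2W : List ℕ := conjW [0, 0] [6]

/-- The word with given coordinates. -/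
def vecW (i j k : ℕ) : List ℕ := powW [6] i ++ powW a1W j ++ powW a2W k

/-- The word of `c`. -/
def cW : List ℕ := vecW 2 0 2
/-- The word of `p`. -/
def pW : List ℕ := [0, 0, 4, 1, 3]

/-- The relators of `M`. -/
def MRel : List (List ℕ) :=
  [powW [0] 7, powW [2] 3, red (eqW (conjW [2] [0]) [0, 0]), powW [6] 4,
    red (eqW (conjW [6] a1W) a1W), red (eqW (conjW [6] a2W) a2W),
    red (eqW (conjW [0] a2W) (vecW 1 2 1)), red (eqW (conjW [2] [6]) [6]),
    red (eqW (conjW [4] [2]) [3]), red (eqW (conjW [4] [6]) [7]),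
    red (eqW (conjW [4] a1W) (vecW 3 1 1)), red (eqW (conjW [4] a2W) (vecW 0 0 3)),
    powW [4] 2, powW [0, 4] 3]

/-- The relators of `d` with parameter `k`. -/
def DRel (k : ℕ) : List (List ℕ) :=
  [powW [8] 2, red (eqW (conjW [8] [2]) [2]), red (eqW (conjW [8] [6]) [7]),
    red (eqW (conjW [8] cW) pW), red (eqW [4, 8, 4] (8 :: powW [6] k)),
    red (powW (8 :: conjW a1W [4]) 3)]

variable {G : Type*} [Group G] {t : G} {R Cy V : Subgroup G} {s r w a : G}

theorem ev_vecW (s r w a d : G) (i j k : ℕ) :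
    ev (lett s r w a d) (vecW i j k) = a ^ i * A1 s a ^ j * A2 s a ^ k := by
  rw [vecW, ev_append, ev_append, ev_powW, ev_powW, ev_powW, ev_single]
  simp [lett, a1W, a2W, conjW, invW, flp, ev, A1, A2, mul_assoc]

theorem ev_a1W (s r w a d : G) : ev (lett s r w a d) a1W = A1 s a := by
  simp [lett, a1W, conjW, invW, flp, ev, A1, mul_assoc]

theorem ev_a2W (s r w a d : G) : ev (lett s r w a d) a2W = A2 s a := by
  simp [lett, a2W, conjW, invW, flp, ev, A2, mul_assoc]

theorem ev_conj1 (s r w a d : G) (g : ℕ) (hg : g < 10) (y : List ℕ) :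
    ev (lett s r w a d) (conjW [g] y) =
      lett s r w a d g * ev (lett s r w a d) y * (lett s r w a d g)⁻¹ := by
  rw [ev_conjW s r w a d (fun x hx => by rw [List.mem_singleton.1 hx]; exact hg), ev_single]

theorem red_eq_one (s r w a d : G) {x y : List ℕ} (hy : (y.all fun g => Nat.blt g 10) = true)
    (h : ev (lett s r w a d) x = ev (lett s r w a d) y) :
    ev (lett s r w a d) (red (eqW x y)) = 1 := by
  rw [ev_red, ev_eqW s r w a d (fun g hg => Nat.blt_eq.mp (List.all_eq_true.1 hy g hg))]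
  exact h

namespace Exact

variable (E : Exact t R Cy V s r w a) (S : Setup t R Cy V)
include E S

theorem w_inv : w⁻¹ = w := inv_eq_of_mul_eq_one_right E.w2

theorem mrel (d : G) : ∀ l ∈ MRel, ev (lett s r w a d) l = 1 := by
  have F := E.toFrame
  have B := S.base F.sM F.aCy
  have h7 : s ^ 7 = 1 := E.s7
  have hr3 : r ^ 3 = 1 := by rw [← F.r_cube]; simp [pow_succ, mul_assoc]
  have ha : a ^ 4 = 1 := B.f0
  have hS2 : s * A2 s a * s⁻¹ = a ^ 1 * A1 s a ^ 2 * A2 s a ^ 1 := by
    have h := F.actS e2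
    rw [Base.phi_e2, show LS e2 = (1, 2, 1) by decide] at h
    exact h
  have hW1 : w * A1 s a * w⁻¹ = a ^ 3 * A1 s a ^ 1 * A2 s a ^ 1 := by
    have h := F.actW e1
    rw [Base.phi_e1, show LW e1 = (3, 1, 1) by decide] at h
    exact h
  have hW2 : w * A2 s a * w⁻¹ = a ^ 0 * A1 s a ^ 0 * A2 s a ^ 3 := by
    have h := F.actW e2
    rw [Base.phi_e2, show LW e2 = (0, 0, 3) by decide] at h
    exact h
  intro l hl
  simp only [MRel, List.mem_cons, List.not_mem_nil, or_false] at hl
  rcases hl with rfl | rfl | rfl | rfl | rfl | rfl | rfl | rfl | rfl | rfl | rfl | rfl | rfl | rfl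
  · rw [ev_powW, ev_single]; exact h7
  · rw [ev_powW, ev_single]; exact hr3
  · refine red_eq_one s r w a d (by decide) ?_
    rw [ev_conj1 _ _ _ _ _ _ (by norm_num), ev_single, ev_cons, ev_single]
    exact E.rs
  · rw [ev_powW, ev_single]; exact ha
  · refine red_eq_one s r w a d (by decide) ?_
    rw [ev_conj1 _ _ _ _ _ _ (by norm_num), ev_a1W]
    exact mul_inv_eq_iff_eq_mul.2 B.c01
  · refine red_eq_one s r w a d (by decide) ?_
    rw [ev_conj1 _ _ _ _ _ _ (by norm_num), ev_a2W]
    exact mul_inv_eq_iff_eq_mul.2 B.c02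
  · refine red_eq_one s r w a d (by decide) ?_
    rw [ev_conj1 _ _ _ _ _ _ (by norm_num), ev_a2W, ev_vecW]
    exact hS2
  · refine red_eq_one s r w a d (by decide) ?_
    rw [ev_conj1 _ _ _ _ _ _ (by norm_num), ev_single]
    exact F.r_a S
  · refine red_eq_one s r w a d (by decide) ?_
    rw [ev_conj1 _ _ _ _ _ _ (by norm_num), ev_single, ev_single]
    exact F.wr
  · refine red_eq_one s r w a d (by decide) ?_
    rw [ev_conj1 _ _ _ _ _ _ (by norm_num), ev_single, ev_single]
    exact F.w_a S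
  · refine red_eq_one s r w a d (by decide) ?_
    rw [ev_conj1 _ _ _ _ _ _ (by norm_num), ev_a1W, ev_vecW]
    exact hW1
  · refine red_eq_one s r w a d (by decide) ?_
    rw [ev_conj1 _ _ _ _ _ _ (by norm_num), ev_a2W, ev_vecW]
    exact hW2
  · rw [ev_powW, ev_single]
    show w ^ 2 = 1
    rw [pow_two, E.w2]
  · rw [ev_powW, ev_cons, ev_single]; exact E.sw

end Exact

end Cfsg.Agent.Lib.HS60
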