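import Mathlib
import Cfsg.Prelude.Def_Solvable
import Cfsg.Prelude.Def_Transfer
import Cfsg.Agent.Lib.PGroups.Frattini
import Cfsg.Agent.Lib.PSolvable.Basic
import Cfsg.Agent.Lib.FischerLarge99.GLThree
import Cfsg.Agent.Lib.J4Five.Linear

/-!
# The Higman-Sims group from an involution centraliser: first consequences of the hypotheses

Owner: helper60.
-/

set_option autoImplicit false
set_option linter.unusedSectionVars false
set_option linter.style.haveILetI false

namespace Cfsg.Agent.Lib.HS60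

open Subgroup

/-- An extraspecial group of order 32 has no commutative subgroup of order at least 16. -/
theorem extraspecial_abelian_lt {E : Type*} [Group E] [Finite E] (h : Cfsg.IsExtraspecial 2 E)
    (hE : Nat.card E = 32) (A : Subgroup E) (hA : ∀ x ∈ A, ∀ y ∈ A, x * y = y * x) :
    Nat.card A < 16 := by
  obtain ⟨⟨-, -, hcomm⟩, hZ⟩ := h
  by_contra hge
  have hdvd : Nat.card A ∣ 32 := hE ▸ A.card_subgroup_dvd_card
  have hZlt : ∀ K : Subgroup E, K ≤ center E → Nat.card K ≤ 2 := fun K hK =>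
    hZ ▸ Subgroup.card_le_of_le hK
  have hnotop : A ≠ ⊤ := by
    intro e
    have hle : (⊤ : Subgroup E) ≤ center E := fun x _ =>
      mem_center_iff.2 fun y => hA y (e ▸ mem_top y) x (e ▸ mem_top x)
    have := hZlt ⊤ hle
    rw [card_top, hE] at this
    omega
  obtain ⟨x, hx⟩ : ∃ x, x ∉ A := by
    by_contra hc
    push_neg at hc
    exact hnotop ((eq_top_iff' A).2 hc)
  have hcen : ∀ u v : E, u * v * u⁻¹ * v⁻¹ ∈ center E := fun u v => by
    rw [← hcomm]
    exact commutator_mem_commutator (mem_top u) (mem_top v)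
  let ψ : A →* center E :=
    MonoidHom.mk' (fun a => ⟨x * (a : E) * x⁻¹ * (a : E)⁻¹, hcen x a⟩) fun a b => Subtype.ext (by
      show x * ((a : E) * b) * x⁻¹ * ((a : E) * b)⁻¹ =
        (x * (a : E) * x⁻¹ * (a : E)⁻¹) * (x * (b : E) * x⁻¹ * (b : E)⁻¹)
      have hb := mem_center_iff.1 (hcen x b) ((a : E))
      calc x * ((a : E) * b) * x⁻¹ * ((a : E) * b)⁻¹
          = x * (a : E) * x⁻¹ * ((x * (b : E) * x⁻¹ * (b : E)⁻¹) * (a : E)⁻¹) := by group
        _ = x * (a : E) * x⁻¹ * ((a : E)⁻¹ * (x * (b : E) * x⁻¹ * (b : E)⁻¹)) := by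
            congr 1
            rw [eq_inv_mul_iff_mul_eq, ← mul_assoc, hb, mul_assoc, mul_inv_cancel, mul_one]
        _ = _ := by group)
  have hK : ψ.ker.map A.subtype ≤ center E := by
    rintro _ ⟨a, ha, rfl⟩
    have hax : x * (a : E) * x⁻¹ * (a : E)⁻¹ = 1 := congrArg Subtype.val (MonoidHom.mem_ker.1 ha)
    have htop : A ⊔ zpowers x = ⊤ := by
      by_contra hne
      have hlt : A < A ⊔ zpowers x :=
        lt_of_le_not_ge le_sup_left fun hle => hx (hle (le_sup_right (a := A) (mem_zpowers x)))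
      have h1 := Subgroup.card_le_of_le hlt.le
      have h2 : Nat.card (A ⊔ zpowers x : Subgroup E) ∣ 32 := hE ▸ card_subgroup_dvd_card _
      have h3 : Nat.card A ∣ Nat.card (A ⊔ zpowers x : Subgroup E) := card_dvd_of_le hlt.le
      have h4 : Nat.card (A ⊔ zpowers x : Subgroup E) ≠ 32 := fun e =>
        hne (eq_top_of_card_eq _ (e.trans hE.symm))
      have h5 : Nat.card A ≠ Nat.card (A ⊔ zpowers x : Subgroup E) := fun e =>
        hlt.ne (eq_of_le_of_card_ge hlt.le e.ge)
      have := Nat.le_of_dvd (by norm_num) h2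
      obtain ⟨k, hk⟩ := h3
      rcases k with _ | _ | k
      · have := Nat.card_pos (α := (A ⊔ zpowers x : Subgroup E))
        omega
      · omega
      · have : Nat.card A * (k + 1 + 1) < 32 := by omega
        nlinarith
    refine mem_center_iff.2 fun y => ?_
    have hy : y ∈ A ⊔ zpowers x := htop ▸ mem_top y
    have hsub : A ⊔ zpowers x ≤ centralizer ({(a : E)} : Set E) := sup_le
      (fun z hz => mem_centralizer_singleton_iff.2 (hA z hz a a.2))
      (zpowers_le.2 (mem_centralizer_singleton_iff.2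
        (mul_inv_eq_iff_eq_mul.1 (mul_inv_eq_one.1 hax))))
    exact mem_centralizer_singleton_iff.1 (hsub hy)
  have h1 := hZlt _ hK
  rw [Nat.card_congr ((ψ.ker.equivMapOfInjective _ A.subtype_injective).toEquiv).symm] at h1
  have h2 := Subgroup.card_mul_index ψ.ker
  have h3 : ψ.ker.index ≤ 2 := by
    rw [Subgroup.index_ker]
    exact hZ ▸ card_le_card_group _
  have h4 : Nat.card ψ.ker * ψ.ker.index ≤ 4 := by
    calc Nat.card ψ.ker * ψ.ker.index ≤ 2 * 2 := Nat.mul_le_mul h1 h3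
      _ = 4 := rfl
  omega

theorem zmod4_invol_card :
    (Finset.univ.filter fun v : ZMod 4 × ZMod 4 × ZMod 4 => v + v = 0).card = 8 := by decide

variable {G : Type*} [Group G]

/-- The group of order 64 acting regularly: the centraliser of `V`. -/
abbrev AA (V : Subgroup G) : Subgroup G := centralizer (V : Set G)

/-- Consequences of the hypotheses of the characterisation. -/
structure Setup (t : G) (R Cy V : Subgroup G) : Prop where
  ht : orderOf t = 2
  cardH : Nat.card (centralizer ({t} : Set G)) = 7680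
  R_le : R ≤ centralizer ({t} : Set G)
  R_conj : ∀ h ∈ centralizer ({t} : Set G), ∀ x ∈ R, h * x * h⁻¹ ∈ R
  cardR : Nat.card R = 64
  Rsq : ∀ x ∈ R, x * x = 1 ∨ x * x = t
  Cy_le : Cy ≤ R
  Cy_central : ∀ c ∈ Cy, ∀ x ∈ R, c * x = x * c
  center_le : ∀ x ∈ R, (∀ y ∈ R, x * y = y * x) → x ∈ Cy
  cy_gen : ∃ a, orderOf a = 4 ∧ zpowers a = Cy
  cy_t : t ∈ Cy
  abel : ∀ X : Subgroup G, X ≤ R → (∀ x ∈ X, ∀ y ∈ X, x * y = y * x) → Nat.card X ≤ 16
  VR : V ≤ R
  tV : t ∈ V
  cardV : Nat.card V = 8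
  Vsq : ∀ x ∈ V, x * x = 1
  A_le : AA V ≤ normalizer (V : Set G)
  V_le_A : V ≤ AA V
  cardA : Nat.card (AA V) = 64
  cardM : Nat.card (normalizer (V : Set G)) = 10752
  Acomm : ∀ x ∈ AA V, ∀ y ∈ AA V, x * y = y * x
  Afour : ∀ x ∈ AA V, x ^ 4 = 1
  Ainv : ∀ x ∈ AA V, x * x = 1 → x ∈ V
  exists_f : ∃ f : centralizer ({t} : Set G) →* Equiv.Perm (Fin 5),
    Function.Surjective f ∧ ∀ x, f x = 1 ↔ (x : G) ∈ R
  exists_phi : ∃ φ : normalizer (V : Set G) →* Lib.FischerLarge99.SL32,
    Function.Surjective φ ∧ ∀ x, φ x = 1 ↔ (x : G) ∈ AA V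

theorem setup_of_hyp [Finite G] (t : G) (ht : orderOf t = 2) (H : Subgroup G)
    (hH : H = centralizer ({t} : Set G))
    (R : Subgroup G) (hR : R = (Cfsg.pCore 2 H).map H.subtype)
    (Cy E : Subgroup G) (hCy : IsCyclic Cy) (hCycard : Nat.card Cy = 4)
    (hCyle : Cy ≤ R ⊓ centralizer (R : Set G))
    (hEle : E ≤ R) (hEex : Cfsg.IsExtraspecial 2 E) (hEcard : Nat.card E = 32)
    (hprod : Cy ⊔ E = R) (hmeet : Cy ⊓ E = E ⊓ centralizer (E : Set G))
    (eH : H ⧸ Cfsg.pCore 2 H ≃* Equiv.Perm (Fin 5))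
    (V : Subgroup G) (hVcomm : IsMulCommutative V) (hVexp : ∀ v ∈ V, v ^ 2 = 1)
    (hVcard : Nat.card V = 8) (hVR : V ≤ R) (M : Subgroup G) (hM : M = normalizer (V : Set G))
    (eOM : Cfsg.pCore 2 M ≃* Multiplicative (ZMod 4 × ZMod 4 × ZMod 4))
    (eM : M ⧸ Cfsg.pCore 2 M ≃* GL (Fin 3) (ZMod 2)) :
    Setup t R Cy V := by
  classical
  haveI : Fact (Nat.Prime 2) := ⟨Nat.prime_two⟩
  subst hH
  subst hM
  set C : Subgroup G := centralizer ({t} : Set G) with hC
  set O := Cfsg.pCore 2 C with hO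
  haveI : O.Normal := Lib.PSolvable.pCore_normal'
  have hRC : R ≤ C := hR ▸ map_subtype_le _
  have hRmem : ∀ x : C, (x : G) ∈ R ↔ x ∈ O := fun x => by
    rw [hR]
    exact mem_map_iff_mem C.subtype_injective
  have hcy1 : ∀ c ∈ Cy, ∀ x ∈ R, c * x = x * c := fun c hc x hx =>
    (mem_centralizer_iff.1 (hCyle hc).2 x hx).symm
  have hCyR : Cy ≤ R := fun c hc => (hCyle hc).1
  -- products
  have hprodmem : ∀ x ∈ R, ∃ c ∈ Cy, ∃ e ∈ E, c * e = x := by
    intro x hx
    have hn : E ≤ normalizer (Cy : Set G) :=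
      le_trans (fun e he => mem_centralizer_iff.2 fun c hc => hcy1 c hc e (hEle he))
        (centralizer_le_normalizer _)
    have h := coe_mul_of_right_le_normalizer_left Cy E hn
    rw [← hprod] at hx
    have hx' : x ∈ ((Cy ⊔ E : Subgroup G) : Set G) := hx
    rw [h] at hx'
    obtain ⟨c, hc, e, he, rfl⟩ := Set.mem_mul.1 hx'
    exact ⟨c, hc, e, he, rfl⟩
  -- the centre of `E`
  have hcE : ∀ e ∈ E, (∀ y ∈ E, e * y = y * e) → e ∈ Cy := fun e he h =>
    (hmeet.symm ▸ (⟨he, mem_centralizer_iff.2 fun y hy => (h y hy).symm⟩ :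
      e ∈ E ⊓ centralizer (E : Set G)) : e ∈ Cy ⊓ E).1
  have hmeet2 : Nat.card (Cy ⊓ E : Subgroup G) = 2 := by
    rw [hmeet, ← hEex.2]
    refine Nat.card_congr ⟨fun x => ⟨⟨x.1, x.2.1⟩, mem_center_iff.2 fun y => Subtype.ext
      (mem_centralizer_iff.1 x.2.2 y y.2)⟩, fun z => ⟨(z.1 : G), z.1.2, mem_centralizer_iff.2
      fun y hy => congrArg Subtype.val (mem_center_iff.1 z.2 ⟨y, hy⟩)⟩, fun _ => rfl, fun _ => rfl⟩
  -- the generator of `Cy`
  obtain ⟨a, ha⟩ := IsCyclic.exists_ofOrder_eq_natCard (α := Cy)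
  rw [hCycard] at ha
  have ha4 : orderOf (a : G) = 4 := by rw [orderOf_coe, ha]
  have hgen : zpowers (a : G) = Cy := eq_of_le_of_card_ge (zpowers_le.2 a.2)
    (by rw [Nat.card_zpowers, ha4, hCycard])
  have hinvol : ∀ x ∈ Cy, x * x = 1 → x = 1 ∨ x = (a : G) * a := by
    intro x hx hx2
    rw [← hgen] at hx
    obtain ⟨n, rfl⟩ := mem_zpowers_iff.1 hx
    rw [← zpow_add] at hx2
    have hd : (4 : ℤ) ∣ n + n := by
      have := orderOf_dvd_iff_zpow_eq_one.2 hx2
      rwa [ha4] at this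
    rw [← zpow_mod_orderOf, ha4]
    have : n % 4 = 0 ∨ n % 4 = 2 := by omega
    rcases this with h | h <;> rw [show ((4 : ℕ) : ℤ) = 4 from rfl, h]
    · exact Or.inl (zpow_zero _)
    · exact Or.inr (zpow_two _)
  -- the central involution is `t`
  have htt : t * t = 1 := by rw [← pow_two, ← ht, pow_orderOf_eq_one]
  have ht1 : t ≠ 1 := fun e => by rw [e, orderOf_one] at ht; omega
  have htC : t ∈ C := mem_centralizer_singleton_iff.2 rfl
  have htR : t ∈ R := by
    refine (hRmem ⟨t, htC⟩).2 (Lib.PSolvable.le_pCore (p := 2) ?_ ?_ (mem_zpowers _))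
    · refine ⟨fun n hn g => ?_⟩
      obtain ⟨k, rfl⟩ := mem_zpowers_iff.1 hn
      have e : Commute g ⟨t, htC⟩ := Subtype.ext (mem_centralizer_singleton_iff.1 g.2)
      rw [(e.zpow_right k).eq, mul_inv_cancel_right]
      exact zpow_mem (mem_zpowers _) k
    · refine IsPGroup.of_card (n := 1) ?_
      rw [Nat.card_zpowers, Subgroup.orderOf_mk, ht, pow_one]
  have hcenter : ∀ x ∈ R, (∀ y ∈ R, x * y = y * x) → x ∈ Cy := by
    intro x hx h
    obtain ⟨c, hc, e, he, rfl⟩ := hprodmem x hx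
    refine mul_mem hc (hcE e he fun y hy => ?_)
    have h1 := h y (hEle hy)
    have h2 := hcy1 c hc y (hEle hy)
    rw [mul_assoc, ← mul_assoc y c, ← h2, mul_assoc] at h1
    exact mul_left_cancel h1
  have htCy : t ∈ Cy := hcenter t htR fun y hy =>
    (mem_centralizer_singleton_iff.1 (hRC hy)).symm
  have hta : (a : G) * a = t := ((hinvol t htCy htt).resolve_left ht1).symm
  -- squares
  have hsqE : ∀ e ∈ E, e * e ∈ Cy ∧ (e * e) * (e * e) = 1 := by
    intro e he
    have hm : (⟨e, he⟩ : E) ^ 2 ∈ center E := by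
      rw [← hEex.1.2.1]
      exact Lib.PGroups.pow_mem_frattini hEex.1.1 _
    have hcen := mem_center_iff.1 hm
    rw [pow_two] at hm
    refine ⟨hcE _ (mul_mem he he) fun y hy => ?_, ?_⟩
    · have := congrArg Subtype.val (hcen ⟨y, hy⟩)
      simp only [pow_two] at this
      exact this.symm
    · have h2 : ((⟨_, hm⟩ : center E)) ^ 2 = 1 := by
        rw [← hEex.2]; exact pow_card_eq_one'
      have h3 := congrArg (fun z : center E => ((z : E) : G)) h2
      simpa [pow_two, mul_assoc] using h3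
  have hRsq : ∀ x ∈ R, x * x = 1 ∨ x * x = t := by
    intro x hx
    obtain ⟨c, hc, e, he, rfl⟩ := hprodmem x hx
    obtain ⟨he1, he2⟩ := hsqE e he
    have hce := hcy1 c hc e (hEle he)
    have e1 : c * e * (c * e) = (c * c) * (e * e) := by
      rw [mul_assoc, ← mul_assoc e c, ← hce, mul_assoc, ← mul_assoc]
    have hccc : c * c * (c * c) = 1 := by
      rw [← hgen] at hc
      obtain ⟨n, rfl⟩ := mem_zpowers_iff.1 hc
      rw [← zpow_add, ← zpow_add, show n + n + (n + n) = (4 : ℤ) * n by ring, zpow_mul,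
        show ((a : G) ^ (4 : ℤ)) = 1 from by
          rw [zpow_ofNat, ← ha4, pow_orderOf_eq_one], one_zpow]
    rw [e1]
    rcases hinvol (c * c) (mul_mem hc hc) hccc with h1 | h1 <;>
      rcases hinvol (e * e) he1 he2 with h2 | h2 <;> rw [h1, h2] <;> simp [hta, htt]
  -- order of `R`
  have hcardR : Nat.card R = 64 := by
    let μ : Cy × E →* R := MonoidHom.mk'
      (fun p => ⟨(p.1 : G) * p.2, mul_mem (hCyR p.1.2) (hEle p.2.2)⟩) fun p q => Subtype.ext (by
        show (p.1 : G) * q.1 * ((p.2 : G) * q.2) = (p.1 : G) * p.2 * ((q.1 : G) * q.2)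
        rw [mul_assoc, ← mul_assoc (q.1 : G), hcy1 q.1 q.1.2 p.2 (hEle p.2.2), mul_assoc,
          ← mul_assoc])
    have hsurj : Function.Surjective μ := fun x => by
      obtain ⟨c, hc, e, he, hce⟩ := hprodmem x x.2
      exact ⟨(⟨c, hc⟩, ⟨e, he⟩), Subtype.ext hce⟩
    have hker : Nat.card μ.ker = 2 := by
      rw [← hmeet2]
      refine Nat.card_congr ⟨fun p => ⟨(p.1.1 : G), p.1.1.2, ?_⟩, fun x => ⟨(⟨x.1, x.2.1⟩,
        ⟨(x.1)⁻¹, E.inv_mem x.2.2⟩), ?_⟩, fun p => ?_, fun _ => rfl⟩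
      · have h : (p.1.1 : G) * p.1.2 = 1 := congrArg Subtype.val (MonoidHom.mem_ker.1 p.2)
        rw [eq_inv_of_mul_eq_one_left h]
        exact E.inv_mem p.1.2.2
      · exact MonoidHom.mem_ker.2 (Subtype.ext (mul_inv_cancel x.1))
      · have h : (p.1.1 : G) * p.1.2 = 1 := congrArg Subtype.val (MonoidHom.mem_ker.1 p.2)
        exact Subtype.ext (Prod.ext rfl (Subtype.ext (eq_inv_of_mul_eq_one_right h).symm))
    have h := card_mul_index μ.ker
    rw [hker, index_ker, MonoidHom.range_eq_top.2 hsurj, card_top, Nat.card_prod, hCycard,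
      hEcard] at h
    omega
  -- commutative subgroups of `R`
  have habel : ∀ X : Subgroup G, X ≤ R → (∀ x ∈ X, ∀ y ∈ X, x * y = y * x) → Nat.card X ≤ 16 := by
    intro X hX hXc
    by_contra hlt
    have hER : E.relIndex R = 2 := by
      have h := Nat.card_congr (subgroupOfEquivOfLe hEle).toEquiv
      have h2 := card_mul_index (E.subgroupOf R)
      rw [h, hEcard, hcardR] at h2
      show (E.subgroupOf R).index = 2
      omega
    have hEX : E.relIndex X ≤ 2 := hER ▸ relIndex_le_of_le_right hX (by rw [hER]; norm_num)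
    have h1 := card_mul_index (E.subgroupOf X)
    have h2 : Nat.card (E.subgroupOf X) < 16 := by
      have e1 : Nat.card (E.subgroupOf X) = Nat.card (X.subgroupOf E) :=
        Nat.card_congr ⟨fun x => ⟨⟨x.1.1, mem_subgroupOf.1 x.2⟩, mem_subgroupOf.2 x.1.2⟩,
          fun x => ⟨⟨x.1.1, mem_subgroupOf.1 x.2⟩, mem_subgroupOf.2 x.1.2⟩, fun _ => rfl, fun _ => rfl⟩
      rw [e1]
      exact extraspecial_abelian_lt hEex hEcard _ fun x hx y hy =>
        Subtype.ext (hXc _ (mem_subgroupOf.1 hx) _ (mem_subgroupOf.1 hy))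
    have h3 : E.relIndex X * Nat.card (E.subgroupOf X) = Nat.card X := by
      rw [mul_comm]; exact h1
    have h4 : Nat.card X ∣ 64 := hcardR ▸ card_dvd_of_le hX
    obtain ⟨n, -, hn⟩ := (Nat.dvd_prime_pow Nat.prime_two).1 (show Nat.card X ∣ 2 ^ 6 from h4)
    have h5 : 32 ≤ Nat.card X := by
      rw [hn] at hlt ⊢
      calc 32 = 2 ^ 5 := rfl
        _ ≤ 2 ^ n := Nat.pow_le_pow_right (by norm_num) (by
            by_contra hc
            have : 2 ^ n ≤ 2 ^ 4 := Nat.pow_le_pow_right (by norm_num) (by omega)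
            omega)
    have h6 : E.relIndex X * Nat.card (E.subgroupOf X) ≤ 2 * Nat.card (E.subgroupOf X) :=
      Nat.mul_le_mul_right _ hEX
    omega
  -- `V`
  have hVc : ∀ x ∈ V, ∀ y ∈ V, x * y = y * x := fun x hx y hy =>
    congrArg Subtype.val (hVcomm.is_comm.comm (⟨x, hx⟩ : V) ⟨y, hy⟩)
  have hVsq : ∀ x ∈ V, x * x = 1 := fun x hx => by rw [← pow_two]; exact hVexp x hx
  have htV : t ∈ V := by
    by_contra hnt
    let μ : Cy × V →* G := MonoidHom.mk' (fun p => (p.1 : G) * p.2) fun p q => by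
      show (p.1 : G) * q.1 * ((p.2 : G) * q.2) = (p.1 : G) * p.2 * ((q.1 : G) * q.2)
      rw [mul_assoc, ← mul_assoc (q.1 : G), hcy1 q.1 q.1.2 p.2 (hVR p.2.2), mul_assoc,
        ← mul_assoc]
    have hinj : Function.Injective μ := (injective_iff_map_eq_one μ).2 fun p hp => by
      have hp' : (p.1 : G) * p.2 = 1 := hp
      have e : (p.1 : G) = ((p.2 : G))⁻¹ := eq_inv_of_mul_eq_one_left hp'
      have h11 : (p.1 : G) = 1 := by
        rcases hinvol p.1 p.1.2 (by rw [e, ← mul_inv_rev, hVsq _ p.2.2, inv_one]) with h | h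
        · exact h
        · exact absurd (hta ▸ h ▸ e ▸ inv_mem p.2.2 : t ∈ V) hnt
      exact Prod.ext (Subtype.ext h11) (Subtype.ext (by simpa [h11] using hp'))
    have h := habel μ.range (by
        rintro _ ⟨p, rfl⟩
        exact mul_mem (hCyR p.1.2) (hVR p.2.2)) (by
        rintro _ ⟨p, rfl⟩ _ ⟨q, rfl⟩
        rw [← map_mul, ← map_mul]
        congr 1
        refine Prod.ext (Subtype.ext (hcy1 p.1 p.1.2 q.1 (hCyR q.1.2))) (Subtype.ext ?_)
        exact hVc _ p.2.2 _ q.2.2)
    rw [← Nat.card_congr (μ.ofInjective hinj).toEquiv, Nat.card_prod, hCycard, hVcard] at h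
    omega
  have hf : ∃ f : C →* Equiv.Perm (Fin 5), Function.Surjective f ∧ ∀ x, f x = 1 ↔ (x : G) ∈ R := by
    refine ⟨eH.toMonoidHom.comp (QuotientGroup.mk' O),
      eH.surjective.comp (QuotientGroup.mk'_surjective O), fun x => ?_⟩
    rw [hRmem]
    show eH (QuotientGroup.mk' O x) = 1 ↔ _
    rw [MulEquiv.map_eq_one_iff]
    exact QuotientGroup.eq_one_iff x
  have hcardC : Nat.card C = 7680 := by
    have h := Subgroup.card_eq_card_quotient_mul_card_subgroup O
    rw [Nat.card_congr eH.toEquiv, Nat.card_perm, Nat.card_fin] at h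
    have hO2 : Nat.card O = 64 := by
      rw [← hcardR, hR]
      exact Nat.card_congr (equivMapOfInjective O _ C.subtype_injective).toEquiv
    rw [hO2] at h
    simpa [Nat.factorial] using h
  -- the normaliser of `V`
  set M : Subgroup G := normalizer (V : Set G) with hMdef
  set P := Cfsg.pCore 2 M with hP
  haveI : P.Normal := Lib.PSolvable.pCore_normal'
  have hAM : AA V ≤ M := centralizer_le_normalizer _
  have hVM : V ≤ M := le_normalizer
  have hVP : V.subgroupOf M ≤ P := by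
    refine Lib.PSolvable.le_pCore (p := 2) ?_ ?_
    · exact (inferInstance : (V.subgroupOf M).Normal)
    · refine IsPGroup.of_card (n := 3) ?_
      rw [Nat.card_congr (subgroupOfEquivOfLe hVM).toEquiv, hVcard]
      norm_num
  have hPc : ∀ x ∈ P, ∀ y ∈ P, x * y = y * x := fun x hx y hy =>
    congrArg Subtype.val (eOM.injective (by rw [map_mul, map_mul, mul_comm]) :
      (⟨x, hx⟩ : P) * ⟨y, hy⟩ = ⟨y, hy⟩ * ⟨x, hx⟩)
  have hPA : P ≤ (AA V).subgroupOf M := fun x hx => mem_subgroupOf.2 (mem_centralizer_iff.2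
    fun v hv => congrArg Subtype.val (hPc ⟨v, hVM hv⟩ (hVP (mem_subgroupOf.2 hv)) x hx))
  have hAC : AA V ≤ C := fun x hx =>
    mem_centralizer_singleton_iff.2 (mem_centralizer_iff.1 hx t htV).symm
  have hcardP : Nat.card P = 64 := by
    rw [Nat.card_congr eOM.toEquiv, Nat.card_congr Multiplicative.toAdd, Nat.card_prod,
      Nat.card_prod, Nat.card_zmod]
  have hcardM : Nat.card M = 10752 := by
    rw [Subgroup.card_eq_card_quotient_mul_card_subgroup P, Nat.card_congr eM.toEquiv, hcardP,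
      Lib.Inv59.RudT.card_G32]
  obtain ⟨φ, hφ⟩ := Lib.FischerLarge99.exists_action V hVsq hVcard
  have hAker : (AA V).subgroupOf M = φ.ker := by
    ext x
    exact ((MonoidHom.mem_ker).trans (hφ x)).trans mem_subgroupOf.symm |>.symm
  have hAP : (AA V).subgroupOf M = P := by
    haveI := Lib.Inv59.RudT.simple_G32
    haveI hn : ((AA V).subgroupOf M).Normal := hAker ▸ MonoidHom.normal_ker φ
    let q : M →* GL (Fin 3) (ZMod 2) := eM.toMonoidHom.comp (QuotientGroup.mk' P)
    have hq : Function.Surjective q := eM.surjective.comp (QuotientGroup.mk'_surjective P)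
    have hqker : q.ker = P := by
      ext x
      show eM (QuotientGroup.mk' P x) = 1 ↔ _
      rw [MulEquiv.map_eq_one_iff]
      exact QuotientGroup.eq_one_iff x
    rcases (hn.map q hq).eq_bot_or_eq_top with h | h
    · refine le_antisymm ?_ hPA
      rw [← hqker]
      exact fun x hx => MonoidHom.mem_ker.2 (mem_bot.1 (h ▸ mem_map_of_mem q hx))
    · exfalso
      have htop : (AA V).subgroupOf M = ⊤ := by
        have h2 := comap_map_eq q ((AA V).subgroupOf M)
        rw [h, comap_top, hqker, sup_eq_left.2 hPA] at h2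
        exact h2.symm
      have hle : M ≤ C := fun x hx => hAC (mem_subgroupOf.1 (htop ▸ mem_top (⟨x, hx⟩ : M)))
      have := card_dvd_of_le hle
      rw [hcardM, hcardC] at this
      norm_num at this
  have hcardA : Nat.card (AA V) = 64 := by
    rw [← hcardP, ← hAP, Nat.card_congr (subgroupOfEquivOfLe hAM).toEquiv]
  have hmemP : ∀ x (hx : x ∈ AA V), (⟨x, hAM hx⟩ : M) ∈ P := fun x hx =>
    hAP ▸ mem_subgroupOf.2 hx
  have hVA : V ≤ AA V := fun v hv => mem_centralizer_iff.2 fun w hw => hVc w hw v hv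
  have hφsurj : Function.Surjective φ := by
    rw [← MonoidHom.range_eq_top]
    refine eq_top_of_card_eq _ ?_
    have h := card_mul_index φ.ker
    rw [index_ker, ← hAker, hAP, hcardP, hcardM] at h
    rw [Lib.FischerLarge99.card_SL32]
    omega
  have hfour : ∀ v : Multiplicative (ZMod 4 × ZMod 4 × ZMod 4), v ^ 4 = 1 := fun v => by
    have : ∀ u : ZMod 4 × ZMod 4 × ZMod 4, 4 • u = 0 := by decide
    exact Multiplicative.toAdd.injective (by rw [toAdd_pow, this, toAdd_one])
  have hAinv : ∀ x ∈ AA V, x * x = 1 → x ∈ V := by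
    intro x hx hx2
    let S : Finset (ZMod 4 × ZMod 4 × ZMod 4) := Finset.univ.filter fun v => v + v = 0
    let g : V → S := fun v => ⟨(eOM ⟨_, hmemP v (hVA v.2)⟩).toAdd, by
      refine Finset.mem_filter.2 ⟨Finset.mem_univ _, ?_⟩
      rw [← toAdd_mul, ← map_mul, show (⟨⟨(v : G), _⟩, hmemP v (hVA v.2)⟩ : P) * _ = 1 from
        Subtype.ext (Subtype.ext (hVsq v v.2)), map_one, toAdd_one]⟩
    have hg : Function.Bijective g := by
      refine (Nat.bijective_iff_injective_and_card g).2 ⟨fun u v h => ?_, ?_⟩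
      · have h' := eOM.injective (Multiplicative.toAdd.injective (congrArg Subtype.val h))
        exact Subtype.ext (congrArg (fun z : P => ((z : M) : G)) h')
      · rw [hVcard, Nat.card_eq_fintype_card, Fintype.card_coe]
        exact zmod4_invol_card.symm
    have hxS : (eOM ⟨_, hmemP x hx⟩).toAdd ∈ S := by
      refine Finset.mem_filter.2 ⟨Finset.mem_univ _, ?_⟩
      rw [← toAdd_mul, ← map_mul, show (⟨⟨x, _⟩, hmemP x hx⟩ : P) * _ = 1 from
        Subtype.ext (Subtype.ext hx2), map_one, toAdd_one]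
    obtain ⟨v, hv⟩ := hg.2 ⟨_, hxS⟩
    have h' := eOM.injective (Multiplicative.toAdd.injective (congrArg Subtype.val hv))
    have e : (v : G) = x := congrArg (fun z : P => ((z : M) : G)) h'
    exact e ▸ v.2
  exact
    { ht := ht
      cardH := hcardC
      R_le := hRC
      R_conj := fun h hh x hx => (hRmem (⟨h, hh⟩ * ⟨x, hRC hx⟩ * ⟨h, hh⟩⁻¹)).2
        ((inferInstance : O.Normal).conj_mem _ ((hRmem ⟨x, hRC hx⟩).1 hx) _)
      cardR := hcardR
      Rsq := hRsq
      Cy_le := hCyR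
      Cy_central := hcy1
      center_le := hcenter
      cy_gen := ⟨a, ha4, hgen⟩
      cy_t := htCy
      abel := habel
      VR := hVR
      tV := htV
      cardV := hVcard
      Vsq := hVsq
      A_le := hAM
      V_le_A := hVA
      cardA := hcardA
      cardM := hcardM
      Acomm := fun x hx y hy =>
        congrArg Subtype.val (hPc ⟨x, hAM hx⟩ (hmemP x hx) ⟨y, hAM hy⟩ (hmemP y hy))
      Afour := fun x hx => by
        have h := eOM.injective (a₁ := (⟨_, hmemP x hx⟩ : P) ^ 4) (a₂ := 1)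
          (by rw [map_pow, map_one, hfour])
        simpa using congrArg (fun z : P => ((z : M) : G)) h
      Ainv := hAinv
      exists_f := hf
      exists_phi := ⟨φ, hφsurj, hφ⟩ }

end Cfsg.Agent.Lib.HS60
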