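import Cfsg.Agent.Lib.HS60.FrameFacts

/-!
# The element `d` of the centraliser of the involution outside the normaliser of `V`

Owner: helper60.
-/

set_option autoImplicit false
set_option linter.unusedSectionVars false
set_option maxHeartbeats 2000000
set_option maxRecDepth 8000

namespace Cfsg.Agent.Lib.HS60

open Subgroup

variable {G : Type*} [Group G] {t : G} {R Cy V : Subgroup G} {s r w a : G}

/-- The action on `V` of a conjugate of an involution in `d R d⁻¹`. -/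
abbrev LP : V3 → V3 := lin e0 (3, 3, 2) (0, 0, 3)

theorem p_act : ∀ (u : V3) (b b' : Bool),
    (∀ u : V3, LW (2 • u + (u.2.1 * cond b 2 0 + u.2.2 * cond b' 2 0, 0, 0)) =
      LW (2 • u) + ((LW u).2.1 * cond b 2 0 + (LW u).2.2 * cond b' 2 0, 0, 0)) →
    (b = false ∧ b' = false) ∨
      2 • u + (u.2.1 * cond b 2 0 + u.2.2 * cond b' 2 0, 0, 0) = LP (2 • u) := by
  decide +kernel

theorem gconj_act : ∀ u : V3,
    LS (LR (LS (LP (LS^[6] (LR (LR (LS^[6] (LW (2 • u))))))))) = 2 • u := by decide +kernel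

theorem Setup.w_outer [Finite G] (S : Setup t R Cy V) {f : centralizer ({t} : Set G) →* S5}
    (hf : Function.Surjective f) (hk : ∀ x, f x = 1 ↔ (x : G) ∈ R) {a : G} (ha4 : orderOf a = 4)
    (haCy : a ∈ Cy) {w : G} (hw : w ∈ centralizer ({t} : Set G)) (hwa : w * a * w⁻¹ = a⁻¹) :
    ∀ h : centralizer ({t} : Set G),
      ((h : G) * a * (h : G)⁻¹ = a ↔ Equiv.Perm.sign (f h) = 1) ∧
      (Equiv.Perm.sign (f h) = -1 → (h : G) * a * (h : G)⁻¹ = a⁻¹) := by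
  classical
  let K : Subgroup (centralizer ({t} : Set G)) := (centralizer ({a} : Set G)).subgroupOf (centralizer ({t} : Set G))
  have hKmem : ∀ h : (centralizer ({t} : Set G)), h ∈ K ↔ (h : G) * a * (h : G)⁻¹ = a := fun h => by
    rw [mem_subgroupOf, mem_centralizer_singleton_iff, mul_inv_eq_iff_eq_mul]
  have hgen : zpowers a = Cy := by
    obtain ⟨b, hb, hgenb⟩ := S.cy_gen
    exact eq_of_le_of_card_ge (zpowers_le.2 haCy)
      (by rw [← hgenb, Nat.card_zpowers, Nat.card_zpowers, hb, ha4])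
  have hai : a ≠ a⁻¹ := fun e => by
    have h2 : a ^ 2 = 1 := by rw [pow_two]; nth_rw 1 [e]; exact inv_mul_cancel a
    have := orderOf_dvd_of_pow_eq_one h2
    rw [ha4] at this
    norm_num at this
  have hor : ∀ h : (centralizer ({t} : Set G)), (h : G) * a * (h : G)⁻¹ = a ∨ (h : G) * a * (h : G)⁻¹ = a⁻¹ := by
    intro h
    set b := (h : G) * a * (h : G)⁻¹ with hb
    have hbm : b ∈ zpowers a := hgen ▸ S.Cy_conj h.2 haCy
    have hbo : orderOf b = 4 := by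
      rw [hb]
      exact (orderOf_injective (MulAut.conj (h : G)).toMonoidHom (MulAut.conj (h : G)).injective a).trans ha4
    obtain ⟨n, hn⟩ := mem_zpowers_iff.1 hbm
    have hn' : b = a ^ (n % 4) := by rw [← hn, ← zpow_mod_orderOf, ha4]; rfl
    have hn4 : n % 4 = 0 ∨ n % 4 = 1 ∨ n % 4 = 2 ∨ n % 4 = 3 := by omega
    rcases hn4 with e | e | e | e <;> rw [e] at hn'
    · rw [hn', zpow_zero, orderOf_one] at hbo; omega
    · exact Or.inl (by rw [hn', zpow_one])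
    · exfalso
      have h2 : b ^ 2 = 1 := by
        rw [hn', zpow_two, ← pow_two, ← pow_mul,
          show (2 * 2 : ℕ) = orderOf a from ha4.symm, pow_orderOf_eq_one]
      have := orderOf_dvd_of_pow_eq_one h2
      rw [hbo] at this
      norm_num at this
    · refine Or.inr (hn'.trans (eq_inv_of_mul_eq_one_left ?_))
      rw [← zpow_add_one, show ((3 : ℤ) + 1) = ((4 : ℕ) : ℤ) from rfl, zpow_natCast, ← ha4,
        pow_orderOf_eq_one]
  have hwK : (⟨w, hw⟩ : (centralizer ({t} : Set G))) ∉ K := fun h => hai (((hKmem _).1 h).symm.trans hwa)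
  have hK2 : K.index = 2 := by
    rw [Subgroup.index_eq_two_iff]
    refine ⟨⟨w, hw⟩, fun b => ?_⟩
    rw [hKmem, hKmem, Subgroup.coe_mul]
    rw [show (b : G) * w * a * ((b : G) * w)⁻¹ = (b : G) * (w * a * w⁻¹) * (b : G)⁻¹ by group, hwa,
      show (b : G) * a⁻¹ * (b : G)⁻¹ = ((b : G) * a * (b : G)⁻¹)⁻¹ by group]
    rcases hor b with h | h <;> rw [h]
    · exact Or.inr ⟨rfl, fun e => hai e.symm⟩
    · exact Or.inl ⟨inv_inv a, fun e => hai e.symm⟩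
  have hker : f.ker ≤ K := fun x hx => (hKmem x).2 (by
    rw [← S.Cy_central a haCy (x : G) ((hk x).1 (MonoidHom.mem_ker.1 hx)), mul_inv_cancel_right])
  have himg : K.map f = alternatingGroup (Fin 5) :=
    Equiv.Perm.eq_alternatingGroup_of_index_eq_two (by rw [index_map_eq K hf hker, hK2])
  have hiff : ∀ h : (centralizer ({t} : Set G)), h ∈ K ↔ Equiv.Perm.sign (f h) = 1 := by
    intro h
    rw [← Equiv.Perm.mem_alternatingGroup, ← himg]
    refine ⟨fun e => mem_map_of_mem f e, fun e => ?_⟩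
    obtain ⟨k, hk', hkf⟩ := mem_map.1 e
    have : k⁻¹ * h ∈ f.ker := MonoidHom.mem_ker.2 (by rw [map_mul, map_inv, hkf, inv_mul_cancel])
    have h2 := mul_mem hk' (hker this)
    rwa [mul_inv_cancel_left] at h2
  refine fun h => ⟨(hKmem h).symm.trans (hiff h), fun e => (hor h).resolve_left fun e' => ?_⟩
  rw [(hiff h).1 ((hKmem h).2 e')] at e
  exact absurd e (by decide)

/-- The element `d` and the element `v = d c d⁻¹`. -/
structure Side (t : G) (R Cy V : Subgroup G) (s r w a d : G) : Prop where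
  dH : d ∈ centralizer ({t} : Set G)
  dr : d * r = r * d
  da : d * a * d⁻¹ = a⁻¹
  dd : d * d = 1
  cube : (d * (A1 s a * w * (A1 s a)⁻¹)) ^ 3 = 1
  wd : ∃ k : ZMod 4, w * d * w = d * phi a (A1 s a) (A2 s a) (k, 0, 0)
  ww : w * w = 1
  dM : d ∉ normalizer (V : Set G)
  vR : d * phi a (A1 s a) (A2 s a) (2, 0, 2) * d⁻¹ ∈ R
  vA : d * phi a (A1 s a) (A2 s a) (2, 0, 2) * d⁻¹ ∉ AA V
  vact : ∀ u, (d * phi a (A1 s a) (A2 s a) (2, 0, 2) * d⁻¹) * phi a (A1 s a) (A2 s a) (2 • u) *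
    (d * phi a (A1 s a) (A2 s a) (2, 0, 2) * d⁻¹)⁻¹ = phi a (A1 s a) (A2 s a) (LP (2 • u))
  vw : w * (d * phi a (A1 s a) (A2 s a) (2, 0, 2) * d⁻¹) * w⁻¹ =
    d * phi a (A1 s a) (A2 s a) (2, 0, 2) * d⁻¹
  exists_f : ∃ f : centralizer ({t} : Set G) →* S5, Function.Surjective f ∧
    (∀ x, f x = 1 ↔ (x : G) ∈ R) ∧ ∃ (hr : r ∈ centralizer ({t} : Set G))
      (hd : d ∈ centralizer ({t} : Set G)) (hw : w ∈ centralizer ({t} : Set G))
      (h1 : A1 s a ∈ centralizer ({t} : Set G)),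
      f ⟨r, hr⟩ = rho ∧ f ⟨d, hd⟩ = tau ∧ XCond (f ⟨A1 s a, h1⟩) ∧
        OCond (f ⟨A1 s a, h1⟩) (f ⟨w, hw⟩)

theorem Frame.exists_side [Finite G] (F : Frame t R Cy V s r w a) (S : Setup t R Cy V) :
    ∃ d, Side t R Cy V s r w a d := by
  classical
  set H := centralizer ({t} : Set G) with hH
  have B := S.base F.sM F.aCy
  have htt := S.t_sq
  set φ := phi a (A1 s a) (A2 s a) with hφ
  have hadd : ∀ u u', φ (u + u') = φ u * φ u' := B.phi_add
  have h0 : φ 0 = 1 := Base.phi_zero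
  have he0 : φ e0 = a := Base.phi_e0
  have he1 : φ e1 = A1 s a := Base.phi_e1
  have he2 : φ e2 = A2 s a := Base.phi_e2
  have hA : ∀ u, φ u ∈ AA V := F.mem_A S
  have hHA : ∀ u, φ u ∈ H := fun u => S.A_le_H (hA u)
  have hrH := F.r_H S
  have hwH := F.w_H S
  have hr3 := F.r_cube
  have h20 : φ (2, 0, 0) = t := by
    rw [hφ, ← F.haa]
    simp [phi, show (2 : ZMod 4).val = 2 from rfl, pow_two]
  -- `Cy` in coordinates
  have hCy : ∀ c ∈ Cy, ∃ i : ZMod 4, c = φ (i, 0, 0) := fun c hc => by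
    refine F.centR S (S.Cy_le hc) ?_
    have hgen : zpowers a = Cy := by
      obtain ⟨b, hb, hgenb⟩ := S.cy_gen
      exact eq_of_le_of_card_ge (zpowers_le.2 F.aCy)
        (by rw [← hgenb, Nat.card_zpowers, Nat.card_zpowers, hb, F.ha4])
    rw [← hgen] at hc
    obtain ⟨n, rfl⟩ := mem_zpowers_iff.1 hc
    exact ((Commute.zpow_left (show Commute a r from (mul_inv_eq_iff_eq_mul.1 (F.r_a S)).symm) n)).eq
  have hCy' : ∀ i : ZMod 4, φ (i, 0, 0) ∈ Cy := fun i => by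
    show phi a (A1 s a) (A2 s a) (i, 0, 0) ∈ Cy
    simp only [phi, ZMod.val_zero, pow_zero, mul_one]
    exact pow_mem F.aCy _
  have hcR : ∀ i : ZMod 4, φ (i, 0, 0) ∈ R := fun i => S.Cy_le (hCy' i)
  -- the map to `S5`
  obtain ⟨f0, hf0, hk0⟩ := S.exists_f
  have hr1 : f0 ⟨r, hrH⟩ ≠ 1 := fun e => F.r_not_R S ((hk0 _).1 e)
  obtain ⟨q, hq⟩ := conj_three (f0 ⟨r, hrH⟩) (by
    rw [← map_mul, ← map_mul, show (⟨r, hrH⟩ : H) * ⟨r, hrH⟩ * ⟨r, hrH⟩ = 1 from Subtype.ext hr3,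
      map_one]) hr1
  let f : H →* S5 := (MulAut.conj q).toMonoidHom.comp f0
  have hfs : Function.Surjective f := (MulAut.conj q).surjective.comp hf0
  have hk : ∀ x, f x = 1 ↔ (x : G) ∈ R := fun x => by
    show MulAut.conj q (f0 x) = 1 ↔ _
    rw [MulEquiv.map_eq_one_iff]
    exact hk0 x
  have hfr : f ⟨r, hrH⟩ = rho := hq
  have hfR : ∀ {x : G} (hx : x ∈ H), x ∈ R → f ⟨x, hx⟩ = 1 := fun hx h => (hk _).2 h
  have hfconj : ∀ {g x : G} (hg : g ∈ H) (hx : x ∈ H) (h : g * x * g⁻¹ ∈ H),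
      f ⟨_, h⟩ = f ⟨g, hg⟩ * f ⟨x, hx⟩ * (f ⟨g, hg⟩)⁻¹ := fun hg hx h => by
    rw [← map_inv, ← map_mul, ← map_mul]; rfl
  have hfa : f ⟨φ e0, hHA e0⟩ = 1 := hfR _ (he0 ▸ S.Cy_le F.aCy)
  have hfadd : ∀ u u', f ⟨φ (u + u'), hHA _⟩ = f ⟨φ u, hHA u⟩ * f ⟨φ u', hHA u'⟩ := fun u u' => by
    rw [← map_mul]; exact congrArg f (Subtype.ext (hadd u u'))
  have hfeq : ∀ {x x' : G} (hx : x ∈ H) (hx' : x' ∈ H), x = x' → f ⟨x, hx⟩ = f ⟨x', hx'⟩ := by
    rintro x x' hx hx' rfl; rfl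
  -- `A` is not in `R`
  have h1R : A1 s a ∉ R := by
    intro h1
    have h2 : A2 s a ∈ R := F.r_a1 S ▸ S.R_conj r hrH _ h1
    have hle : AA V ≤ R := fun x hx => by
      obtain ⟨u, rfl⟩ := F.surj x hx
      exact mul_mem (mul_mem (pow_mem (S.Cy_le F.aCy) _) (pow_mem h1 _)) (pow_mem h2 _)
    have h64 := S.abel _ hle S.Acomm
    rw [S.cardA] at h64
    omega
  set x := f ⟨φ e1, hHA e1⟩ with hx
  set y := f ⟨φ e2, hHA e2⟩ with hy
  have hxy : y = rho * x * rho⁻¹ := by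
    rw [← hfr, hx, ← hfconj hrH (hHA e1) (he1 ▸ (F.r_a1 S).symm ▸ he2 ▸ hHA e2 : r * φ e1 * r⁻¹ ∈ H)]
    exact hfeq _ _ (by rw [he1, he2]; exact (F.r_a1 S).symm)
  have hsqR : ∀ u, φ (2 • u) ∈ R := fun u => S.VR (F.mem_V_even S u)
  have hx2 : x * x = 1 := by rw [← hfadd]; exact hfR _ (two_nsmul e1 ▸ hsqR e1)
  have hy2 : y * y = 1 := by rw [← hfadd]; exact hfR _ (two_nsmul e2 ▸ hsqR e2)
  have hxy' : x * y = y * x := by
    rw [← hfadd, ← hfadd]; exact hfeq _ _ (by rw [add_comm])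
  have hfu : ∀ u : V3, ∀ n m : ℕ, u = u.1.val • e0 + n • e1 + m • e2 →
      f ⟨φ u, hHA u⟩ = x ^ n * y ^ m := by
    intro u n m hu
    rw [hx, hy, ← map_pow, ← map_pow, ← map_mul]
    have e : φ u = φ (u.1.val • e0) * (φ e1 ^ n * φ e2 ^ m) := by
      conv_lhs => rw [hu, hφ, B.phi_add, B.phi_add, B.phi_nsmul n e1, B.phi_nsmul m e2]
      rw [mul_assoc]
    rw [hfeq (hHA u) (mul_mem (hHA _) (mul_mem (pow_mem (hHA e1) n) (pow_mem (hHA e2) m))) e]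
    show f (⟨φ (u.1.val • e0), hHA _⟩ * (⟨φ e1, hHA e1⟩ ^ n * ⟨φ e2, hHA e2⟩ ^ m)) = _
    rw [map_mul, hfR (hHA _) (by
      rw [hφ, B.phi_nsmul, Base.phi_e0]; exact pow_mem (S.Cy_le F.aCy) _), one_mul]
  have hfcases : ∀ u, f ⟨φ u, hHA u⟩ = 1 ∨ f ⟨φ u, hHA u⟩ = x ∨ f ⟨φ u, hHA u⟩ = y ∨
      f ⟨φ u, hHA u⟩ = x * y := by
    intro u
    have hd : ∀ u : V3, u = u.1.val • e0 + u.2.1.val • e1 + u.2.2.val • e2 := by decide
    rw [hfu u u.2.1.val u.2.2.val (hd u)]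
    have hp : ∀ (z : S5), z * z = 1 → ∀ n, z ^ n = 1 ∨ z ^ n = z := fun z hz n => by
      induction n with
      | zero => exact Or.inl (pow_zero z)
      | succ n ih =>
        rcases ih with h | h <;> rw [pow_succ, h]
        · exact Or.inr (one_mul z)
        · exact Or.inl hz
    rcases hp x hx2 u.2.1.val with h | h <;> rcases hp y hy2 u.2.2.val with h' | h' <;> rw [h, h']
    · exact Or.inl (one_mul 1)
    · exact Or.inr (Or.inr (Or.inl (one_mul y)))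
    · exact Or.inr (Or.inl (mul_one x))
    · exact Or.inr (Or.inr (Or.inr rfl))
  have hX : XCond x := by
    refine ⟨hx2, fun e => h1R (he1 ▸ (hk _).1 e), ?_, ?_⟩
    · rw [← hxy]; exact hxy'.symm
    · rw [← hxy, show rho * rho * x * (rho * rho)⁻¹ = rho * (rho * x * rho⁻¹) * rho⁻¹ by group, ← hxy,
        ← hfr, hy, ← hfconj hrH (hHA e2) (mul_mem (mul_mem hrH (hHA e2)) (inv_mem hrH)),
        hfeq _ (hHA _) (F.actR e2), hfu (LR e2) 3 3 (by decide), pow_succ, pow_succ, pow_one, hx2,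
        one_mul, pow_succ y, pow_succ, pow_one, hy2, one_mul]
  -- `w`
  have hwrr : w * w * r * (w * w)⁻¹ = r := by
    rw [show w * w * r * (w * w)⁻¹ = w * (w * r * w⁻¹) * w⁻¹ by group, F.wr,
      show w * r⁻¹ * w⁻¹ = (w * r * w⁻¹)⁻¹ by group, F.wr, inv_inv]
  obtain ⟨uw, huw⟩ := F.surj _ F.mww
  have huw' : LR uw = uw := F.inj (by
    rw [← F.actR, huw]
    exact mul_inv_eq_iff_eq_mul.2 (mul_inv_eq_iff_eq_mul.1 hwrr).symm)
  obtain ⟨hu1, hu2⟩ := fix_LR uw huw'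
  have hwwC : w * w = φ (uw.1, 0, 0) := by
    rw [← huw]; exact congrArg φ (Prod.ext rfl (Prod.ext hu1 hu2))
  set o := f ⟨w, hwH⟩ with ho
  have hsign := S.w_outer hfs hk F.ha4 F.aCy hwH (F.w_a S)
  have hwinv : ¬ Equiv.Perm.sign o = 1 := fun e => by
    have h := ((hsign ⟨w, hwH⟩).1.2 e).symm.trans (F.w_a S)
    have h2 : a ^ 2 = 1 := by rw [pow_two]; nth_rw 1 [h]; exact inv_mul_cancel a
    have := orderOf_dvd_of_pow_eq_one h2
    rw [F.ha4] at this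
    norm_num at this
  have hO : OCond x o := by
    refine ⟨?_, ?_, (Int.units_eq_one_or _).resolve_left hwinv, ?_⟩
    · rw [ho, ← map_mul]; exact hfR _ (hwwC ▸ hcR _)
    · rw [ho, ← hfr, ← map_inv f ⟨r, hrH⟩,
        ← hfconj hwH hrH (mul_mem (mul_mem hwH hrH) (inv_mem hwH))]
      exact hfeq _ _ F.wr
    · rw [← hxy, ho, hx, ← hfconj hwH (hHA e1) (mul_mem (mul_mem hwH (hHA e1)) (inv_mem hwH)),
        hfeq _ (hHA _) (F.actW e1), hfu (LW e1) 1 1 (by decide), pow_one, pow_one]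
  -- `d`
  obtain ⟨⟨d0, hd0⟩, hfd0⟩ := hfs tau
  have hr'R : d0 * r * d0⁻¹ * r⁻¹ ∈ R := by
    refine (hk ⟨_, mul_mem (mul_mem (mul_mem hd0 hrH) (inv_mem hd0)) (inv_mem hrH)⟩).1 ?_
    show f (⟨d0, hd0⟩ * ⟨r, hrH⟩ * ⟨d0, hd0⟩⁻¹ * ⟨r, hrH⟩⁻¹) = 1
    rw [map_mul, map_mul, map_mul, map_inv, map_inv, hfd0, hfr]
    decide +kernel
  obtain ⟨z, hzR, hz⟩ := S.conj_three hrH hr3 (by
    rw [show d0 * r * d0⁻¹ * (d0 * r * d0⁻¹) * (d0 * r * d0⁻¹) = d0 * (r * r * r) * d0⁻¹ by group,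
      hr3]
    group) hr'R
  set d := z⁻¹ * d0 with hd
  have hdH : d ∈ H := mul_mem (inv_mem (S.R_le hzR)) hd0
  have hdr : d * r = r * d := by
    refine mul_inv_eq_iff_eq_mul.1 ?_
    calc d * r * d⁻¹ = z⁻¹ * (d0 * r * d0⁻¹) * z := by rw [hd]; group
      _ = r := hz
  have hfd : f ⟨d, hdH⟩ = tau := by
    show f (⟨z, S.R_le hzR⟩⁻¹ * ⟨d0, hd0⟩) = tau
    rw [map_mul, map_inv, hfR _ hzR, inv_one, one_mul, hfd0]
  obtain ⟨hrho3, -, htau2, -, htaur, htaus⟩ := rho_facts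
  have hda : d * a * d⁻¹ = a⁻¹ := (hsign ⟨d, hdH⟩).2 (by rw [hfd]; exact htaus)
  have hdcy : ∀ i : ZMod 4, d * φ (i, 0, 0) * d⁻¹ = φ (-i, 0, 0) := fun i => by
    have e : φ (-i, 0, 0) = (φ (i, 0, 0))⁻¹ := by
      refine eq_inv_of_mul_eq_one_left ?_
      rw [← hadd, ← h0]; exact congrArg φ (by simp)
    rw [e, hφ]
    simp only [phi, ZMod.val_zero, pow_zero, mul_one]
    rw [← conj_pow, hda, inv_pow]
  have hdM : d ∉ normalizer (V : Set G) := by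
    intro hdN
    obtain ⟨u, hu⟩ := F.surj _ (S.A_conj hdN (hA e1))
    have e : f ⟨φ u, hHA u⟩ = tau * x * tau := by
      rw [hfeq (hHA u) (mul_mem (mul_mem hdH (hHA e1)) (inv_mem hdH)) hu, hfconj hdH (hHA e1), hfd,
        inv_eq_of_mul_eq_one_right htau2]
    obtain ⟨n1, n2, n3, n4⟩ := tau_not_norm x hX
    rcases hfcases u with h | h | h | h <;> rw [h] at e
    · exact n1 e.symm
    · exact n2 e.symm
    · exact n3 (e.symm.trans hxy)
    · exact n4 (by rw [← hxy]; exact e.symm)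
  set v := d * φ (2, 0, 2) * d⁻¹ with hv
  have hc2 : ((2, 0, 2) : V3) = 2 • ((1, 0, 1) : V3) := by decide
  have hcV : φ (2, 0, 2) ∈ V := hc2 ▸ F.mem_V_even S _
  have hvR : v ∈ R := S.R_conj d hdH _ (S.VR hcV)
  have hvA : v ∉ AA V := by
    intro hvA
    apply hdM
    have hv2 : v * v = 1 := by
      rw [hv, show d * φ (2, 0, 2) * d⁻¹ * (d * φ (2, 0, 2) * d⁻¹) =
        d * (φ (2, 0, 2) * φ (2, 0, 2)) * d⁻¹ by group, S.Vsq _ hcV]
      group
    have hvV := S.Ainv v hvA hv2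
    have hv'V : d * φ (0, 2, 2) * d⁻¹ ∈ V := by
      rw [show ((0, 2, 2) : V3) = LR (2, 0, 2) by decide, hφ, ← F.actR,
        show d * (r * phi a (A1 s a) (A2 s a) (2, 0, 2) * r⁻¹) * d⁻¹ =
          (d * r) * phi a (A1 s a) (A2 s a) (2, 0, 2) * (d * r)⁻¹ by group, hdr,
        show r * d * phi a (A1 s a) (A2 s a) (2, 0, 2) * (r * d)⁻¹ = r * v * r⁻¹ by rw [hv, hφ]; group]
      exact S.V_conj F.rM hvV
    have hdt : d * φ (2, 0, 0) * d⁻¹ ∈ V := by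
      rw [h20, mem_centralizer_singleton_iff.1 hdH, mul_inv_cancel_right]
      exact S.tV
    refine mem_normalizer_fintype fun n hn => ?_
    obtain ⟨u, rfl⟩ := F.surj n (S.V_le_A hn)
    obtain ⟨u', rfl⟩ := F.even_of_sq S u (S.Vsq _ hn)
    have hd2 : ∀ u : V3, 2 • u = (u.1.val + u.2.2.val + u.2.1.val) • ((2, 0, 0) : V3) +
        (u.2.1.val + u.2.2.val) • (2, 0, 2) + u.2.1.val • (0, 2, 2) := by decide
    rw [hd2 u', B.phi_add, B.phi_add, B.phi_nsmul, B.phi_nsmul, B.phi_nsmul]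
    rw [show ∀ p p' p'' : G, d * (p * p' * p'') * d⁻¹ = (d * p * d⁻¹) * (d * p' * d⁻¹) * (d * p'' * d⁻¹)
      from fun p p' p'' => by group, ← conj_pow, ← conj_pow, ← conj_pow]
    exact mul_mem (mul_mem (pow_mem hdt _) (pow_mem hvV _)) (pow_mem hv'V _)
  -- `w` and `d`
  have hwdR : w * d * w⁻¹ * d⁻¹ ∈ R := by
    refine (hk ⟨_, mul_mem (mul_mem (mul_mem hwH hdH) (inv_mem hwH)) (inv_mem hdH)⟩).1 ?_
    show f (⟨w, hwH⟩ * ⟨d, hdH⟩ * ⟨w, hwH⟩⁻¹ * ⟨d, hdH⟩⁻¹) = 1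
    rw [map_mul, map_mul, map_mul, map_inv, map_inv, hfd, ← ho, normaliser_rho o hO.2.1]
    group
  obtain ⟨i, hi⟩ : ∃ i, w * d * w⁻¹ * d⁻¹ = φ (i, 0, 0) := F.centR S hwdR (by
    have e1 : w⁻¹ * r * w = r⁻¹ := by
      calc w⁻¹ * r * w = w⁻¹ * (r⁻¹)⁻¹ * w := by rw [inv_inv]
        _ = w⁻¹ * (w * r * w⁻¹)⁻¹ * w := by rw [F.wr]
        _ = r⁻¹ := by group
    refine mul_inv_eq_iff_eq_mul.1 ?_
    rw [show w * d * w⁻¹ * d⁻¹ * r * (w * d * w⁻¹ * d⁻¹)⁻¹ =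
      w * (d * (w⁻¹ * (d⁻¹ * r * d) * w) * d⁻¹) * w⁻¹ by group,
      show d⁻¹ * r * d = r by rw [mul_assoc, ← hdr, inv_mul_cancel_left], e1,
      show d * r⁻¹ * d⁻¹ = r⁻¹ by
        rw [show d * r⁻¹ * d⁻¹ = (d * r * d⁻¹)⁻¹ by group, hdr, mul_inv_cancel_right],
      show w * r⁻¹ * w⁻¹ = (w * r * w⁻¹)⁻¹ by group, F.wr, inv_inv])
  have hwd : w * d * w⁻¹ = φ (i, 0, 0) * d := by rw [← hi]; group
  have hcR' : ∀ (j : ZMod 4), ∀ p ∈ R, φ (j, 0, 0) * p * (φ (j, 0, 0))⁻¹ = p := fun j p hp => by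
    rw [S.Cy_central _ (hCy' j) p hp, mul_inv_cancel_right]
  have hvw : w * v * w⁻¹ = v := by
    rw [hv, show w * (d * φ (2, 0, 2) * d⁻¹) * w⁻¹ =
        (w * d * w⁻¹) * (w * φ (2, 0, 2) * w⁻¹) * (w * d * w⁻¹)⁻¹ by group, hwd,
      show w * φ (2, 0, 2) * w⁻¹ = φ (2, 0, 2) from (F.actW _).trans (congrArg φ (by decide)),
      show φ (i, 0, 0) * d * φ (2, 0, 2) * (φ (i, 0, 0) * d)⁻¹ = φ (i, 0, 0) * v * (φ (i, 0, 0))⁻¹ by
        rw [hv]; group]
    exact hcR' i v hvR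
  -- the action of `v`
  obtain ⟨b, hb⟩ : ∃ b : Bool, v * φ (2 • e1) * v⁻¹ = φ (2 • e1) * φ (cond b (2, 0, 0) 0) := by
    rcases F.R_on_V S hvR (F.mem_V_even S e1) with h | h
    · exact ⟨false, h.trans (by rw [cond_false, h0, mul_one])⟩
    · exact ⟨true, h.trans (by rw [cond_true, h20])⟩
  obtain ⟨b', hb'⟩ : ∃ b : Bool, v * φ (2 • e2) * v⁻¹ = φ (2 • e2) * φ (cond b (2, 0, 0) 0) := by
    rcases F.R_on_V S hvR (F.mem_V_even S e2) with h | h
    · exact ⟨false, h.trans (by rw [cond_false, h0, mul_one])⟩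
    · exact ⟨true, h.trans (by rw [cond_true, h20])⟩
  have hvact0 : ∀ u, v * φ (2 • u) * v⁻¹ =
      φ (2 • u + (u.2.1 * cond b 2 0 + u.2.2 * cond b' 2 0, 0, 0)) := by
    intro u
    have hd2 : ∀ u : V3, 2 • u = u.1.val • ((2, 0, 0) : V3) + u.2.1.val • (2 • e1) +
        u.2.2.val • (2 • e2) := by decide
    have hd3 : ∀ (u : V3) (b b' : Bool), u.1.val • ((2, 0, 0) : V3) +
        u.2.1.val • (2 • e1 + cond b (2, 0, 0) 0) + u.2.2.val • (2 • e2 + cond b' (2, 0, 0) 0) =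
          2 • u + (u.2.1 * cond b 2 0 + u.2.2 * cond b' 2 0, 0, 0) := by decide +kernel
    have hvt : v * φ (2, 0, 0) * v⁻¹ = φ (2, 0, 0) := by
      rw [h20, mem_centralizer_singleton_iff.1 (S.R_le hvR), mul_inv_cancel_right]
    rw [← hd3 u b b']
    conv_lhs => rw [hd2 u]
    rw [hφ, B.phi_add, B.phi_add, B.phi_nsmul u.1.val, B.phi_nsmul u.2.1.val, B.phi_nsmul u.2.2.val,
      B.phi_add, B.phi_add, B.phi_nsmul u.1.val, B.phi_nsmul u.2.1.val, B.phi_nsmul u.2.2.val,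
      show ∀ p p' p'' : G, v * (p * p' * p'') * v⁻¹ = (v * p * v⁻¹) * (v * p' * v⁻¹) * (v * p'' * v⁻¹)
        from fun p p' p'' => by group, ← conj_pow, ← conj_pow, ← conj_pow, ← hφ, hvt, hb, hb',
      ← hadd, ← hadd]
  have hcomm : ∀ u : V3, LW (2 • u + (u.2.1 * cond b 2 0 + u.2.2 * cond b' 2 0, 0, 0)) =
      LW (2 • u) + ((LW u).2.1 * cond b 2 0 + (LW u).2.2 * cond b' 2 0, 0, 0) := by
    intro u
    have hlin : ∀ u : V3, LW (2 • u) = 2 • LW u := by decide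
    rw [hlin]
    refine F.inj ?_
    show φ _ = φ _
    rw [← hvact0, ← hlin, hφ, ← F.actW, ← F.actW, ← hφ, ← hvact0,
      show v * (w * φ (2 • u) * w⁻¹) * v⁻¹ = (v * w) * φ (2 • u) * (v * w)⁻¹ by group,
      show v * w = w * v from (mul_inv_eq_iff_eq_mul.1 hvw).symm]
    group
  have hvact : ∀ u, v * φ (2 • u) * v⁻¹ = φ (LP (2 • u)) := by
    intro u
    rcases p_act u b b' hcomm with ⟨rfl, rfl⟩ | h
    · exfalso
      apply hvA
      rw [mem_centralizer_iff]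
      intro m hm
      obtain ⟨p, rfl⟩ := F.surj m (S.V_le_A hm)
      obtain ⟨p', rfl⟩ := F.even_of_sq S p (S.Vsq _ hm)
      have h := hvact0 p'
      simp only [cond_false, mul_zero, add_zero, Prod.mk_zero_zero] at h
      exact (mul_inv_eq_iff_eq_mul.1 h).symm
    · rw [hvact0, h]
  -- `w` is an involution
  have hww : w * w = 1 := by
    set g := s * r * s with hg
    set p := g * v * g⁻¹ with hp
    have hgM : g ∈ normalizer (V : Set G) := mul_mem (mul_mem F.sM F.rM) F.sM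
    have hpM : p ∈ normalizer (V : Set G) :=
      mul_mem (mul_mem hgM (F.R_le_M S hvR)) (inv_mem hgM)
    have hs6 : ∀ u, s⁻¹ * φ u * s = φ (LS^[6] u) := fun u => by
      have e : ∀ u, LS (LS^[6] u) = u := by decide +kernel
      have h := F.actS (LS^[6] u)
      rw [e] at h
      rw [hφ, ← h]
      group
    have hr6 : ∀ u, r⁻¹ * φ u * r = φ (LR (LR u)) := fun u => by
      have e : ∀ u, LR (LR (LR u)) = u := by decide +kernel
      have h := F.actR (LR (LR u))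
      rw [e] at h
      rw [hφ, ← h]
      group
    have hlW : ∀ u : V3, LW (2 • u) = 2 • LW u := by decide +kernel
    have hlR : ∀ u : V3, LR (LR (2 • u)) = 2 • LR (LR u) := by decide +kernel
    have hlS : ∀ u : V3, LS^[6] (2 • u) = 2 • LS^[6] u := by decide +kernel
    have hpw : p * w ∈ AA V := by
      rw [mem_centralizer_iff]
      intro m hm
      obtain ⟨q, rfl⟩ := F.surj m (S.V_le_A hm)
      obtain ⟨q', rfl⟩ := F.even_of_sq S q (S.Vsq _ hm)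
      have e : p * w * φ (2 • q') * (p * w)⁻¹ = φ (2 • q') :=
        calc p * w * φ (2 • q') * (p * w)⁻¹
            = s * (r * (s * (v * (s⁻¹ * (r⁻¹ * (s⁻¹ * (w * φ (2 • q') * w⁻¹) * s) * r) * s) * v⁻¹) *
                s⁻¹) * r⁻¹) * s⁻¹ := by rw [hp, hg]; group
          _ = s * (r * (s * (v * (s⁻¹ * (r⁻¹ * (s⁻¹ * φ (LW (2 • q')) * s) * r) * s) * v⁻¹) * s⁻¹) *
                r⁻¹) * s⁻¹ := by rw [show w * φ (2 • q') * w⁻¹ = φ (LW (2 • q')) from F.actW _]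
          _ = s * (r * (s * (v * φ (LS^[6] (LR (LR (LS^[6] (LW (2 • q')))))) * v⁻¹) * s⁻¹) * r⁻¹) *
                s⁻¹ := by rw [hs6, hr6, hs6]
          _ = s * (r * (s * φ (LP (LS^[6] (LR (LR (LS^[6] (LW (2 • q'))))))) * s⁻¹) * r⁻¹) * s⁻¹ := by
            rw [hlW, hlS, hlR, hlS, hvact]
          _ = φ (2 • q') := by
            conv_rhs => rw [← gconj_act q']
            rw [show ∀ u, s * φ u * s⁻¹ = φ (LS u) from F.actS,
              show ∀ u, r * φ u * r⁻¹ = φ (LR u) from F.actR,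
              show ∀ u, s * φ u * s⁻¹ = φ (LS u) from F.actS]
      exact (mul_inv_eq_iff_eq_mul.1 e).symm
    obtain ⟨al, hal⟩ := F.surj _ hpw
    have hp2 : p * p = 1 := by
      rw [hp, hv, show g * (d * φ (2, 0, 2) * d⁻¹) * g⁻¹ * (g * (d * φ (2, 0, 2) * d⁻¹) * g⁻¹) =
        g * (d * (φ (2, 0, 2) * φ (2, 0, 2)) * d⁻¹) * g⁻¹ by group, S.Vsq _ hcV]
      group
    have hi2 : uw.1 = 0 ∨ uw.1 = 2 := by
      have e : φ (uw.1, 0, 0) = φ (-uw.1, 0, 0) := by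
        conv_lhs => rw [← hwwC, show w * w = w * (w * w) * w⁻¹ by group, hwwC, hφ, F.actW,
          show LW (uw.1, 0, 0) = (-uw.1, 0, 0) from by
            generalize uw.1 = j; revert j; decide]
      have hd : ∀ j : ZMod 4, ((j, 0, 0) : V3) = (-j, 0, 0) → j = 0 ∨ j = 2 := by decide
      exact hd _ (F.inj e)
    rcases hi2 with h | h
    · rw [hwwC, h]; exact h0
    · exfalso
      -- `p = φ al * w⁻¹`
      have hpe : p = φ al * w⁻¹ := by rw [hφ, hal, mul_inv_cancel_right]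
      refine no_invol_w al (F.inj ?_)
      have e : φ al * φ (LW al) = w * w := by
        have h1 : φ al * w⁻¹ * (φ al * w⁻¹) = 1 := hpe ▸ hp2
        have hwt : w * w = t := by rw [hwwC, h, h20]
        have hwi : w⁻¹ = t * w := inv_eq_of_mul_eq_one_right (by
          rw [← mem_centralizer_singleton_iff.1 hwH, ← mul_assoc, hwt, htt])
        have hta : t * φ al = φ al * t := (mem_centralizer_singleton_iff.1 (hHA al)).symm
        rw [hwt, hφ, ← F.actW, ← hφ]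
        calc φ al * (w * φ al * w⁻¹)
            = t * t * (φ al * (w * φ al * w⁻¹)) := by rw [htt, one_mul]
          _ = t * ((t * φ al) * w * φ al * w⁻¹) := by group
          _ = t * (φ al * (t * w) * φ al * w⁻¹) := by rw [hta]; group
          _ = t * (φ al * w⁻¹ * (φ al * w⁻¹)) := by rw [← hwi]; group
          _ = t := by rw [h1, mul_one]
      show φ _ = φ 0
      rw [hadd, hadd, e, hwwC, h, ← hadd, h0, ← h0]
      exact congrArg φ (by decide)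
  have hwi : w⁻¹ = w := inv_eq_of_mul_eq_one_right hww
  -- the element of order three and `d²`
  set w' := A1 s a * w * (A1 s a)⁻¹ with hw'
  have h1H : A1 s a ∈ H := he1 ▸ hHA e1
  have hw'H : w' ∈ H := mul_mem (mul_mem h1H hwH) (inv_mem h1H)
  have hfX : f ⟨d * w', mul_mem hdH hw'H⟩ = tau * (x * o * x⁻¹) := by
    rw [hx, hfeq (hHA e1) h1H he1, ho, ← hfconj h1H hwH hw'H, ← hfd, ← map_mul]
    rfl
  obtain ⟨hX3, hXne⟩ := prod_three x hX o hO
  obtain ⟨j0, hj0⟩ : ∃ j, d * d = φ (j, 0, 0) := F.centR S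
    ((hk ⟨d * d, mul_mem hdH hdH⟩).1 (by
      show f (⟨d, hdH⟩ * ⟨d, hdH⟩) = 1
      rw [map_mul, hfd, htau2]))
    (by rw [mul_assoc, hdr, ← mul_assoc, hdr, mul_assoc])
  have hj0' : j0 = 0 ∨ j0 = 2 := by
    have e := hdcy j0
    rw [← hj0, show d * (d * d) * d⁻¹ = d * d by group, hj0] at e
    have hd : ∀ j : ZMod 4, ((j, 0, 0) : V3) = (-j, 0, 0) → j = 0 ∨ j = 2 := by decide
    exact hd _ (F.inj e)
  set X := d * w' with hXdef
  have hXH : X ∈ H := mul_mem hdH hw'H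
  have hX3R : X ^ 3 ∈ R := (hk ⟨_, pow_mem hXH 3⟩).1 (by
    show f (⟨X, hXH⟩ ^ 3) = 1
    rw [map_pow, hfX, hX3])
  obtain ⟨j, hj⟩ : ∃ j, X ^ 3 = φ (j, 0, 0) := by
    obtain ⟨q', hq'⟩ := conj_three (tau * (x * o * x⁻¹))
      (by rw [← hX3]; simp [pow_succ, mul_assoc]) hXne
    obtain ⟨⟨h, hhH⟩, hfh⟩ := hfs q'
    have hy3 : X ^ 4 * X ^ 4 * X ^ 4 = 1 := by
      rw [← pow_add, ← pow_add, show 4 + 4 + 4 = 3 * 4 from rfl, pow_mul]
      exact F.R_pow_four S hX3R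
    have hyR : h * X ^ 4 * h⁻¹ * r⁻¹ ∈ R := by
      refine (hk ⟨_, mul_mem (mul_mem (mul_mem hhH (pow_mem hXH 4)) (inv_mem hhH)) (inv_mem hrH)⟩).1 ?_
      show f (⟨h, hhH⟩ * ⟨X, hXH⟩ ^ 4 * ⟨h, hhH⟩⁻¹ * ⟨r, hrH⟩⁻¹) = 1
      rw [map_mul, map_mul, map_mul, map_inv, map_inv, map_pow, hfX, hfh, hfr, pow_succ, hX3,
        one_mul, hq', mul_inv_cancel]
    obtain ⟨z', hz'R, hz'⟩ := S.conj_three hrH hr3 (r' := h * X ^ 4 * h⁻¹) (by
      rw [show h * X ^ 4 * h⁻¹ * (h * X ^ 4 * h⁻¹) * (h * X ^ 4 * h⁻¹) =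
        h * (X ^ 4 * X ^ 4 * X ^ 4) * h⁻¹ by group, hy3]
      group) hyR
    have hgH : z'⁻¹ * h ∈ H := mul_mem (inv_mem (S.R_le hz'R)) hhH
    obtain ⟨i', hi'⟩ := F.centR S (S.R_conj _ hgH _ hX3R) (by
      conv_lhs => arg 2; rw [← hz']
      conv_rhs => arg 1; rw [← hz']
      group)
    have hm : X ^ 3 ∈ Cy := by
      have e : X ^ 3 = (z'⁻¹ * h)⁻¹ * φ (i', 0, 0) * ((z'⁻¹ * h)⁻¹)⁻¹ := by
        rw [show φ (i', 0, 0) = _ from hi'.symm]; group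
      rw [e]
      exact S.Cy_conj (inv_mem hgH) (hCy' i')
    exact hCy _ hm
  have h1a : A1 s a * a = a * A1 s a := (B.c01).symm
  have hw'a : w' * a * w'⁻¹ = a⁻¹ := by
    rw [hw', show A1 s a * w * (A1 s a)⁻¹ * a * (A1 s a * w * (A1 s a)⁻¹)⁻¹ =
      A1 s a * (w * ((A1 s a)⁻¹ * a * A1 s a) * w⁻¹) * (A1 s a)⁻¹ by group,
      show (A1 s a)⁻¹ * a * A1 s a = a by rw [mul_assoc, ← h1a, inv_mul_cancel_left], F.w_a S,
      show A1 s a * a⁻¹ * (A1 s a)⁻¹ = (A1 s a * a * (A1 s a)⁻¹)⁻¹ by group, h1a,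
      mul_inv_cancel_right]
  have hw'w' : w' * w' = 1 := by
    rw [hw', show A1 s a * w * (A1 s a)⁻¹ * (A1 s a * w * (A1 s a)⁻¹) = A1 s a * (w * w) * (A1 s a)⁻¹
      by group, hww]
    group
  have hw'cy : ∀ i : ZMod 4, w' * φ (i, 0, 0) * w'⁻¹ = φ (-i, 0, 0) := fun i => by
    have e : φ (-i, 0, 0) = (φ (i, 0, 0))⁻¹ := by
      refine eq_inv_of_mul_eq_one_left ?_
      rw [← hadd, ← h0]; exact congrArg φ (by simp)
    rw [e, hφ]
    simp only [phi, ZMod.val_zero, pow_zero, mul_one]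
    rw [← conj_pow, hw'a, inv_pow]
  have hcent : ∀ g ∈ H, φ (j0, 0, 0) * g = g * φ (j0, 0, 0) := by
    intro g hg
    rcases hj0' with rfl | rfl
    · rw [show φ ((0 : ZMod 4), 0, 0) = 1 from h0, one_mul, mul_one]
    · rw [h20]; exact (mem_centralizer_singleton_iff.1 hg).symm
  have hdd : d * d = 1 := by
    have e1 : w' * X * w'⁻¹ = X⁻¹ * φ (j0, 0, 0) := by
      rw [← hj0, hXdef]
      calc w' * (d * w') * w'⁻¹ = w' * d := by group
        _ = w'⁻¹ * d := by rw [inv_eq_of_mul_eq_one_right hw'w']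
        _ = (d * w')⁻¹ * (d * d) := by group
    have e2 : w' * X ^ 3 * w'⁻¹ = (X ^ 3)⁻¹ * φ (j0, 0, 0) := by
      rw [← conj_pow, e1, ((show Commute (φ (j0, 0, 0)) X⁻¹ from hcent _ (inv_mem hXH)).symm).mul_pow,
        inv_pow]
      congr 1
      rcases hj0' with rfl | rfl
      · rw [show φ ((0 : ZMod 4), 0, 0) = 1 from h0, one_pow]
      · rw [h20, pow_succ, pow_two, htt, one_mul]
    rw [hj, hw'cy] at e2
    have e3 : φ (-j, 0, 0) = (φ (j, 0, 0))⁻¹ := by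
      refine eq_inv_of_mul_eq_one_left ?_
      rw [← hadd, ← h0]; exact congrArg φ (by simp)
    rw [e3] at e2
    rw [hj0]
    exact mul_eq_left.1 e2.symm
  -- normalise
  refine ⟨φ (j, 0, 0) * d, ?_⟩
  have hvnew : φ (j, 0, 0) * d * φ (2, 0, 2) * (φ (j, 0, 0) * d)⁻¹ = v := by
    rw [show φ (j, 0, 0) * d * φ (2, 0, 2) * (φ (j, 0, 0) * d)⁻¹ =
      φ (j, 0, 0) * v * (φ (j, 0, 0))⁻¹ by rw [hv]; group]
    exact hcR' j v hvR
  have hdH' : φ (j, 0, 0) * d ∈ H := mul_mem (hHA _) hdH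
  refine ⟨hdH', ?_, ?_, ?_, ?_, ?_, hww, ?_, ?_, ?_, ?_, ?_, ?_⟩
  · have hjr : φ (j, 0, 0) * r = r * φ (j, 0, 0) := by
      have e := F.actR (j, 0, 0)
      have hd : ∀ i : ZMod 4, LR (i, 0, 0) = (i, 0, 0) := by decide
      rw [hd] at e
      exact (mul_inv_eq_iff_eq_mul.1 e).symm
    rw [mul_assoc, hdr, ← mul_assoc, hjr, mul_assoc]
  · rw [show φ (j, 0, 0) * d * a * (φ (j, 0, 0) * d)⁻¹ = φ (j, 0, 0) * (d * a * d⁻¹) * (φ (j, 0, 0))⁻¹
      by group, hda]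
    exact hcR' j _ (inv_mem (S.Cy_le F.aCy))
  · calc φ (j, 0, 0) * d * (φ (j, 0, 0) * d) = φ (j, 0, 0) * (d * φ (j, 0, 0) * d⁻¹) * (d * d) := by
          group
      _ = 1 := by rw [hdcy, hdd, mul_one, ← hadd, ← h0]; exact congrArg φ (by simp)
  · rw [mul_assoc, ← hw', ← hXdef]
    have hcommX : Commute (φ (j, 0, 0)) X := by
      show φ (j, 0, 0) * X = X * φ (j, 0, 0)
      refine (mul_inv_eq_iff_eq_mul.1 ?_).symm
      rw [hXdef, show d * w' * φ (j, 0, 0) * (d * w')⁻¹ = d * (w' * φ (j, 0, 0) * w'⁻¹) * d⁻¹ by group,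
        hw'cy, hdcy, neg_neg]
    rw [hcommX.mul_pow, hj, pow_succ, pow_two, ← hadd, ← hadd, ← hadd, ← h0]
    refine congrArg φ ?_
    have hd : ∀ j : ZMod 4, ((j, 0, 0) : V3) + (j, 0, 0) + (j, 0, 0) + (j, 0, 0) = 0 := by decide
    exact hd j
  · refine ⟨-(i - j) + j + 0, ?_⟩
    have e : w * (φ (j, 0, 0) * d) * w = φ (-j + i, 0, 0) * d := by
      calc w * (φ (j, 0, 0) * d) * w = (w * φ (j, 0, 0) * w⁻¹) * (w * d * w⁻¹) * (w * w) := by group
        _ = _ := by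
          rw [hww, mul_one, hwd, hφ, F.actW, ← hφ, ← mul_assoc, ← hadd]
          congr 2
          have hd : ∀ j i : ZMod 4, LW (j, 0, 0) + ((i, 0, 0) : V3) = (-j + i, 0, 0) := by decide
          exact hd j i
    rw [e]
    conv_rhs =>
      rw [mul_assoc, show d * phi a (A1 s a) (A2 s a) (-(i - j) + j + 0, 0, 0) =
        (d * φ (-(i - j) + j + 0, 0, 0) * d⁻¹) * d by rw [hφ]; group, hdcy, ← mul_assoc, ← hadd]
    congr 2
    have hd : ∀ j i : ZMod 4, ((-j + i, 0, 0) : V3) = (j, 0, 0) + (-(-(i - j) + j + 0), 0, 0) := by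
      decide
    exact hd j i
  · intro h
    refine hdM ?_
    have := mul_mem (inv_mem (S.A_le (hA (j, 0, 0)))) h
    rwa [inv_mul_cancel_left] at this
  · rw [hvnew]; exact hvR
  · rw [hvnew]; exact hvA
  · intro u; rw [hvnew]; exact hvact u
  · rw [hvnew]; exact hvw
  · refine ⟨f, hfs, hk, hrH, hdH', hwH, h1H, hfr, ?_, ?_, ?_⟩
    · show f (⟨φ (j, 0, 0), hHA _⟩ * ⟨d, hdH⟩) = tau
      rw [map_mul, hfR _ (hcR j), one_mul, hfd]
    · rwa [← hfeq (hHA e1) h1H he1, ← hx]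
    · rwa [← hfeq (hHA e1) h1H he1, ← hx, ← ho]

end Cfsg.Agent.Lib.HS60
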