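import Cfsg.Agent.Lib.HS60.Side
import Cfsg.Agent.Lib.Cores.Gaschutz

/-!
# The normaliser of `V` splits over its group of order 64

Owner: helper60.
-/

set_option autoImplicit false
set_option linter.unusedSectionVars false
set_option maxHeartbeats 1000000
set_option maxRecDepth 8000

namespace Cfsg.Agent.Lib.HS60

open Subgroup

variable {G : Type*} [Group G] {t : G} {R Cy V : Subgroup G} {s r w a : G}

/-- A frame whose generators satisfy the relations of `GL(3,2)` exactly. -/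
structure Exact (t : G) (R Cy V : Subgroup G) (s r w a : G) : Prop extends Frame t R Cy V s r w a where
  s7 : s ^ 7 = 1
  rs : r * s * r⁻¹ = s * s
  w2 : w * w = 1
  sw : (s * w) ^ 3 = 1

/-- The action of an element of the dihedral group of order eight. -/
def dAct (i j k : ZMod 2) (u : V3) : V3 :=
  LP^[i.val] ((fun x => LR (LP (LR (LR x))))^[j.val] (LW^[k.val] u))

theorem dAct_even : ∀ i j k : ZMod 2, (∀ u : V3, dAct i j k (2 • u) = 2 • u) → i = 0 ∧ j = 0 ∧ k = 0 := by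
  decide +kernel

theorem Frame.exists_sylow_complement [Finite G] (F : Frame t R Cy V s r w a)
    (S : Setup t R Cy V) : ∃ D : Subgroup G, D ≤ normalizer (V : Set G) ∧ D ⊓ AA V = ⊥ ∧
      Nat.card D = 8 := by
  classical
  obtain ⟨d, Sd⟩ := F.exists_side S
  set φ := phi a (A1 s a) (A2 s a) with hφ
  set v := d * φ (2, 0, 2) * d⁻¹ with hv
  set v' := r * v * r⁻¹ with hv'
  have hadd : ∀ u u', φ (u + u') = φ u * φ u' := (S.base F.sM F.aCy).phi_add
  have h0 : φ 0 = 1 := Base.phi_zero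
  have hdr : d * r = r * d := Sd.dr
  have hv'd : v' = d * φ (0, 2, 2) * d⁻¹ := by
    rw [show ((0, 2, 2) : V3) = LR (2, 0, 2) by decide, hφ, ← F.actR, hv', hv, hφ,
      show r * (d * phi a (A1 s a) (A2 s a) (2, 0, 2) * d⁻¹) * r⁻¹ =
        (r * d) * phi a (A1 s a) (A2 s a) (2, 0, 2) * (r * d)⁻¹ by group, ← hdr]
    group
  have hmulv : ∀ u u', (d * φ u * d⁻¹) * (d * φ u' * d⁻¹) = d * φ (u + u') * d⁻¹ := fun u u' => by
    rw [hadd]; group
  have hvv : v * v = 1 := by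
    rw [hv, hmulv, show ((2, 0, 2) : V3) + (2, 0, 2) = 0 by decide, h0]; group
  have hv'v' : v' * v' = 1 := by
    rw [hv'd, hmulv, show ((0, 2, 2) : V3) + (0, 2, 2) = 0 by decide, h0]; group
  have hcomm : v' * v = v * v' := by rw [hv'd, hv, hmulv, hmulv, add_comm]
  have hr3 : r * r = r⁻¹ := eq_inv_of_mul_eq_one_left F.r_cube
  have hwv : w * v = v * w := mul_inv_eq_iff_eq_mul.1 Sd.vw
  have hwv' : w * v' = v * v' * w := by
    have e1 : r⁻¹ * v * r = v * v' := by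
      rw [hv'd, hv, hmulv, show ((2, 0, 2) : V3) + (0, 2, 2) = LR (LR (2, 0, 2)) by decide, hφ,
        ← F.actR, ← F.actR,
        show d * (r * (r * phi a (A1 s a) (A2 s a) (2, 0, 2) * r⁻¹) * r⁻¹) * d⁻¹ =
          (d * (r * r)) * phi a (A1 s a) (A2 s a) (2, 0, 2) * (d * (r * r))⁻¹ by group, hr3,
        show d * r⁻¹ = r⁻¹ * d by
          rw [eq_inv_mul_iff_mul_eq, ← mul_assoc, ← hdr, mul_inv_cancel_right]]
      group
    calc w * v' = (w * r * w⁻¹) * (w * v * w⁻¹) * (w * r * w⁻¹)⁻¹ * w := by rw [hv']; group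
      _ = r⁻¹ * v * r * w := by rw [F.wr, Sd.vw, inv_inv]
      _ = v * v' * w := by rw [e1]
  let el : ZMod 2 → ZMod 2 → ZMod 2 → G := fun i j k => v ^ i.val * v' ^ j.val * w ^ k.val
  have hel : ∀ i j k i' j' k', ∃ i'' j'' k'', el i j k * el i' j' k' = el i'' j'' k'' := by
    intro i j k i' j' k'
    have h01 : ∀ x : ZMod 2, x = 0 ∨ x = 1 := by decide
    have hc : ∀ m n : ℕ, v' ^ m * v ^ n = v ^ n * v' ^ m := fun m n =>
      ((show Commute v' v from hcomm).pow_pow m n).eq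
    have hwm : ∀ m n : ℕ, ∃ m' n' : ℕ, w * (v ^ m * v' ^ n) = v ^ m' * v' ^ n' * w := fun m n => by
      refine ⟨m + n, n, ?_⟩
      have e1 : w * v ^ m = v ^ m * w := ((show Commute w v from hwv).pow_right m).eq
      have e2 : w * v' ^ n = v ^ n * v' ^ n * w := by
        have h := conj_pow (a := w) (b := v') (i := n)
        rw [show w * v' * w⁻¹ = v * v' by rw [hwv', mul_inv_cancel_right],
          (show Commute v v' from hcomm.symm).mul_pow] at h
        rw [h, inv_mul_cancel_right]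
      rw [← mul_assoc, e1, mul_assoc, e2, pow_add]
      simp only [mul_assoc]
    have hred : ∀ (x : G), x * x = 1 → ∀ n : ℕ, x ^ n = x ^ ((n : ZMod 2)).val := fun x hx n => by
      conv_lhs => rw [← Nat.mod_add_div n 2, pow_add, pow_mul, pow_two, hx, one_pow, mul_one]
      rw [ZMod.val_natCast]
    have hnf : ∀ m n l : ℕ, ∃ i'' j'' k'', v ^ m * v' ^ n * w ^ l = el i'' j'' k'' := fun m n l =>
      ⟨m, n, l, by show _ = v ^ _ * v' ^ _ * w ^ _; rw [← hred v hvv, ← hred v' hv'v', ← hred w Sd.ww]⟩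
    rcases h01 k with rfl | rfl
    · obtain ⟨p, q, l, h⟩ := hnf (i.val + i'.val) (j.val + j'.val) k'.val
      refine ⟨p, q, l, ?_⟩
      rw [← h]
      show v ^ i.val * v' ^ j.val * w ^ (0 : ZMod 2).val * (v ^ i'.val * v' ^ j'.val * w ^ k'.val) = _
      rw [ZMod.val_zero, pow_zero, mul_one, pow_add, pow_add,
        show v ^ i.val * v' ^ j.val * (v ^ i'.val * v' ^ j'.val * w ^ k'.val) =
          v ^ i.val * (v' ^ j.val * v ^ i'.val) * v' ^ j'.val * w ^ k'.val by group, hc]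
      simp only [mul_assoc]
    · obtain ⟨m', n', hw'⟩ := hwm i'.val j'.val
      obtain ⟨p, q, l, h⟩ := hnf (i.val + m') (j.val + n') (1 + k'.val)
      refine ⟨p, q, l, ?_⟩
      rw [← h]
      show v ^ i.val * v' ^ j.val * w ^ (1 : ZMod 2).val * (v ^ i'.val * v' ^ j'.val * w ^ k'.val) = _
      rw [show (1 : ZMod 2).val = 1 from rfl, pow_one,
        show v ^ i.val * v' ^ j.val * w * (v ^ i'.val * v' ^ j'.val * w ^ k'.val) =
          v ^ i.val * v' ^ j.val * (w * (v ^ i'.val * v' ^ j'.val)) * w ^ k'.val by group, hw',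
        pow_add, pow_add, pow_add, pow_one,
        show v ^ i.val * v' ^ j.val * (v ^ m' * v' ^ n' * w) * w ^ k'.val =
          v ^ i.val * (v' ^ j.val * v ^ m') * v' ^ n' * w * w ^ k'.val by group, hc]
      simp only [mul_assoc]
  have hfin : ∀ g : G, (g ∈ Set.range fun p : ZMod 2 × ZMod 2 × ZMod 2 => el p.1 p.2.1 p.2.2) ↔
      ∃ i j k, g = el i j k := fun g =>
    ⟨fun ⟨p, hp⟩ => ⟨p.1, p.2.1, p.2.2, hp.symm⟩, fun ⟨i, j, k, h⟩ => ⟨(i, j, k), h.symm⟩⟩
  let M0 : Submonoid G :=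
    { carrier := {g | ∃ i j k, g = el i j k}
      one_mem' := ⟨0, 0, 0, by simp [el]⟩
      mul_mem' := by
        rintro _ _ ⟨i, j, k, rfl⟩ ⟨i', j', k', rfl⟩
        exact hel i j k i' j' k' }
  let D : Subgroup G :=
    { M0 with
      inv_mem' := fun {g} hg => by
        have h : g⁻¹ = g ^ (orderOf g - 1) := inv_eq_of_mul_eq_one_right (by
          rw [← pow_succ', Nat.sub_add_cancel (orderOf_pos g), pow_orderOf_eq_one])
        show g⁻¹ ∈ M0
        rw [h]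
        exact M0.pow_mem hg _ }
  have hvM : v ∈ normalizer (V : Set G) := F.R_le_M S Sd.vR
  have hv'M : v' ∈ normalizer (V : Set G) := mul_mem (mul_mem F.rM hvM) (inv_mem F.rM)
  have helM : ∀ i j k, el i j k ∈ normalizer (V : Set G) := fun i j k =>
    mul_mem (mul_mem (pow_mem hvM _) (pow_mem hv'M _)) (pow_mem F.wM _)
  have hact : ∀ i j k u, el i j k * φ (2 • u) * (el i j k)⁻¹ = φ (dAct i j k (2 • u)) := by
    intro i j k u
    have h01 : ∀ x : ZMod 2, x = 0 ∨ x = 1 := by decide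
    have hlW : ∀ u : V3, LW (2 • u) = 2 • LW u := by decide +kernel
    have hlR : ∀ u : V3, LR (LR (2 • u)) = 2 • LR (LR u) := by decide +kernel
    have hlR1 : ∀ u : V3, LR (LP (2 • u)) = 2 • LR (LP u) := by decide +kernel
    have hr' : ∀ u, r⁻¹ * φ u * r = φ (LR (LR u)) := fun u => by
      have e : ∀ u, LR (LR (LR u)) = u := by decide +kernel
      have h := F.actR (LR (LR u))
      rw [e] at h
      rw [hφ, ← h]; group
    have hav' : ∀ u, v' * φ (2 • u) * v'⁻¹ = φ (LR (LP (LR (LR (2 • u))))) := fun u => by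
      rw [hv', show r * v * r⁻¹ * φ (2 • u) * (r * v * r⁻¹)⁻¹ = r * (v * (r⁻¹ * φ (2 • u) * r) * v⁻¹) * r⁻¹
        by group, hr', hlR, hv, hφ, Sd.vact, F.actR, ← hlR]
    have e : el i j k * φ (2 • u) * (el i j k)⁻¹ =
        v ^ i.val * (v' ^ j.val * (w ^ k.val * φ (2 • u) * (w ^ k.val)⁻¹) * (v' ^ j.val)⁻¹) *
          (v ^ i.val)⁻¹ := by show _ = _; simp only [el]; group
    rw [e]
    have h1 : ∃ u1, dAct 0 0 k (2 • u) = 2 • u1 ∧
        w ^ k.val * φ (2 • u) * (w ^ k.val)⁻¹ = φ (2 • u1) := by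
      rcases h01 k with rfl | rfl
      · exact ⟨u, rfl, by simp⟩
      · refine ⟨LW u, hlW u, ?_⟩
        rw [show (1 : ZMod 2).val = 1 from rfl, pow_one, hφ, F.actW, hlW]
    obtain ⟨u1, hu1, e1⟩ := h1
    rw [e1]
    have h2 : ∃ u2, dAct 0 j k (2 • u) = 2 • u2 ∧
        v' ^ j.val * φ (2 • u1) * (v' ^ j.val)⁻¹ = φ (2 • u2) := by
      rcases h01 j with rfl | rfl
      · exact ⟨u1, hu1, by simp⟩
      · refine ⟨LR (LP (LR (LR u1))), ?_, ?_⟩
        · show LR (LP (LR (LR (dAct 0 0 k (2 • u))))) = _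
          rw [hu1, hlR, hlR1]
        · rw [show (1 : ZMod 2).val = 1 from rfl, pow_one, hav', hlR, hlR1]
    obtain ⟨u2, hu2, e2⟩ := h2
    rw [e2]
    rcases h01 i with rfl | rfl
    · rw [hu2]; simp
    · rw [show (1 : ZMod 2).val = 1 from rfl, pow_one, hv, hφ, Sd.vact,
        show dAct 1 j k (2 • u) = LP (dAct 0 j k (2 • u)) from rfl, hu2]
  have htriv : ∀ i j k, el i j k ∈ AA V → i = 0 ∧ j = 0 ∧ k = 0 := by
    intro i j k h
    refine dAct_even i j k fun u => F.inj ?_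
    show φ _ = φ _
    rw [← hact]
    exact Setup.act_of_mem h (F.mem_A S _) S
  refine ⟨D, fun g hg => ?_, eq_bot_iff.2 fun g hg => ?_, ?_⟩
  · obtain ⟨i, j, k, rfl⟩ := hg
    exact helM i j k
  · obtain ⟨⟨i, j, k, rfl⟩, h⟩ := hg
    obtain ⟨rfl, rfl, rfl⟩ := htriv i j k h
    simp [el]
  · let g : ZMod 2 × ZMod 2 × ZMod 2 → D := fun p => ⟨el p.1 p.2.1 p.2.2, p.1, p.2.1, p.2.2, rfl⟩
    have hg : Function.Bijective g := by
      refine ⟨fun p q hpq => ?_, fun x => ?_⟩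
      swap
      · obtain ⟨i, j, k, hx⟩ := x.2
        exact ⟨(i, j, k), Subtype.ext hx.symm⟩
      obtain ⟨i, j, k⟩ := p
      obtain ⟨i', j', k'⟩ := q
      have he : el i j k = el i' j' k' := congrArg Subtype.val hpq
      have hd : ∀ i j k i' j' k' : ZMod 2,
          (∀ u : V3, dAct i j k (2 • u) = dAct i' j' k' (2 • u)) → i = i' ∧ j = j' ∧ k = k' := by
        decide +kernel
      obtain ⟨rfl, rfl, rfl⟩ := hd i j k i' j' k' fun u => F.inj (by
        show φ _ = φ _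
        rw [← hact, ← hact, he])
      rfl
    rw [← Nat.card_eq_of_bijective g hg, Nat.card_prod, Nat.card_prod, Nat.card_zmod]

theorem Setup.exists_exact [Finite G] (S : Setup t R Cy V) : ∃ s r w a, Exact t R Cy V s r w a := by
  classical
  obtain ⟨s, r, w, a, F⟩ := S.exists_frame
  obtain ⟨D, hDM, hDA, hD⟩ := F.exists_sylow_complement S
  set M := normalizer (V : Set G) with hM
  set K : Subgroup M := (AA V).subgroupOf M with hK
  haveI hKn : K.Normal := ⟨fun n hn g => mem_subgroupOf.2 (S.A_conj g.2 (mem_subgroupOf.1 hn))⟩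
  haveI : IsMulCommutative K := ⟨⟨fun x y => Subtype.ext (Subtype.ext
    (S.Acomm _ (mem_subgroupOf.1 x.2) _ (mem_subgroupOf.1 y.2)))⟩⟩
  have hKc : Nat.card K = 64 := by
    rw [hK, Nat.card_congr (subgroupOfEquivOfLe S.A_le).toEquiv, S.cardA]
  set D' : Subgroup M := D.subgroupOf M with hD'
  have hdisj : D' ⊓ K = ⊥ := eq_bot_iff.2 fun x hx => by
    have h : (x : G) ∈ D ⊓ AA V := ⟨mem_subgroupOf.1 hx.1, mem_subgroupOf.1 hx.2⟩
    rw [hDA, mem_bot] at h
    exact mem_bot.2 (Subtype.ext h)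
  have hidx : (K ⊔ D').index = 21 := by
    have hq : Nat.card (M ⧸ K) = 168 := by
      have h := card_eq_card_quotient_mul_card_subgroup K
      rw [hKc, S.cardM] at h
      omega
    let π : D' →* M ⧸ K := (QuotientGroup.mk' K).comp D'.subtype
    have hπ : Function.Injective π := (injective_iff_map_eq_one π).2 fun x hx => by
      have hx' : (x : M) ∈ D' ⊓ K := ⟨x.2, (QuotientGroup.eq_one_iff _).1 hx⟩
      rw [hdisj, mem_bot] at hx'
      exact Subtype.ext hx'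
    have hcard : Nat.card (D'.map (QuotientGroup.mk' K)) = 8 := by
      rw [show D'.map (QuotientGroup.mk' K) = π.range by
        rw [MonoidHom.range_eq_map, ← Subgroup.map_map, ← MonoidHom.range_eq_map, Subgroup.range_subtype],
        ← Nat.card_congr (π.ofInjective hπ).toEquiv, Nat.card_congr (subgroupOfEquivOfLe hDM).toEquiv,
        hD]
    rw [← QuotientGroup.comap_map_mk' K D', index_comap_of_surjective _ (QuotientGroup.mk'_surjective K)]
    have h := card_mul_index (D'.map (QuotientGroup.mk' K))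
    rw [hcard, hq] at h
    omega
  obtain ⟨C, hC⟩ := Lib.Cores.Gaschutz.exists_complement (K := K) (U := K ⊔ D') (A := D')
    le_sup_left (by rw [hKc, hidx]; norm_num) hdisj rfl
  have hproj : ∀ g, g ∈ M → ∃ α ∈ AA V, ∃ (h : α * g ∈ M), (⟨α * g, h⟩ : M) ∈ C := by
    intro g hg
    have htop : (⟨g, hg⟩ : M) ∈ K ⊔ C := hC.sup_eq_top ▸ mem_top _
    obtain ⟨k, hk, c, hc, hkc⟩ := mem_sup_of_normal_left.1 htop
    refine ⟨(k : G)⁻¹, inv_mem (mem_subgroupOf.1 hk), mul_mem (inv_mem k.2) hg, ?_⟩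
    have e : (⟨(k : G)⁻¹ * g, mul_mem (inv_mem k.2) hg⟩ : M) = c := Subtype.ext (by
      show (k : G)⁻¹ * g = c
      rw [show g = (k : G) * c from (congrArg Subtype.val hkc).symm, inv_mul_cancel_left])
    rw [e]; exact hc
  have htriv : ∀ x, x ∈ AA V → (∃ h : x ∈ M, (⟨x, h⟩ : M) ∈ C) → x = 1 := by
    rintro x hx ⟨h, hxC⟩
    have h2 : (⟨x, h⟩ : M) ∈ K ⊓ C := ⟨mem_subgroupOf.2 hx, hxC⟩
    rw [hC.disjoint.eq_bot, mem_bot] at h2
    exact congrArg Subtype.val h2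
  obtain ⟨α, hα, hsM, hsC⟩ := hproj s F.sM
  obtain ⟨β, hβ, hrM, hrC⟩ := hproj r F.rM
  obtain ⟨γ, hγ, hwM, hwC⟩ := hproj w F.wM
  -- relations modulo `A`
  let q : M →* M ⧸ K := QuotientGroup.mk' K
  have hq1 : ∀ x : M, q x = 1 ↔ (x : G) ∈ AA V := fun x =>
    (QuotientGroup.eq_one_iff x).trans mem_subgroupOf
  have hqmul : ∀ (g : G) (hg : g ∈ M) (al : G) (h : al * g ∈ M), al ∈ AA V →
      q ⟨al * g, h⟩ = q ⟨g, hg⟩ := fun g hg al h hal => by
    rw [show (⟨al * g, h⟩ : M) = ⟨al, S.A_le hal⟩ * ⟨g, hg⟩ from rfl, map_mul,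
      (hq1 ⟨al, S.A_le hal⟩).2 hal, one_mul]
  have hkill : ∀ x : M, x ∈ C → q x = 1 → x = 1 := fun x hxC hx =>
    Subtype.ext (htriv x ((hq1 x).1 hx) ⟨x.2, hxC⟩)
  set s' := α * s with hs'
  set r' := β * r with hr'
  set w' := γ * w with hw'
  have hs : q ⟨s', hsM⟩ = q ⟨s, F.sM⟩ := hqmul s F.sM α hsM hα
  have hr : q ⟨r', hrM⟩ = q ⟨r, F.rM⟩ := hqmul r F.rM β hrM hβ
  have hw : q ⟨w', hwM⟩ = q ⟨w, F.wM⟩ := hqmul w F.wM γ hwM hγ
  have E1 : (⟨s', hsM⟩ : M) ^ 7 = 1 := hkill _ (pow_mem hsC 7) (by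
    rw [map_pow, hs, ← map_pow]; exact (hq1 _).2 F.ms)
  have E2 : (⟨r', hrM⟩ : M) * ⟨r', hrM⟩ * ⟨r', hrM⟩ = 1 :=
    hkill _ (mul_mem (mul_mem hrC hrC) hrC) (by
      rw [map_mul, map_mul, hr, ← map_mul, ← map_mul]
      exact (hq1 _).2 (by
        show r * r * r ∈ AA V
        rw [F.r_cube]; exact one_mem _))
  have E3 : (⟨r', hrM⟩ : M) * ⟨s', hsM⟩ * ⟨r', hrM⟩⁻¹ * (⟨s', hsM⟩ * ⟨s', hsM⟩)⁻¹ = 1 :=
    hkill _ (mul_mem (mul_mem (mul_mem hrC hsC) (inv_mem hrC)) (inv_mem (mul_mem hsC hsC))) (by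
      simp only [map_mul, map_inv, hr, hs]
      simp only [← map_mul, ← map_inv]
      exact (hq1 _).2 F.mrs)
  have E4 : (⟨w', hwM⟩ : M) * ⟨w', hwM⟩ = 1 := hkill _ (mul_mem hwC hwC) (by
    rw [map_mul, hw, ← map_mul]; exact (hq1 _).2 F.mww)
  have E5 : (⟨w', hwM⟩ : M) * ⟨r', hrM⟩ * ⟨w', hwM⟩⁻¹ * ⟨r', hrM⟩ = 1 :=
    hkill _ (mul_mem (mul_mem (mul_mem hwC hrC) (inv_mem hwC)) hrC) (by
      simp only [map_mul, map_inv, hr, hw]
      simp only [← map_mul, ← map_inv]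
      exact (hq1 _).2 (by
        show w * r * w⁻¹ * r ∈ AA V
        rw [F.wr, inv_mul_cancel]; exact one_mem _))
  have E6 : ((⟨s', hsM⟩ : M) * ⟨w', hwM⟩) ^ 3 = 1 := hkill _ (pow_mem (mul_mem hsC hwC) 3) (by
    rw [map_pow, map_mul, hs, hw, ← map_mul, ← map_pow]; exact (hq1 _).2 F.msw)
  -- the new chart is the old one
  have hA1 : A1 s' a = A1 s a := by
    rw [hs', A1, show α * s * a * (α * s)⁻¹ = α * (s * a * s⁻¹) * α⁻¹ by group]
    exact act_of_mem hα (S.A_conj F.sM (S.Cy_le_A F.aCy)) S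
  have hA2 : A2 s' a = A2 s a := by
    rw [A2, A2, show s' * a * s'⁻¹ = A1 s a from hA1, hs',
      show α * s * A1 s a * (α * s)⁻¹ = α * (s * A1 s a * s⁻¹) * α⁻¹ by group]
    exact act_of_mem hα (S.A_conj F.sM (S.A_conj F.sM (S.Cy_le_A F.aCy))) S
  have hact : ∀ (al g : G) (L : V3 → V3), al ∈ AA V → g ∈ M →
      (∀ v, g * phi a (A1 s a) (A2 s a) v * g⁻¹ = phi a (A1 s a) (A2 s a) (L v)) →
      ∀ v, (al * g) * phi a (A1 s' a) (A2 s' a) v * (al * g)⁻¹ = phi a (A1 s' a) (A2 s' a) (L v) := by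
    intro al g L hal hg h v
    rw [hA1, hA2, show al * g * phi a (A1 s a) (A2 s a) v * (al * g)⁻¹ =
      al * (g * phi a (A1 s a) (A2 s a) v * g⁻¹) * al⁻¹ by group, h]
    exact act_of_mem hal (F.mem_A S _) S
  have e1 := congrArg Subtype.val E1
  have e2 := congrArg Subtype.val E2
  have e3 := congrArg Subtype.val E3
  have e4 := congrArg Subtype.val E4
  have e5 := congrArg Subtype.val E5
  have e6 := congrArg Subtype.val E6
  simp only [Subgroup.coe_mul, Subgroup.coe_inv, SubmonoidClass.coe_pow, Subgroup.coe_one] at e1 e2 e3 e4 e5 e6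
  refine ⟨s', r', w', a,
    ⟨⟨hsM, hrM, hwM, F.aCy, F.ha4, F.haa, ?_, ?_, hact α s LS hα F.sM F.actS,
      hact β r LR hβ F.rM F.actR, hact γ w LW hγ F.wM F.actW, e2, eq_inv_of_mul_eq_one_left e5,
      ?_, ?_, ?_, ?_⟩, e1, mul_inv_eq_one.1 e3, e4, e6⟩⟩
  · rw [hA1, hA2]; exact F.inj
  · rw [hA1, hA2]; exact F.surj
  · rw [e1]; exact one_mem _
  · rw [e3]; exact one_mem _
  · rw [e4]; exact one_mem _
  · rw [e6]; exact one_mem _

end Cfsg.Agent.Lib.HS60
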