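import Cfsg.Agent.Lib.HS60.MTable
import Cfsg.Agent.Lib.CosetEnum.HSK0.Enum
import Cfsg.Agent.Lib.CosetEnum.HSK1.Enum
import Cfsg.Agent.Lib.CosetEnum.HSK3.Enum

/-!
# Generators `s, r, w, a, d` with all their relations

Owner: helper60.
-/

set_option autoImplicit false
set_option linter.unusedSectionVars false
set_option maxRecDepth 8000
set_option maxHeartbeats 1000000

namespace Cfsg.Agent.Lib.HS60

open Subgroup Cfsg.Agent.Lib.CosetEnum Cfsg.Agent.Lib.ExactCover

variable {G : Type*} [Group G] {t : G} {R Cy V : Subgroup G} {s r w a : G}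

/-- The relators of the amalgam. -/
def R0Rel : List (List ℕ) := MRel ++ DRel 2

theorem alpha_unique : ∀ x : V3, x + LP x = 0 → LR (LR x) = x + LP (LR x) → LW x = x →
    x = 0 ∨ x = (0, 0, 2) := by decide +kernel

theorem p_invol_check : eqM (pW ++ pW) [] = true := by decide +kernel

theorem p_conj_check : eqM (conjW [2, 2] pW) (pW ++ conjW [2] pW) = true := by decide +kernel

theorem w_p_check : eqM ([4] ++ pW) (pW ++ [4]) = true := by decide +kernel

theorem p_act_check : (eqM (conjW pW a1W) (vecW 3 3 2) && eqM (conjW pW a2W) (vecW 0 0 3) &&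
    eqM (conjW pW [6]) (vecW 1 0 0)) = true := by decide +kernel

theorem tw_cube_check : eqM (powW [0, 6, 6, 4] 3) [] = true := by decide +kernel

theorem p_swap_check : eqM ([0, 0, 6, 6, 4, 1, 3]) (vecW 0 0 2 ++ pW) = true := by decide +kernel

/-- The data of the amalgam in `G`. -/
structure Gens (t : G) (R Cy V : Subgroup G) (s r w a d : G) : Prop where
  exact_M : Exact t R Cy V s r w a
  dH : d ∈ centralizer ({t} : Set G)
  dM : d ∉ normalizer (V : Set G)
  rel : ∀ l ∈ R0Rel, ev (lett s r w a d) l = 1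
  exists_f : ∃ f : centralizer ({t} : Set G) →* S5, Function.Surjective f ∧
    (∀ x, f x = 1 ↔ (x : G) ∈ R) ∧ ∃ (hr : r ∈ centralizer ({t} : Set G))
      (hd : d ∈ centralizer ({t} : Set G)) (hw : w ∈ centralizer ({t} : Set G))
      (h1 : A1 s a ∈ centralizer ({t} : Set G)),
      f ⟨r, hr⟩ = rho ∧ f ⟨d, hd⟩ = tau ∧ XCond (f ⟨A1 s a, h1⟩) ∧
        OCond (f ⟨A1 s a, h1⟩) (f ⟨w, hw⟩)

theorem false_of_collapse {RR : List (List ℕ)} {IV : ℕ} {RL : List (List ℕ)} {T : PTree} {s r w a d : G}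
    {M : Subgroup G}
    (he : Enumerated (stdLetters 5 IV RL RR) (relSet 5 RR)
      (subOf (stdLetters 5 IV RL RR) (relSet 5 RR)
        [[0], [2], [4], [6]]) 1 T)
    (hlt : ∀ l ∈ RR, ∀ g ∈ l, g < 10)
    (hrel : ∀ l ∈ RR, ev (lett s r w a d) l = 1)
    (hM : s ∈ M ∧ r ∈ M ∧ w ∈ M ∧ a ∈ M) (hd : d ∉ M) : False := by
  obtain ⟨F, hF, -⟩ := exists_hom (G := G) RR ![s, r, w, a, d] (lett s r w a d)
    (fun i => by fin_cases i <;> exact ⟨rfl, rfl⟩) hlt hrel
  have htop := Subgroup.index_eq_one.1 he.index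
  rw [subOf_eq (n := 5) (R := RR) (by decide)] at htop
  apply hd
  have hle : (closure {x | ∃ l ∈ [[0], [2], [4], [6]], el (n := 5) RR l = x}).map F ≤ M := by
    rw [MonoidHom.map_closure, closure_le]
    rintro _ ⟨_, ⟨l, hl, rfl⟩, rfl⟩
    have e : F (el (n := 5) RR l) = ev (lett s r w a d) l := hF l (by
      simp only [List.mem_cons, List.not_mem_nil, or_false] at hl
      rcases hl with rfl | rfl | rfl | rfl <;> simp)
    rw [e]
    simp only [List.mem_cons, List.not_mem_nil, or_false] at hl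
    obtain ⟨h1, h2, h3, h4⟩ := hM
    rcases hl with rfl | rfl | rfl | rfl <;> rw [ev_single] <;> assumption
  refine hle ⟨PresentedGroup.mk _ (word 5 [8]), htop ▸ mem_top _, ?_⟩
  rw [hF [8] (by simp), ev_single]
  rfl

theorem drel {s r w a d : G} (S : Setup t R Cy V) (E : Exact t R Cy V s r w a) (k : ℕ)
    (dd : d * d = 1) (dr : d * r = r * d) (da : d * a * d⁻¹ = a⁻¹)
    (dc : d * phi a (A1 s a) (A2 s a) (2, 0, 2) * d⁻¹ = ev (lett s r w a d) pW)
    (wd : w * d * w = d * a ^ k) (cube : (d * (A1 s a * w * (A1 s a)⁻¹)) ^ 3 = 1) :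
    ∀ l ∈ DRel k, ev (lett s r w a d) l = 1 := by
  intro l hl
  simp only [DRel, List.mem_cons, List.not_mem_nil, or_false] at hl
  rcases hl with rfl | rfl | rfl | rfl | rfl | rfl
  · rw [ev_powW, ev_single]; show d ^ 2 = 1; rw [pow_two, dd]
  · refine red_eq_one s r w a d (by decide) ?_
    rw [ev_conj1 _ _ _ _ _ _ (by norm_num), ev_single]
    exact mul_inv_eq_iff_eq_mul.2 dr
  · refine red_eq_one s r w a d (by decide) ?_
    rw [ev_conj1 _ _ _ _ _ _ (by norm_num), ev_single, ev_single]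
    exact da
  · refine red_eq_one s r w a d (by decide) ?_
    rw [ev_conj1 _ _ _ _ _ _ (by norm_num), cW, ev_vecW]
    exact dc
  · rw [ev_red, ev_eqW _ _ _ _ _ (fun g hg => ?_)]
    · rw [ev_cons, ev_cons, ev_single, ev_cons, ev_powW, ev_single, ← mul_assoc]
      exact wd
    · rw [List.mem_cons] at hg
      rcases hg with rfl | hg
      · norm_num
      · have : ∀ n, ∀ g ∈ powW [6] n, g = 6 := fun n => by
          induction n with
          | zero => simp [powW]
          | succ n ih =>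
            intro g hg
            rw [powW, List.mem_append, List.mem_singleton] at hg
            exact hg.elim id (ih g)
        rw [this k g hg]; norm_num
  · rw [ev_red, ev_powW, ev_cons, ev_conjW _ _ _ _ _ (by decide), ev_single, ev_a1W]
    exact cube

theorem Setup.exists_gens [Finite G] (S : Setup t R Cy V) : ∃ s r w a d, Gens t R Cy V s r w a d := by
  classical
  obtain ⟨s, r, w, a, E⟩ := S.exists_exact
  obtain ⟨d, Sd⟩ := E.toFrame.exists_side S
  have F := E.toFrame
  have B := S.base F.sM F.aCy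
  set φ := phi a (A1 s a) (A2 s a) with hφ
  have hrel := E.mrel S d
  set p := ev (lett s r w a d) pW with hp
  have hM : ∀ {l l' : List ℕ}, eqM l l' = true → ev (lett s r w a d) l = ev (lett s r w a d) l' :=
    fun h => eq_of_eqM hrel h
  have hpp : p * p = 1 := by have h := hM p_invol_check; rwa [ev_append, ev_nil] at h
  have hwp : w * p = p * w := by
    have h := hM w_p_check
    rwa [ev_append, ev_append, ev_single] at h
  have hpr : r * r * p * (r * r)⁻¹ = p * (r * p * r⁻¹) := by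
    have h := hM p_conj_check
    rw [ev_conjW _ _ _ _ _ (by decide), ev_append, ev_conjW _ _ _ _ _ (by decide), ev_single,
      ev_cons, ev_single] at h
    exact h
  have hpact : ∀ u, p * φ u * p⁻¹ = φ (LP u) := by
    have hc := p_act_check
    simp only [Bool.and_eq_true] at hc
    have h1 := hM hc.1.1
    have h2 := hM hc.1.2
    have h0 := hM hc.2
    rw [ev_conjW _ _ _ _ _ (by decide), ev_a1W, ev_vecW] at h1
    rw [ev_conjW _ _ _ _ _ (by decide), ev_a2W, ev_vecW] at h2
    rw [ev_conjW _ _ _ _ _ (by decide), ev_single, ev_vecW] at h0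
    exact B.conj_phi (c0 := e0) h0 (h1.trans rfl) (h2.trans rfl)
  set v := d * φ (2, 0, 2) * d⁻¹ with hv
  have hpM : p ∈ normalizer (V : Set G) := E.mem_M S d (by decide)
  have hvM : v ∈ normalizer (V : Set G) := F.R_le_M S Sd.vR
  have hA : ∀ u, φ u ∈ AA V := F.mem_A S
  have hvp : v * p⁻¹ ∈ AA V := by
    rw [mem_centralizer_iff]
    intro m hm
    obtain ⟨q, rfl⟩ := F.surj m (S.V_le_A hm)
    obtain ⟨q', rfl⟩ := F.even_of_sq S q (S.Vsq _ hm)
    have hpi : p⁻¹ = p := inv_eq_of_mul_eq_one_right hpp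
    have hl : ∀ u : V3, LP (2 • u) = 2 • LP u := by decide +kernel
    have hll : ∀ u : V3, LP (2 • LP u) = 2 • u := by decide +kernel
    have e : v * p⁻¹ * φ (2 • q') * (v * p⁻¹)⁻¹ = φ (2 • q') := by
      rw [show v * p⁻¹ * φ (2 • q') * (v * p⁻¹)⁻¹ = v * (p⁻¹ * φ (2 • q') * (p⁻¹)⁻¹) * v⁻¹ by group,
        hpi, hpact, hl, hv, hφ, Sd.vact, hll]
    exact (mul_inv_eq_iff_eq_mul.1 e).symm
  obtain ⟨α, hα⟩ := F.surj _ hvp
  have hvα : v = φ α * p := by rw [hφ, hα, inv_mul_cancel_right]
  have hinjφ : ∀ {u u'}, φ u = φ u' → u = u' := fun h => F.inj h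
  have hadd : ∀ u u', φ (u + u') = φ u * φ u' := B.phi_add
  have h0 : φ 0 = 1 := Base.phi_zero
  have hvv : v * v = 1 := by
    rw [hv, show d * φ (2, 0, 2) * d⁻¹ * (d * φ (2, 0, 2) * d⁻¹) =
      d * (φ (2, 0, 2) * φ (2, 0, 2)) * d⁻¹ by group, ← hadd,
      show ((2, 0, 2) : V3) + (2, 0, 2) = 0 by decide, h0]
    group
  have c1 : α + LP α = 0 := hinjφ (by
    rw [hadd, h0, ← hpact]
    calc φ α * (p * φ α * p⁻¹) = φ α * p * (φ α * p) * (p * p)⁻¹ := by group
      _ = 1 := by rw [← hvα, hvv, hpp, inv_one, mul_one])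
  have c3 : LW α = α := hinjφ (by
    have h := Sd.vw
    rw [← hφ, ← hv, hvα, show w * (φ α * p) * w⁻¹ = (w * φ α * w⁻¹) * (w * p * w⁻¹) by group, hφ,
      E.actW, hwp, mul_inv_cancel_right] at h
    exact mul_right_cancel h)
  have c2 : LR (LR α) = α + LP (LR α) := hinjφ (by
    have e1 : r * r * v * (r * r)⁻¹ = v * (r * v * r⁻¹) := by
      have hdrr : ∀ u, r * (d * φ u * d⁻¹) * r⁻¹ = d * φ (LR u) * d⁻¹ := fun u => by
        rw [show r * (d * φ u * d⁻¹) * r⁻¹ = (r * d) * φ u * (r * d)⁻¹ by group, ← Sd.dr,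
          show d * r * φ u * (d * r)⁻¹ = d * (r * φ u * r⁻¹) * d⁻¹ by group, hφ, E.actR]
      rw [show r * r * v * (r * r)⁻¹ = r * (r * v * r⁻¹) * r⁻¹ by group, hv, hdrr, hdrr,
        show d * φ (2, 0, 2) * d⁻¹ * (d * φ (LR (2, 0, 2)) * d⁻¹) =
          d * (φ (2, 0, 2) * φ (LR (2, 0, 2))) * d⁻¹ by group, ← hadd,
        show LR (LR (2, 0, 2)) = (2, 0, 2) + LR (2, 0, 2) by decide]
    rw [hvα] at e1
    rw [show r * r * (φ α * p) * (r * r)⁻¹ = (r * (r * φ α * r⁻¹) * r⁻¹) * (r * r * p * (r * r)⁻¹)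
      by group, hpr, hφ, E.actR, E.actR,
      show phi a (A1 s a) (A2 s a) α * p * (r * (phi a (A1 s a) (A2 s a) α * p) * r⁻¹) =
        phi a (A1 s a) (A2 s a) α * (p * (r * phi a (A1 s a) (A2 s a) α * r⁻¹) * p⁻¹) *
          (p * (r * p * r⁻¹)) by group, E.actR, ← hφ, hpact] at e1
    rw [hadd]
    exact mul_right_cancel e1)
  obtain ⟨k0, hk⟩ := Sd.wd
  set k : ℕ := k0.val with hkdef
  have hk' : w * d * w = d * a ^ k := by
    rw [hk]
    simp [phi, hkdef]
  have haa : a * a = t := F.haa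
  have hφ2 : φ (0, 0, 2) = ev (lett s r w a d) (vecW 0 0 2) := by
    rw [ev_vecW, hφ]; rfl
  have htc : ∀ g ∈ centralizer ({t} : Set G), t * g = g * t := fun g hg =>
    (mem_centralizer_singleton_iff.1 hg).symm
  have h1H : A1 s a ∈ centralizer ({t} : Set G) :=
    S.A_le_H (S.A_conj F.sM (S.Cy_le_A F.aCy))
  have hwH := F.w_H S
  -- exclusion of the wrong values of `k`
  have hfin : ∀ {w d : G}, Exact t R Cy V s r w a → d ∉ normalizer (V : Set G) →
      (∀ l ∈ DRel k, ev (lett s r w a d) l = 1) → k = 2 := by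
    intro w d E' hd hD
    have hall : ∀ l ∈ MRel ++ DRel k, ev (lett s r w a d) l = 1 := fun l hl => by
      rcases List.mem_append.1 hl with h | h
      · exact E'.mrel S d l h
      · exact hD l h
    have hk4 : k < 4 := ZMod.val_lt k0
    have hMm : s ∈ normalizer (V : Set G) ∧ r ∈ normalizer (V : Set G) ∧
        w ∈ normalizer (V : Set G) ∧ a ∈ normalizer (V : Set G) :=
      ⟨E'.sM, E'.rM, E'.wM, S.A_le (S.Cy_le_A E'.aCy)⟩
    have e0' : MRel ++ DRel 0 = HSK0.relWords := by decide +kernel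
    have e1' : MRel ++ DRel 1 = HSK1.relWords := by decide +kernel
    have e3' : MRel ++ DRel 3 = HSK3.relWords := by decide +kernel
    interval_cases k
    · exact (false_of_collapse HSK0.enum (by decide +kernel)
        (fun l hl => hall l (e0'.symm ▸ hl)) hMm hd).elim
    · exact (false_of_collapse HSK1.enum (by decide +kernel)
        (fun l hl => hall l (e1'.symm ▸ hl)) hMm hd).elim
    · rfl
    · exact (false_of_collapse HSK3.enum (by decide +kernel)
        (fun l hl => hall l (e3'.symm ▸ hl)) hMm hd).elim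
  obtain ⟨f, hfs, hfk, hr0, hd0, hw0, h10, hfr, hfd, hX, hO⟩ := Sd.exists_f
  rcases alpha_unique α c1 c2 c3 with rfl | rfl
  · have hD := drel S E k Sd.dd Sd.dr Sd.da (by
      rw [← hφ, ← hv, hvα, h0, one_mul]) hk' Sd.cube
    have hk2 := hfin E Sd.dM hD
    rw [hk2] at hD
    exact ⟨s, r, w, a, d, E, Sd.dH, Sd.dM, fun l hl => by
      rcases List.mem_append.1 hl with h | h
      · exact hrel l h
      · exact hD l h, f, hfs, hfk, hr0, hd0, hw0, h10, hfr, hfd, hX, hO⟩
  · -- replace `w` by `t w` and `d` by `t d`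
    have htt := S.t_sq
    set w' := t * w with hw'
    set d' := t * d with hd'
    have htM : t ∈ normalizer (V : Set G) := S.A_le (S.V_le_A S.tV)
    have htA : t ∈ AA V := S.V_le_A S.tV
    have hactW' : ∀ u, w' * φ u * w'⁻¹ = φ (LW u) := fun u => by
      rw [show w' * φ u * w'⁻¹ = t * (w * φ u * w⁻¹) * t⁻¹ by rw [hw']; group, hφ, E.actW]
      exact Setup.act_of_mem htA (hA _) S
    have hwr' : w' * r * w'⁻¹ = r⁻¹ := by
      rw [show w' * r * w'⁻¹ = t * (w * r * w⁻¹) * t⁻¹ by rw [hw']; group, E.wr,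
        htc _ (inv_mem (F.r_H S)), mul_inv_cancel_right]
    have hw2' : w' * w' = 1 := by
      calc w' * w' = t * (w * t) * w := by rw [hw']; group
        _ = t * t * (w * w) := by rw [← htc w hwH]; group
        _ = 1 := by rw [htt, E.w2, mul_one]
    have hsw' : (s * w') ^ 3 = 1 := by
      have h := hM tw_cube_check
      rw [ev_powW, ev_nil, ev_cons, ev_cons, ev_cons, ev_single] at h
      rw [hw', ← haa, mul_assoc a a w]
      exact h
    have E' : Exact t R Cy V s r w' a :=
      ⟨⟨F.sM, F.rM, mul_mem htM F.wM, F.aCy, F.ha4, F.haa, F.inj, F.surj, F.actS, F.actR, hactW',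
        F.r_cube, hwr', F.ms, F.mrs, by rw [hw2']; exact one_mem _, by rw [hsw']; exact one_mem _⟩,
        E.s7, E.rs, hw2', hsw'⟩
    have hdM' : d' ∉ normalizer (V : Set G) := fun h => Sd.dM (by
      have := mul_mem htM h
      rwa [hd', ← mul_assoc, htt, one_mul] at this)
    have hp' : ev (lett s r w' a d') pW = φ (0, 0, 2) * p := by
      have h := hM p_swap_check
      rw [hφ2, hp, ← ev_append, ← h, hw', ← haa]
      simp [ev, pW, lett, mul_assoc]
    have hD := drel S E' k (d := d') (by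
        calc d' * d' = t * (d * t) * d := by rw [hd']; group
          _ = t * t * (d * d) := by rw [← htc d Sd.dH]; group
          _ = 1 := by rw [htt, Sd.dd, mul_one])
      (by rw [hd', mul_assoc, Sd.dr, ← mul_assoc, htc r (F.r_H S), mul_assoc])
      (by
        rw [show d' * a * d'⁻¹ = t * (d * a * d⁻¹) * t⁻¹ by rw [hd']; group, Sd.da,
          htc _ (inv_mem (S.R_le (S.Cy_le F.aCy))), mul_inv_cancel_right])
      (by
        rw [hp', ← hvα, hv, hd', hφ,
          show t * d * phi a (A1 s a) (A2 s a) (2, 0, 2) * (t * d)⁻¹ =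
            t * (d * phi a (A1 s a) (A2 s a) (2, 0, 2) * d⁻¹) * t⁻¹ by group,
          htc _ (S.R_le Sd.vR), mul_inv_cancel_right])
      (by
        rw [hd', hw']
        calc t * w * (t * d) * (t * w) = t * (w * t) * (d * t) * w := by group
          _ = t * t * (t * (w * d * w)) := by
              rw [← htc w hwH, ← htc d Sd.dH]
              rw [show t * (t * w) * (t * d) * w = t * (t * ((w * t) * (d * w))) by group, ← htc w hwH]
              group
          _ = t * d * a ^ k := by rw [htt, one_mul, hk', mul_assoc])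
      (by
        have e : d' * (A1 s a * w' * (A1 s a)⁻¹) = d * (A1 s a * w * (A1 s a)⁻¹) := by
          calc d' * (A1 s a * w' * (A1 s a)⁻¹) = t * d * (A1 s a * t) * w * (A1 s a)⁻¹ := by
                rw [hd', hw']; group
            _ = t * (d * t) * A1 s a * w * (A1 s a)⁻¹ := by rw [← htc _ h1H]; group
            _ = t * t * d * A1 s a * w * (A1 s a)⁻¹ := by rw [← htc d Sd.dH]; group
            _ = _ := by rw [htt]; group
        rw [e]; exact Sd.cube)
    have hk2 := hfin E' hdM' hD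
    rw [hk2] at hD
    have htR : t ∈ R := S.Cy_le S.cy_t
    have htH : t ∈ centralizer ({t} : Set G) := S.R_le htR
    refine ⟨s, r, w', a, d', E', mul_mem htH Sd.dH, hdM', fun l hl => ?_, f, hfs, hfk, hr0,
      mul_mem htH hd0, mul_mem htH hw0, h10, hfr, ?_, hX, ?_⟩
    · rcases List.mem_append.1 hl with h | h
      · exact E'.mrel S d' l h
      · exact hD l h
    · show f (⟨t, htH⟩ * ⟨d, hd0⟩) = tau
      rw [map_mul, (hfk ⟨t, htH⟩).2 htR, one_mul, hfd]
    · show OCond _ (f (⟨t, htH⟩ * ⟨w, hw0⟩))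
      rw [map_mul, (hfk ⟨t, htH⟩).2 htR, one_mul]
      exact hO

end Cfsg.Agent.Lib.HS60
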