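import Cfsg.Agent.Lib.HS60.HTable

/-!
# Words common to the normaliser of `V` and the centraliser of the involution; conjugation steps

Owner: helper60.
-/

set_option autoImplicit false
set_option linter.unusedSectionVars false
set_option maxRecDepth 8000

namespace Cfsg.Agent.Lib.HS60

open Subgroup Cfsg.Agent.Lib.CosetEnum

/-- A letter of the common part as a word of the normaliser. -/
def tokM : ℕ → List ℕ
  | 0 => [2]
  | 1 => [3]
  | 2 => [4]
  | 3 => [5]
  | 4 => [6]
  | 5 => [7]
  | 6 => a1W
  | 7 => invW a1W
  | 8 => pW
  | _ => invW pW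

/-- A letter of the common part as a word of the centraliser. -/
def tokH : ℕ → List ℕ
  | 8 => hp
  | 9 => invW hp
  | g => [g]

/-- A word of the common part in the normaliser. -/
def tM (l : List ℕ) : List ℕ := l.flatMap tokM

/-- A word of the common part in the centraliser. -/
def tH (l : List ℕ) : List ℕ := l.flatMap tokH

/-- The word of `u` in the common part. -/
def uT : List ℕ := [2, 4]
/-- The word of the involution in the common part. -/
def tT : List ℕ := [4, 4]

/-- A conjugation step; `true` for the centraliser side. -/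
abbrev Step : Type := Bool × List ℕ × List ℕ

/-- A checked step from `x`. -/
noncomputable def stepOK (x : List ℕ) (st : Step) : Bool :=
  match st.1 with
  | true => eqH (conjW st.2.1 (tH x)) (tH st.2.2)
  | false => eqM (conjW st.2.1 (tM x)) (tM st.2.2)

/-- Checked steps from `x` to `y`. -/
noncomputable def chainOK : List ℕ → List Step → List ℕ → Bool
  | x, [], y => eqM (tM x) (tM y)
  | x, st :: l, y => stepOK x st && chainOK st.2.2 l y

/-- The conjugator of a step commutes with `u`. -/
noncomputable def stepU (st : Step) : Bool :=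
  match st.1 with
  | true => eqH (st.2.1 ++ tH uT) (tH uT ++ st.2.1)
  | false => eqM (st.2.1 ++ tM uT) (tM uT ++ st.2.1)

/-- All letters are small. -/
def small10 (l : List ℕ) : Bool := l.all fun g => Nat.blt g 10

variable {G : Type*} [Group G] {t : G} {R Cy V : Subgroup G} {s r w a d : G}

/-- The group generated by the five elements. -/
abbrev G0 (s r w a d : G) : Subgroup G := closure (Set.range ![s, r, w, a, d])

/-- The value of a word of the common part. -/
abbrev evT (s r w a d : G) (l : List ℕ) : G :=
  ev (lett r w a (A1 s a) (ev (lett s r w a d) pW)) l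

/-- The value of the conjugator of a step. -/
def gval (s r w a d : G) (st : Step) : G :=
  match st.1 with
  | true => ev (lett r w a (A1 s a) d) st.2.1
  | false => ev (lett s r w a d) st.2.1

theorem ev_flatMap {H : Type*} [Group H] (φ ψ : ℕ → H) (f : ℕ → List ℕ) {l : List ℕ}
    (h : ∀ g ∈ l, ev φ (f g) = ψ g) : ev φ (l.flatMap f) = ev ψ l := by
  induction l with
  | nil => rfl
  | cons g l ih =>
    rw [List.flatMap_cons, ev_append, ev_cons, h g List.mem_cons_self,
      ih fun x hx => h x (List.mem_cons_of_mem _ hx)]

theorem small10_iff {l : List ℕ} : small10 l = true ↔ ∀ g ∈ l, g < 10 := by simp [small10]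

namespace Gens

variable (D : Gens t R Cy V s r w a d) (S : Setup t R Cy V)
include D S

theorem ev_tM {l : List ℕ} (hl : small10 l = true) :
    ev (lett s r w a d) (tM l) = evT s r w a d l := by
  refine ev_flatMap _ _ _ fun g hg => ?_
  have hlt := small10_iff.1 hl g hg
  interval_cases g <;> first
    | simp only [tokM, ev_single]; rfl
    | exact ev_a1W s r w a d
    | rfl
    | (show ev _ (invW a1W) = _; rw [ev_invW _ _ _ _ _ (by decide), ev_a1W]; rfl)
    | (show ev _ (invW pW) = _; rw [ev_invW _ _ _ _ _ (by decide)]; rfl)

theorem ev_tH {l : List ℕ} (hl : small10 l = true) :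
    ev (lett r w a (A1 s a) d) (tH l) = evT s r w a d l := by
  refine ev_flatMap _ _ _ fun g hg => ?_
  have hlt := small10_iff.1 hl g hg
  interval_cases g <;> first
    | simp only [tokH, ev_single]; rfl
    | exact D.ev_hp S
    | (show ev _ (invW hp) = _; rw [ev_invW _ _ _ _ _ (by decide), D.ev_hp S]; rfl)

theorem evT_uT : evT s r w a d uT = w * a := by simp [evT, uT, ev, lett]

theorem evT_tT : evT s r w a d tT = t := by
  simp [evT, tT, ev, lett, D.exact_M.haa]

theorem M_mem {l : List ℕ} (hl : smallM l = true) : ev (lett s r w a d) l ∈ G0 s r w a d := by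
  simp only [smallM, List.all_eq_true, Nat.blt_eq] at hl
  induction l with
  | nil => exact one_mem _
  | cons g l ih =>
    rw [ev_cons]
    refine mul_mem ?_ (ih fun x hx => hl x (List.mem_cons_of_mem _ hx))
    have hg := hl g List.mem_cons_self
    have h : ∀ i : Fin 5, ![s, r, w, a, d] i ∈ G0 s r w a d := fun i => subset_closure ⟨i, rfl⟩
    interval_cases g <;> first
      | exact h 0 | exact inv_mem (h 0) | exact h 1 | exact inv_mem (h 1)
      | exact h 2 | exact inv_mem (h 2) | exact h 3 | exact inv_mem (h 3)

theorem H_le [Finite G] : centralizer ({t} : Set G) ≤ G0 s r w a d := by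
  rw [← D.closureH S, closure_le]
  have h : ∀ i : Fin 5, ![s, r, w, a, d] i ∈ G0 s r w a d := fun i => subset_closure ⟨i, rfl⟩
  rintro _ ⟨i, rfl⟩
  fin_cases i
  · exact h 1
  · exact h 2
  · exact h 3
  · exact mul_mem (mul_mem (h 0) (h 3)) (inv_mem (h 0))
  · exact h 4

theorem H_mem [Finite G] {l : List ℕ} (hl : small10 l = true) :
    ev (lett r w a (A1 s a) d) l ∈ centralizer ({t} : Set G) := by
  rw [← D.closureH S]
  replace hl := small10_iff.1 hl
  induction l with
  | nil => exact one_mem _
  | cons g l ih =>
    rw [ev_cons]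
    refine mul_mem ?_ (ih fun x hx => hl x (List.mem_cons_of_mem _ hx))
    have hg := hl g List.mem_cons_self
    have h : ∀ i : Fin 5, ![r, w, a, A1 s a, d] i ∈ closure (Set.range ![r, w, a, A1 s a, d]) :=
      fun i => subset_closure ⟨i, rfl⟩
    interval_cases g <;> first
      | exact h 0 | exact inv_mem (h 0) | exact h 1 | exact inv_mem (h 1)
      | exact h 2 | exact inv_mem (h 2) | exact h 3 | exact inv_mem (h 3)
      | exact h 4 | exact inv_mem (h 4)

theorem step_sound {x : List ℕ} {st : Step} (hx : small10 x = true) (hy : small10 st.2.2 = true)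
    (hg : small10 st.2.1 = true) (h : stepOK x st = true) :
    gval s r w a d st * evT s r w a d x * (gval s r w a d st)⁻¹ = evT s r w a d st.2.2 := by
  obtain ⟨sd, g, y⟩ := st
  cases sd
  · have e := eq_of_eqM (D.mrel S) (h : eqM (conjW g (tM x)) (tM y) = true)
    rw [ev_conjW _ _ _ _ _ (small10_iff.1 hg), D.ev_tM S hx, D.ev_tM S hy] at e
    exact e
  · have e := D.eq_of_eqH S (h : eqH (conjW g (tH x)) (tH y) = true)
    rw [ev_conjW _ _ _ _ _ (small10_iff.1 hg), D.ev_tH S hx, D.ev_tH S hy] at e
    exact e

theorem chain_sound (K : Subgroup G) : ∀ {steps : List Step} {x y : List ℕ},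
    small10 x = true → small10 y = true →
    (steps.all fun st => small10 st.2.1 && small10 st.2.2) = true → chainOK x steps y = true →
    (∀ st ∈ steps, gval s r w a d st ∈ K) →
    ∃ g ∈ K, g * evT s r w a d x * g⁻¹ = evT s r w a d y := by
  intro steps
  induction steps with
  | nil =>
    intro x y hx hy _ h _
    have e := eq_of_eqM (D.mrel S) (h : eqM (tM x) (tM y) = true)
    rw [D.ev_tM S hx, D.ev_tM S hy] at e
    exact ⟨1, one_mem _, by rw [one_mul, inv_one, mul_one, e]⟩
  | cons st l ih =>
    intro x y hx hy hs h hK
    simp only [List.all_cons, Bool.and_eq_true] at hs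
    rw [chainOK, Bool.and_eq_true] at h
    obtain ⟨g, hg, e⟩ := ih hs.1.2 hy hs.2 h.2 fun st' h' => hK st' (List.mem_cons_of_mem _ h')
    refine ⟨g * gval s r w a d st, mul_mem hg (hK st List.mem_cons_self), ?_⟩
    rw [← e, ← D.step_sound S hx hs.1.2 hs.1.1 h.1]
    group

theorem smallM_of_eqM {g l l' : List ℕ} (h : eqM (g ++ l) l' = true) : smallM g = true := by
  simp only [eqM, smallM, Bool.and_eq_true, List.all_append] at h
  exact h.1.1.1

theorem gval_mem_G0 [Finite G] {x : List ℕ} {st : Step} (hg : small10 st.2.1 = true)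
    (h : stepOK x st = true) : gval s r w a d st ∈ G0 s r w a d := by
  obtain ⟨sd, g, y⟩ := st
  cases sd
  · refine D.M_mem S ?_
    have h' : eqM (conjW g (tM x)) (tM y) = true := h
    rw [conjW, List.append_assoc] at h'
    exact D.smallM_of_eqM S h'
  · exact D.H_le S (D.H_mem S hg)

theorem gval_mem_U {st : Step} (hg : small10 st.2.1 = true) (h : stepU st = true) :
    gval s r w a d st ∈ centralizer ({w * a} : Set G) := by
  obtain ⟨sd, g, y⟩ := st
  rw [mem_centralizer_singleton_iff, ← D.evT_uT S]
  cases sd
  · have e := eq_of_eqM (D.mrel S) (h : eqM (g ++ tM uT) (tM uT ++ g) = true)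
    rw [ev_append, ev_append, D.ev_tM S (by decide)] at e
    exact e
  · have e := D.eq_of_eqH S (h : eqH (g ++ tH uT) (tH uT ++ g) = true)
    rw [ev_append, ev_append, D.ev_tH S (by decide)] at e
    exact e

theorem chain_G0 [Finite G] : ∀ {steps : List Step} {x y : List ℕ},
    small10 x = true → small10 y = true →
    (steps.all fun st => small10 st.2.1 && small10 st.2.2) = true → chainOK x steps y = true →
    ∃ g ∈ G0 s r w a d, g * evT s r w a d x * g⁻¹ = evT s r w a d y := by
  intro steps x y hx hy hs h
  refine D.chain_sound S _ hx hy hs h ?_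
  clear hx hy
  induction steps generalizing x with
  | nil => intro st hst; cases hst
  | cons st l ih =>
    intro st' hst'
    simp only [List.all_cons, Bool.and_eq_true] at hs
    rw [chainOK, Bool.and_eq_true] at h
    rcases List.mem_cons.1 hst' with rfl | hst'
    · exact D.gval_mem_G0 S hs.1.1 h.1
    · exact ih hs.2 h.2 st' hst'

end Gens

/-- A finite set of elements closed under right multiplication by generators contains their closure. -/
theorem closure_subset_of_closed [Finite G] {gen els : List G} (h1 : (1 : G) ∈ els)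
    (h : ∀ x ∈ els, ∀ g ∈ gen, x * g ∈ els) :
    ∀ x ∈ closure {g | g ∈ gen}, x ∈ els := by
  intro x hx
  induction hx using closure_induction_right with
  | one => exact h1
  | mul_right y _ g hg ih => exact h y ih g hg
  | mul_inv_cancel y _ g hg ih =>
    have hpow : ∀ n : ℕ, y * g ^ n ∈ els := by
      intro n
      induction n with
      | zero => rw [pow_zero, mul_one]; exact ih
      | succ n ihn => rw [pow_succ, ← mul_assoc]; exact h _ ihn g hg
    have e : g⁻¹ = g ^ (orderOf g - 1) := inv_eq_of_mul_eq_one_right (by
      rw [← pow_succ', Nat.sub_add_cancel (orderOf_pos g), pow_orderOf_eq_one])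
    rw [e]
    exact hpow _

end Cfsg.Agent.Lib.HS60
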